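import Cfsg.Prelude.Def_ChevStructure
import Cfsg.Prelude.Def_LieTypes
import Cfsg.Prelude.Def_ChevB2
import Cfsg.Prelude.Def_ChevD4

set_option autoImplicit false

namespace Cfsg.Agent.Helper6

open Cfsg.Lie

/-- The seven tabulated data. -/
def IsTabulated (D : ChevalleyDatum) : Prop :=
  D ∈ [chevG2, chevB2, chevD4, chevF4, chevE6, chevE7, chevE8]

/-- `-r` is a root different from `r`. -/
def NegOK (D : ChevalleyDatum) : Prop :=
  ∀ r < D.nroots, D.neg r < D.nroots ∧ D.neg r ≠ r ∧ D.neg (D.neg r) = r

instance (D : ChevalleyDatum) : Decidable (NegOK D) := by unfold NegOK; infer_instance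

/-- every root is positive or negative, not both -/
def SignOK (D : ChevalleyDatum) : Prop :=
  ∀ r < D.nroots, (D.IsPosRoot r ∨ D.IsNegRoot r) ∧ ¬ (D.IsPosRoot r ∧ D.IsNegRoot r)

instance (D : ChevalleyDatum) : Decidable (SignOK D) := by unfold SignOK; infer_instance

set_option maxRecDepth 100000 in
theorem negOK_of_tabulated {D : ChevalleyDatum} (hD : IsTabulated D) : NegOK D := by
  simp only [IsTabulated, List.mem_cons, List.not_mem_nil, or_false] at hD
  rcases hD with rfl | rfl | rfl | rfl | rfl | rfl | rfl <;> decide +kernel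

set_option maxRecDepth 100000 in
theorem signOK_of_tabulated {D : ChevalleyDatum} (hD : IsTabulated D) : SignOK D := by
  simp only [IsTabulated, List.mem_cons, List.not_mem_nil, or_false] at hD
  rcases hD with rfl | rfl | rfl | rfl | rfl | rfl | rfl <;> decide +kernel

/-- chunking of a bounded universal statement into four blocks of 60 (used for the 240 roots of E8) -/
theorem forall_lt_240 {P : ℕ → Prop} (h0 : ∀ r < 60, P r) (h1 : ∀ r < 60, P (r + 60))
    (h2 : ∀ r < 60, P (r + 120)) (h3 : ∀ r < 60, P (r + 180)) : ∀ r < 240, P r := by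
  intro r hr
  by_cases c0 : r < 60
  · exact h0 r c0
  by_cases c1 : r < 120
  · have := h1 (r - 60) (by omega)
    rwa [Nat.sub_add_cancel (by omega)] at this
  by_cases c2 : r < 180
  · have := h2 (r - 120) (by omega)
    rwa [Nat.sub_add_cancel (by omega)] at this
  · have := h3 (r - 180) (by omega)
    rwa [Nat.sub_add_cancel (by omega)] at this

/-- chunking into two blocks of 63 (used for the 126 roots of E7) -/
theorem forall_lt_126 {P : ℕ → Prop} (h0 : ∀ r < 63, P r) (h1 : ∀ r < 63, P (r + 63)) :
    ∀ r < 126, P r := by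
  intro r hr
  by_cases c0 : r < 63
  · exact h0 r c0
  · have := h1 (r - 63) (by omega)
    rwa [Nat.sub_add_cancel (by omega)] at this

end Cfsg.Agent.Helper6
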