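import Mathlib
import Cfsg.Agent.Helper6.Chev.Tables

set_option autoImplicit false

namespace Cfsg.Agent.Helper6

open Cfsg.Lie

variable (D : ChevalleyDatum) (F : Type*) [Field F]

/-- `e_u`, zero if out of range -/
def ev (u : ℕ) : D.Idx → F := if h : u < D.nroots then Pi.single (Sum.inr ⟨u, h⟩) 1 else 0

/-- `h_{p_i}`, zero if out of range -/
def hv (i : ℕ) : D.Idx → F := if h : i < D.rank then Pi.single (Sum.inl ⟨i, h⟩) 1 else 0

/-- coroot coefficient `c_i(r)` -/
def corootC (r i : ℕ) : ℤ := (D.coroot.getD r #[]).getD i 0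

/-- the coroot vector `h_r = Σ c_i(r) h_i` -/
def hr (r : ℕ) : D.Idx → F := ∑ i ∈ Finset.range D.rank, ((corootC D r i : ℤ) : F) • hv D F i

/-- chain sum `Σ_k M_k t^(k0+k+1) e_{u_k}` over a chain entry list -/
def chainVec (t : F) : ℕ → List (ℕ × ℤ) → (D.Idx → F)
  | _, [] => 0
  | k, (q :: L) => (((q.2 : ℤ) : F) * t ^ (k + 1)) • ev D F q.1 + chainVec t (k + 1) L

variable {D F}

theorem ev_apply_inl (u : ℕ) (i : Fin D.rank) : ev D F u (Sum.inl i) = 0 := by
  unfold ev; split_ifs <;> simp

theorem ev_apply_inr (u : ℕ) (v : Fin D.nroots) : ev D F u (Sum.inr v) = if v.val = u then 1 else 0 := by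
  unfold ev
  split_ifs with h1 h2 h2
  · subst h2; simp
  · rw [Pi.single_apply, if_neg]
    intro h; apply h2; simp only [Sum.inr.injEq] at h; rw [h]
  · exfalso; omega
  · rfl

theorem hv_apply_inr (i : ℕ) (v : Fin D.nroots) : hv D F i (Sum.inr v) = 0 := by
  unfold hv; split_ifs <;> simp

theorem hv_apply_inl (i : ℕ) (j : Fin D.rank) : hv D F i (Sum.inl j) = if j.val = i then 1 else 0 := by
  unfold hv
  split_ifs with h1 h2 h2
  · subst h2; simp
  · rw [Pi.single_apply, if_neg]
    intro h; apply h2; simp only [Sum.inl.injEq] at h; rw [h]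
  · exfalso; omega
  · rfl

theorem ev_of_lt {u : ℕ} (h : u < D.nroots) : ev D F u = Pi.single (Sum.inr ⟨u, h⟩) 1 := by
  unfold ev; rw [dif_pos h]

theorem hv_of_lt {i : ℕ} (h : i < D.rank) : hv D F i = Pi.single (Sum.inl ⟨i, h⟩) 1 := by
  unfold hv; rw [dif_pos h]

theorem mulVec_ev (A : Matrix D.Idx D.Idx F) {u : ℕ} (h : u < D.nroots) :
    A.mulVec (ev D F u) = fun row => A row (Sum.inr ⟨u, h⟩) := by
  rw [ev_of_lt h, Matrix.mulVec_single_one]; rfl

theorem mulVec_hv (A : Matrix D.Idx D.Idx F) {i : ℕ} (h : i < D.rank) :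
    A.mulVec (hv D F i) = fun row => A row (Sum.inl ⟨i, h⟩) := by
  rw [hv_of_lt h, Matrix.mulVec_single_one]; rfl

/-- Two matrices agreeing on all basis vectors are equal. -/
theorem matrix_ext_basis {A B : Matrix D.Idx D.Idx F}
    (h1 : ∀ i < D.rank, A.mulVec (hv D F i) = B.mulVec (hv D F i))
    (h2 : ∀ s < D.nroots, A.mulVec (ev D F s) = B.mulVec (ev D F s)) : A = B := by
  ext row col
  rcases col with i | s
  · have := h1 i.val i.isLt
    rw [mulVec_hv A i.isLt, mulVec_hv B i.isLt] at this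
    exact congrFun this row
  · have := h2 s.val s.isLt
    rw [mulVec_ev A s.isLt, mulVec_ev B s.isLt] at this
    exact congrFun this row

theorem chainVec_apply_inl (t : F) (k : ℕ) (L : List (ℕ × ℤ)) (i : Fin D.rank) :
    chainVec D F t k L (Sum.inl i) = 0 := by
  induction L generalizing k with
  | nil => rfl
  | cons q L ih =>
    simp only [chainVec, Pi.add_apply, Pi.smul_apply, ev_apply_inl, smul_zero, zero_add]
    exact ih (k + 1)

theorem chainVec_apply_inr (t : F) (k : ℕ) (L : List (ℕ × ℤ)) (u : Fin D.nroots) :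
    chainVec D F t k L (Sum.inr u) =
      (((L.zipIdx k).filter (fun q => q.1.1 = u.val)).map
        (fun q => ((q.1.2 : ℤ) : F) * t ^ (q.2 + 1))).sum := by
  induction L generalizing k with
  | nil => simp [chainVec]
  | cons q L ih =>
    simp only [chainVec, Pi.add_apply, Pi.smul_apply, ev_apply_inr, List.zipIdx_cons]
    rw [ih (k + 1)]
    by_cases h : q.1 = u.val
    · rw [List.filter_cons_of_pos (by simpa using h)]
      simp [h]
    · rw [List.filter_cons_of_neg (by simpa using h)]
      have : ¬ u.val = q.1 := fun h' => h h'.symm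
      simp [this]

end Cfsg.Agent.Helper6
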