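import Mathlib
import Cfsg.Agent.Helper6.Chev.Vec

set_option autoImplicit false

namespace Cfsg.Agent.Helper6

open Cfsg.Lie

/-- keys of `chain[r]` are strictly increasing -/
def KeysSorted (D : ChevalleyDatum) : Prop :=
  ∀ r < D.nroots, ((D.chain.getD r #[]).toList.map Prod.fst).IsChain (· < ·)

instance (D : ChevalleyDatum) : Decidable (KeysSorted D) := by unfold KeysSorted; infer_instance

/-- keys of `chain[r]` are distinct -/
def KeysOK (D : ChevalleyDatum) : Prop :=
  ∀ r < D.nroots, ((D.chain.getD r #[]).toList.map Prod.fst).Nodup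

theorem KeysSorted.keysOK {D : ChevalleyDatum} (h : KeysSorted D) : KeysOK D := by
  intro r hr
  have := h r hr
  rw [List.isChain_iff_pairwise] at this
  exact this.nodup

theorem filter_eq_find_toList {α β : Type*} [DecidableEq β] (f : α → β) (s : β) (l : List α)
    (h : (l.map f).Nodup) :
    l.filter (fun e => f e = s) = (l.find? (fun e => f e = s)).toList := by
  induction l with
  | nil => rfl
  | cons a l ih =>
    rw [List.map_cons, List.nodup_cons] at h
    by_cases ha : f a = s
    · rw [List.filter_cons_of_pos (by simpa using ha), List.find?_cons_of_pos (by simpa using ha)]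
      simp only [Option.toList_some, List.cons.injEq, true_and]
      rw [List.filter_eq_nil_iff]
      intro b hb
      simp only [decide_eq_true_eq]
      intro hbs
      apply h.1
      rw [ha, ← hbs]
      exact List.mem_map_of_mem hb
    · rw [List.filter_cons_of_neg (by simpa using ha), List.find?_cons_of_neg (by simpa using ha)]
      exact ih h.2

variable {D : ChevalleyDatum} {F : Type*} [Field F]

theorem chainCoeff_eq (hK : KeysOK D) {r : ℕ} (hr : r < D.nroots) (s u : ℕ) :
    D.chainCoeff r s u =
      ((D.chainEntry r s).zipIdx.filter (fun q => q.1.1 = u)).map (fun q => (q.2 + 1, q.1.2)) := by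
  unfold ChevalleyDatum.chainCoeff ChevalleyDatum.chainEntry
  rw [filter_eq_find_toList Prod.fst s _ (hK r hr)]
  cases h : (D.chain.getD r #[]).toList.find? (fun e => e.1 = s) with
  | none => simp
  | some e => simp

/-- column of `x_r(t)` at `h_i` -/
theorem xMat_mulVec_hv (r : Fin D.nroots) (t : F) {i : ℕ} (hi : i < D.rank) :
    (D.xMat F r t).mulVec (hv D F i) = hv D F i - (((D.cartan i r.val : ℤ) : F) * t) • ev D F r.val := by
  rw [mulVec_hv _ hi]
  funext row
  rcases row with i' | u
  · simp only [ChevalleyDatum.xMat, Matrix.of_apply, Pi.sub_apply, Pi.smul_apply, ev_apply_inl,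
      hv_apply_inl, smul_zero, sub_zero]
    by_cases h : i'.val = i
    · have : i' = ⟨i, hi⟩ := Fin.ext h
      simp [this]
    · have : i' ≠ ⟨i, hi⟩ := fun h' => h (by rw [h'])
      simp [this, h]
  · simp only [ChevalleyDatum.xMat, Matrix.of_apply, Pi.sub_apply, Pi.smul_apply, ev_apply_inr,
      hv_apply_inr, zero_sub, ChevalleyDatum.cartan]
    by_cases h : u = r
    · simp [h]
    · have : ¬ u.val = r.val := fun h' => h (Fin.ext h')
      simp [h, this]

/-- column of `x_r(t)` at `e_r` -/
theorem xMat_mulVec_ev_self (r : Fin D.nroots) (t : F) :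
    (D.xMat F r t).mulVec (ev D F r.val) = ev D F r.val := by
  rw [mulVec_ev _ r.isLt]
  funext row
  rcases row with i' | u
  · simp [ChevalleyDatum.xMat, ev_apply_inl]
  · simp only [ChevalleyDatum.xMat, Matrix.of_apply, ev_apply_inr, Fin.eta, if_true]
    by_cases h : u = r
    · simp [h]
    · have : ¬ u.val = r.val := fun h' => h (Fin.ext h')
      simp [h, this]

/-- column of `x_r(t)` at `e_{-r}` -/
theorem xMat_mulVec_ev_neg (hN : NegOK D) (r : Fin D.nroots) (t : F) :
    (D.xMat F r t).mulVec (ev D F (D.neg r.val)) =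
      ev D F (D.neg r.val) + t • hr D F r.val - t ^ 2 • ev D F r.val := by
  obtain ⟨h1, h2, _⟩ := hN r.val r.isLt
  rw [mulVec_ev _ h1]
  have hne : (⟨D.neg r.val, h1⟩ : Fin D.nroots) ≠ r := fun h => h2 (congrArg Fin.val h)
  have hne' : r ≠ (⟨D.neg r.val, h1⟩ : Fin D.nroots) := fun h => hne h.symm
  have h2' : r.val ≠ D.neg r.val := fun h => h2 h.symm
  have hnegdef : D.negIdx.getD r.val 0 = D.neg r.val := rfl
  funext row
  rcases row with i' | u
  · simp only [ChevalleyDatum.xMat, Matrix.of_apply, hne, if_false, hnegdef, if_true,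
      Pi.add_apply, Pi.sub_apply, Pi.smul_apply, ev_apply_inl, smul_zero, sub_zero, zero_add]
    unfold hr
    rw [Finset.sum_apply, Finset.sum_eq_single i'.val]
    · simp [hv_apply_inl, corootC, mul_comm]
    · intro b _ hb
      have : ¬ i'.val = b := fun h => hb h.symm
      simp [hv_apply_inl, this]
    · intro h
      exact absurd (Finset.mem_range.2 i'.isLt) h
  · simp only [ChevalleyDatum.xMat, Matrix.of_apply, hne, if_false, hnegdef, if_true,
      Pi.add_apply, Pi.sub_apply, Pi.smul_apply, ev_apply_inr]
    have hhr : hr D F r.val (Sum.inr u) = 0 := by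
      unfold hr
      rw [Finset.sum_apply]
      apply Finset.sum_eq_zero
      intro i _
      simp [hv_apply_inr]
    rw [hhr]
    by_cases hu1 : u = ⟨D.neg r.val, h1⟩
    · have hu2 : u.val = D.neg r.val := by rw [hu1]
      simp [hu1, h2]
    · have hu2 : ¬ u.val = D.neg r.val := fun h => hu1 (Fin.ext h)
      by_cases hu3 : u = r
      · simp [hu3, hne', h2']
      · have hu4 : ¬ u.val = r.val := fun h => hu3 (Fin.ext h)
        simp [hu1, hu2, hu3, hu4]

/-- column of `x_r(t)` at `e_s`, `s ≠ ±r` -/
theorem xMat_mulVec_ev (hK : KeysOK D) (r : Fin D.nroots) (t : F) {s : ℕ} (hs : s < D.nroots)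
    (h1 : s ≠ r.val) (h2 : s ≠ D.neg r.val) :
    (D.xMat F r t).mulVec (ev D F s) = ev D F s + chainVec D F t 0 (D.chainEntry r.val s) := by
  rw [mulVec_ev _ hs]
  have hne : (⟨s, hs⟩ : Fin D.nroots) ≠ r := fun h => h1 (by rw [← h])
  have hnegdef : D.negIdx.getD r.val 0 = D.neg r.val := rfl
  funext row
  rcases row with i' | u
  · simp [ChevalleyDatum.xMat, hne, hnegdef, h2, ev_apply_inl, chainVec_apply_inl]
  · simp only [ChevalleyDatum.xMat, Matrix.of_apply, hne, if_false, hnegdef, h2,
      Pi.add_apply, ev_apply_inr, chainVec_apply_inr, chainCoeff_eq hK r.isLt, List.map_map]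
    congr 1
    by_cases hu : u = ⟨s, hs⟩
    · have : u.val = s := by rw [hu]
      simp [hu]
    · have : ¬ u.val = s := fun h => hu (Fin.ext h)
      simp [hu, this]

end Cfsg.Agent.Helper6
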