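import Mathlib
import Cfsg.Agent.Helper6.Chev.Cols

set_option autoImplicit false

namespace Cfsg.Agent.Helper6

open Cfsg.Lie

/-- `Σ_i c_i(r) A_{i,r} = 2` -/
def CorootOK (D : ChevalleyDatum) : Prop :=
  ∀ r < D.nroots, ∑ i ∈ Finset.range D.rank, corootC D r i * D.cartan i r = 2

instance (D : ChevalleyDatum) : Decidable (CorootOK D) := by unfold CorootOK; infer_instance

/-- the root `u` is a legitimate member of an `r`-chain -/
def MemOK (D : ChevalleyDatum) (r u : ℕ) : Prop := u < D.nroots ∧ u ≠ r ∧ u ≠ D.neg r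

instance (D : ChevalleyDatum) (r u : ℕ) : Decidable (MemOK D r u) := by unfold MemOK; infer_instance

/-- consistency of the `r`-chain `L` with the chains through its members -/
def ChainRel (D : ChevalleyDatum) (r : ℕ) : List (ℕ × ℤ) → Prop
  | [] => True
  | [a] => MemOK D r a.1 ∧ D.chainEntry r a.1 = []
  | [a, b] => MemOK D r a.1 ∧ MemOK D r b.1 ∧
      (D.chainEntry r a.1).map Prod.fst = [b.1] ∧
      (D.chainEntry r a.1).map (fun q => a.2 * q.2) = [2 * b.2] ∧
      D.chainEntry r b.1 = []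
  | [a, b, c] => MemOK D r a.1 ∧ MemOK D r b.1 ∧ MemOK D r c.1 ∧
      (D.chainEntry r a.1).map Prod.fst = [b.1, c.1] ∧
      (D.chainEntry r a.1).map (fun q => a.2 * q.2) = [2 * b.2, 3 * c.2] ∧
      (D.chainEntry r b.1).map Prod.fst = [c.1] ∧
      (D.chainEntry r b.1).map (fun q => b.2 * q.2) = [3 * c.2] ∧
      D.chainEntry r c.1 = []
  | _ => False

instance decChainRel (D : ChevalleyDatum) (r : ℕ) : ∀ L, Decidable (ChainRel D r L)
  | [] => inferInstanceAs (Decidable True)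
  | [_] => inferInstanceAs (Decidable (_ ∧ _))
  | [_, _] => inferInstanceAs (Decidable (_ ∧ _))
  | [_, _, _] => inferInstanceAs (Decidable (_ ∧ _))
  | _ :: _ :: _ :: _ :: _ => inferInstanceAs (Decidable False)

/-- all chains in the table are consistent -/
def ChainOK (D : ChevalleyDatum) : Prop :=
  ∀ r < D.nroots, ∀ e ∈ (D.chain.getD r #[]).toList, ChainRel D r e.2.toList

instance (D : ChevalleyDatum) : Decidable (ChainOK D) := by unfold ChainOK; infer_instance

theorem chainRel_chainEntry {D : ChevalleyDatum} (h : ChainOK D) {r : ℕ} (hr : r < D.nroots) (s : ℕ) :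
    ChainRel D r (D.chainEntry r s) := by
  unfold ChevalleyDatum.chainEntry
  cases hf : (D.chain.getD r #[]).toList.find? (fun e => e.1 = s) with
  | none => trivial
  | some e => exact h r hr e (List.mem_of_find?_eq_some hf)

variable {D : ChevalleyDatum} {F : Type*} [Field F]

theorem list_eq_one {L : List (ℕ × ℤ)} {u : ℕ} {a m : ℤ} (h1 : L.map Prod.fst = [u])
    (h2 : L.map (fun q => a * q.2) = [m]) : ∃ x : ℤ, L = [(u, x)] ∧ a * x = m := by
  match L, h1, h2 with
  | [(u', x)], h1, h2 =>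
    simp only [List.map_cons, List.map_nil, List.cons.injEq, and_true] at h1 h2
    exact ⟨x, by rw [h1], h2⟩

theorem list_eq_two {L : List (ℕ × ℤ)} {u v : ℕ} {a m n : ℤ} (h1 : L.map Prod.fst = [u, v])
    (h2 : L.map (fun q => a * q.2) = [m, n]) :
    ∃ x y : ℤ, L = [(u, x), (v, y)] ∧ a * x = m ∧ a * y = n := by
  match L, h1, h2 with
  | [(u', x), (v', y)], h1, h2 =>
    simp only [List.map_cons, List.map_nil, List.cons.injEq, and_true] at h1 h2
    exact ⟨x, y, by rw [h1.1, h1.2], h2.1, h2.2⟩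

theorem x_mulVec_ev' (hK : KeysOK D) (r : Fin D.nroots) (t : F) {s : ℕ} (hs : MemOK D r.val s) :
    (D.xMat F r t).mulVec (ev D F s) = ev D F s + chainVec D F t 0 (D.chainEntry r.val s) :=
  xMat_mulVec_ev hK r t hs.1 hs.2.1 hs.2.2

/-- additivity on `e_s`, `s ≠ ±r` -/
theorem xMat_add_ev (hK : KeysOK D) (hC : ChainOK D) (r : Fin D.nroots) (t₁ t₂ : F) {s : ℕ}
    (hs : MemOK D r.val s) :
    (D.xMat F r t₁).mulVec ((D.xMat F r t₂).mulVec (ev D F s)) =
      (D.xMat F r (t₁ + t₂)).mulVec (ev D F s) := by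
  rw [x_mulVec_ev' hK r t₂ hs, x_mulVec_ev' hK r (t₁ + t₂) hs, Matrix.mulVec_add,
    x_mulVec_ev' hK r t₁ hs]
  have hrel := chainRel_chainEntry hC r.isLt s
  match hL : D.chainEntry r.val s, hrel with
  | [], _ => simp [chainVec]
  | [a], hrel =>
    obtain ⟨ha, hae⟩ := hrel
    simp only [chainVec, add_zero, Matrix.mulVec_smul, x_mulVec_ev' hK r t₁ ha, hae, zero_add]
    module
  | [a, b], hrel =>
    obtain ⟨ha, hb, h1, h2, hbe⟩ := hrel
    obtain ⟨m, hae, hm⟩ := list_eq_one h1 h2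
    simp only [chainVec, add_zero, Matrix.mulVec_smul, Matrix.mulVec_add, x_mulVec_ev' hK r t₁ ha,
      x_mulVec_ev' hK r t₁ hb, hae, hbe, zero_add]
    have hm' : ((a.2 : ℤ) : F) * ((m : ℤ) : F) = 2 * ((b.2 : ℤ) : F) := by
      have := congrArg (Int.cast : ℤ → F) hm
      push_cast at this
      exact this
    linear_combination (norm := module) (t₁ * t₂ * hm') • ev D F b.1
  | [a, b, c], hrel =>
    obtain ⟨ha, hb, hc, h1, h2, h3, h4, hce⟩ := hrel
    obtain ⟨m, n, hae, hm, hn⟩ := list_eq_two h1 h2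
    obtain ⟨k, hbe, hk⟩ := list_eq_one h3 h4
    simp only [chainVec, add_zero, Matrix.mulVec_smul, Matrix.mulVec_add, x_mulVec_ev' hK r t₁ ha,
      x_mulVec_ev' hK r t₁ hb, x_mulVec_ev' hK r t₁ hc, hae, hbe, hce, zero_add]
    have hm' : ((a.2 : ℤ) : F) * ((m : ℤ) : F) = 2 * ((b.2 : ℤ) : F) := by
      have := congrArg (Int.cast : ℤ → F) hm
      push_cast at this
      exact this
    have hn' : ((a.2 : ℤ) : F) * ((n : ℤ) : F) = 3 * ((c.2 : ℤ) : F) := by
      have := congrArg (Int.cast : ℤ → F) hn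
      push_cast at this
      exact this
    have hk' : ((b.2 : ℤ) : F) * ((k : ℤ) : F) = 3 * ((c.2 : ℤ) : F) := by
      have := congrArg (Int.cast : ℤ → F) hk
      push_cast at this
      exact this
    linear_combination (norm := module) (t₁ * t₂ * hm') • ev D F b.1 +
      (t₁ ^ 2 * t₂ * hn') • ev D F c.1 + (t₁ * t₂ ^ 2 * hk') • ev D F c.1

end Cfsg.Agent.Helper6

namespace Cfsg.Agent.Helper6

open Cfsg.Lie

variable {D : ChevalleyDatum} {F : Type*} [Field F]

/-- `x_r(t) h_r = h_r - 2 t e_r` -/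
theorem xMat_mulVec_hr (hCo : CorootOK D) (r : Fin D.nroots) (t : F) :
    (D.xMat F r t).mulVec (hr D F r.val) = hr D F r.val - (2 * t) • ev D F r.val := by
  unfold hr
  rw [Matrix.mulVec_sum]
  have h1 : ∀ i ∈ Finset.range D.rank,
      (D.xMat F r t).mulVec (((corootC D r.val i : ℤ) : F) • hv D F i) =
        ((corootC D r.val i : ℤ) : F) • hv D F i -
          ((((corootC D r.val i * D.cartan i r.val : ℤ)) : F) * t) • ev D F r.val := by
    intro i hi
    rw [Matrix.mulVec_smul, xMat_mulVec_hv r t (Finset.mem_range.1 hi)]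
    push_cast
    module
  rw [Finset.sum_congr rfl h1, Finset.sum_sub_distrib, ← Finset.sum_smul, ← Finset.sum_mul,
    ← Int.cast_sum, hCo r.val r.isLt]
  norm_num

/-- additivity of `x_r` -/
theorem xMat_add (hN : NegOK D) (hK : KeysOK D) (hC : ChainOK D) (hCo : CorootOK D)
    (r : Fin D.nroots) (t₁ t₂ : F) :
    D.xMat F r t₁ * D.xMat F r t₂ = D.xMat F r (t₁ + t₂) := by
  apply matrix_ext_basis
  · intro i hi
    rw [← Matrix.mulVec_mulVec, xMat_mulVec_hv r t₂ hi, xMat_mulVec_hv r (t₁ + t₂) hi,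
      Matrix.mulVec_sub, Matrix.mulVec_smul, xMat_mulVec_hv r t₁ hi, xMat_mulVec_ev_self]
    module
  · intro s hs
    rw [← Matrix.mulVec_mulVec]
    by_cases h1 : s = r.val
    · subst h1
      rw [xMat_mulVec_ev_self, xMat_mulVec_ev_self, xMat_mulVec_ev_self]
    · by_cases h2 : s = D.neg r.val
      · subst h2
        rw [xMat_mulVec_ev_neg hN r t₂, xMat_mulVec_ev_neg hN r (t₁ + t₂), Matrix.mulVec_sub,
          Matrix.mulVec_add, Matrix.mulVec_smul, Matrix.mulVec_smul, xMat_mulVec_ev_neg hN r t₁,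
          xMat_mulVec_hr hCo, xMat_mulVec_ev_self]
        module
      · exact xMat_add_ev hK hC r t₁ t₂ ⟨hs, h1, h2⟩

theorem x_add (hN : NegOK D) (hK : KeysOK D) (hC : ChainOK D) (hCo : CorootOK D)
    (r : ℕ) (t₁ t₂ : F) : D.x F r t₁ * D.x F r t₂ = D.x F r (t₁ + t₂) := by
  unfold ChevalleyDatum.x
  split_ifs with h
  · exact xMat_add hN hK hC hCo ⟨r, h⟩ t₁ t₂
  · rw [one_mul]

end Cfsg.Agent.Helper6
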