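import Mathlib
import Cfsg.Agent.Helper6.Chev.Add

set_option autoImplicit false

namespace Cfsg.Agent.Helper6

open Cfsg.Lie

/-- total coefficient of the root `u` in a formal integer vector -/
def coeffOf (v : List (ℕ × ℤ)) (u : ℕ) : ℤ := ((v.filter (fun q => q.1 = u)).map Prod.snd).sum

/-- formal application of `x_r(σ)` (σ an integer) to a formal vector supported off `±r` -/
def stepL (D : ChevalleyDatum) (r : ℕ) (σ : ℤ) (v : List (ℕ × ℤ)) : List (ℕ × ℤ) :=
  v.flatMap fun q =>
    q :: ((D.chainEntry r q.1).zipIdx.map fun e => (e.1.1, q.2 * e.1.2 * σ ^ (e.2 + 1)))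

variable (D : ChevalleyDatum) (F : Type*) [Field F]

/-- the vector denoted by a formal integer combination of root vectors -/
def evalV (v : List (ℕ × ℤ)) : D.Idx → F := (v.map fun q => ((q.2 : ℤ) : F) • ev D F q.1).sum

variable {D F}

theorem evalV_nil : evalV D F [] = 0 := rfl

theorem evalV_cons (q : ℕ × ℤ) (v : List (ℕ × ℤ)) :
    evalV D F (q :: v) = ((q.2 : ℤ) : F) • ev D F q.1 + evalV D F v := by
  simp [evalV]

theorem evalV_append (v w : List (ℕ × ℤ)) : evalV D F (v ++ w) = evalV D F v + evalV D F w := by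
  simp [evalV]

theorem coeffOf_cons (q : ℕ × ℤ) (v : List (ℕ × ℤ)) (u : ℕ) :
    coeffOf (q :: v) u = (if q.1 = u then q.2 else 0) + coeffOf v u := by
  unfold coeffOf
  by_cases h : q.1 = u
  · rw [List.filter_cons_of_pos (by simpa using h)]; simp [h]
  · rw [List.filter_cons_of_neg (by simpa using h)]; simp [h]

theorem evalV_apply_inl (v : List (ℕ × ℤ)) (i : Fin D.rank) : evalV D F v (Sum.inl i) = 0 := by
  induction v with
  | nil => rfl
  | cons q v ih => rw [evalV_cons]; simp [ev_apply_inl, ih]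

theorem evalV_apply_inr (v : List (ℕ × ℤ)) (u : Fin D.nroots) :
    evalV D F v (Sum.inr u) = ((coeffOf v u.val : ℤ) : F) := by
  induction v with
  | nil => simp [evalV_nil, coeffOf]
  | cons q v ih =>
    rw [evalV_cons, coeffOf_cons, Pi.add_apply, ih, Pi.smul_apply, ev_apply_inr]
    by_cases h : u.val = q.1
    · have h' : q.1 = u.val := h.symm
      rw [if_pos h, if_pos h']
      push_cast
      simp
    · have h' : ¬ q.1 = u.val := fun e => h e.symm
      rw [if_neg h, if_neg h']
      push_cast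
      simp

theorem coeffOf_eq_zero_of_not_mem (v : List (ℕ × ℤ)) (u : ℕ) (h : ∀ q ∈ v, q.1 ≠ u) :
    coeffOf v u = 0 := by
  unfold coeffOf
  rw [List.filter_eq_nil_iff.mpr]
  · rfl
  · intro q hq; simpa using h q hq

/-- a formal vector all of whose coefficients away from `w` cancel denotes a multiple of `e_w` -/
theorem evalV_eq_single (v : List (ℕ × ℤ)) (w : ℕ)
    (h : ∀ q ∈ v, q.1 ≠ w → coeffOf v q.1 = 0) :
    evalV D F v = ((coeffOf v w : ℤ) : F) • ev D F w := by
  funext row
  rcases row with i | u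
  · rw [evalV_apply_inl]; simp [ev_apply_inl]
  · rw [evalV_apply_inr, Pi.smul_apply, ev_apply_inr]
    by_cases hu : u.val = w
    · simp [hu]
    · have : coeffOf v u.val = 0 := by
        by_cases hmem : ∃ q ∈ v, q.1 = u.val
        · obtain ⟨q, hq, hq1⟩ := hmem
          rw [← hq1]; exact h q hq (by rw [hq1]; exact hu)
        · push Not at hmem
          exact coeffOf_eq_zero_of_not_mem v _ hmem
      simp [hu, this]

theorem smul_chainVec_eq_evalV (σ a : ℤ) (k0 : ℕ) (L : List (ℕ × ℤ)) :
    ((a : ℤ) : F) • chainVec D F ((σ : ℤ) : F) k0 L =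
      evalV D F ((L.zipIdx k0).map fun e => (e.1.1, a * e.1.2 * σ ^ (e.2 + 1))) := by
  induction L generalizing k0 with
  | nil => simp [chainVec, evalV_nil]
  | cons q L ih =>
    rw [List.zipIdx_cons, List.map_cons, evalV_cons, ← ih (k0 + 1)]
    simp only [chainVec, smul_add, smul_smul]
    push_cast
    congr 2
    ring

theorem stepL_cons (r : ℕ) (σ : ℤ) (q : ℕ × ℤ) (v : List (ℕ × ℤ)) :
    stepL D r σ (q :: v) =
      (q :: ((D.chainEntry r q.1).zipIdx.map fun e => (e.1.1, q.2 * e.1.2 * σ ^ (e.2 + 1)))) ++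
        stepL D r σ v := by
  simp [stepL]

/-- correctness of the formal step -/
theorem evalV_step (hK : KeysOK D) (r : Fin D.nroots) (σ : ℤ) (v : List (ℕ × ℤ))
    (hv : ∀ q ∈ v, MemOK D r.val q.1) :
    (D.xMat F r ((σ : ℤ) : F)).mulVec (evalV D F v) = evalV D F (stepL D r.val σ v) := by
  induction v with
  | nil => simp [evalV_nil, stepL]
  | cons q v ih =>
    rw [evalV_cons, Matrix.mulVec_add, Matrix.mulVec_smul, stepL_cons, evalV_append, evalV_cons,
      ih (fun q' hq' => hv q' (List.mem_cons_of_mem _ hq')),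
      x_mulVec_ev' hK r _ (hv q List.mem_cons_self), smul_add, smul_chainVec_eq_evalV]

end Cfsg.Agent.Helper6
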