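import Mathlib
import Cfsg.Agent.Helper6.Chev.Add

set_option autoImplicit false

namespace Cfsg.Agent.Helper6

open Cfsg.Lie

variable {D : ChevalleyDatum} {F : Type*} [Field F]

/-- the diagonal matrix with entry `δ` on the Cartan part and `χ s` on `e_s` -/
def dMat (D : ChevalleyDatum) (F : Type*) [Field F] (δ : F) (χ : ℕ → F) : Matrix D.Idx D.Idx F :=
  Matrix.diagonal (Sum.elim (fun _ => δ) (fun s : Fin D.nroots => χ s.val))

theorem dMat_mulVec_hv (δ : F) (χ : ℕ → F) (i : ℕ) :
    (dMat D F δ χ).mulVec (hv D F i) = δ • hv D F i := by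
  funext row
  rw [dMat, Matrix.mulVec_diagonal]
  rcases row with j | u
  · simp
  · simp [hv_apply_inr]

theorem dMat_mulVec_ev (δ : F) (χ : ℕ → F) (u : ℕ) :
    (dMat D F δ χ).mulVec (ev D F u) = χ u • ev D F u := by
  funext row
  rw [dMat, Matrix.mulVec_diagonal]
  rcases row with j | v
  · simp [ev_apply_inl]
  · simp only [Sum.elim_inr, ev_apply_inr, Pi.smul_apply, smul_eq_mul]
    by_cases h : v.val = u
    · simp [h]
    · simp [h]

theorem dMat_mulVec_hr (δ : F) (χ : ℕ → F) (r : ℕ) :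
    (dMat D F δ χ).mulVec (hr D F r) = δ • hr D F r := by
  unfold hr
  rw [Matrix.mulVec_sum, Finset.smul_sum]
  apply Finset.sum_congr rfl
  intro i _
  rw [Matrix.mulVec_smul, dMat_mulVec_hv, smul_comm]

theorem dMat_mulVec_chainVec (δ : F) (χ : ℕ → F) (κ c0 t : F) (k0 : ℕ) (L : List (ℕ × ℤ))
    (h : ∀ (k : ℕ) (q : ℕ × ℤ), L[k]? = some q → χ q.1 = κ ^ (k0 + k + 1) * c0) :
    (dMat D F δ χ).mulVec (chainVec D F t k0 L) = c0 • chainVec D F (κ * t) k0 L := by
  induction L generalizing k0 with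
  | nil => simp [chainVec]
  | cons q L ih =>
    simp only [chainVec, Matrix.mulVec_add, Matrix.mulVec_smul, dMat_mulVec_ev, smul_add]
    have h0 := h 0 q (by simp)
    rw [ih (k0 + 1) (fun k q' hq' => by
      have := h (k + 1) q' (by simpa using hq')
      rw [this]; congr 2; omega)]
    rw [h0]
    congr 1
    simp only [smul_smul, add_zero]
    congr 1
    rw [mul_pow]; ring

/-- conjugating a root element by a diagonal matrix compatible with the `s`-chains -/
theorem dMat_mul_xMat (hN : NegOK D) (hK : KeysOK D) (δ : F) (χ : ℕ → F) (κ : F) (s : Fin D.nroots)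
    (h1 : χ s.val = κ * δ) (h2 : δ = κ * χ (D.neg s.val))
    (h3 : ∀ s', MemOK D s.val s' → ∀ (k : ℕ) (q : ℕ × ℤ), (D.chainEntry s.val s')[k]? = some q →
      χ q.1 = κ ^ (k + 1) * χ s')
    (t : F) : dMat D F δ χ * D.xMat F s t = D.xMat F s (κ * t) * dMat D F δ χ := by
  apply matrix_ext_basis
  · intro i hi
    rw [← Matrix.mulVec_mulVec, ← Matrix.mulVec_mulVec, xMat_mulVec_hv s t hi, dMat_mulVec_hv,
      Matrix.mulVec_smul, xMat_mulVec_hv s (κ * t) hi, Matrix.mulVec_sub, Matrix.mulVec_smul,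
      dMat_mulVec_hv, dMat_mulVec_ev, h1]
    module
  · intro s' hs'
    rw [← Matrix.mulVec_mulVec, ← Matrix.mulVec_mulVec, dMat_mulVec_ev, Matrix.mulVec_smul]
    by_cases e1 : s' = s.val
    · subst e1
      rw [xMat_mulVec_ev_self, xMat_mulVec_ev_self, dMat_mulVec_ev]
    · by_cases e2 : s' = D.neg s.val
      · subst e2
        rw [xMat_mulVec_ev_neg hN s t, xMat_mulVec_ev_neg hN s (κ * t), Matrix.mulVec_sub,
          Matrix.mulVec_add, Matrix.mulVec_smul, Matrix.mulVec_smul, dMat_mulVec_ev, dMat_mulVec_ev,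
          dMat_mulVec_hr, h1]
        have h2' : δ = κ * χ (D.neg s.val) := h2
        rw [h2']
        module
      · have hm : MemOK D s.val s' := ⟨hs', e1, e2⟩
        rw [x_mulVec_ev' hK s t hm, x_mulVec_ev' hK s (κ * t) hm, Matrix.mulVec_add,
          dMat_mulVec_ev, dMat_mulVec_chainVec δ χ κ (χ s') t 0 _ (fun k q hq => by
            rw [h3 s' hm k q hq]; congr 2; omega)]
        module

end Cfsg.Agent.Helper6
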