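import Mathlib
import Cfsg.Agent.Helper6.Chev.Diag

set_option autoImplicit false
set_option linter.unusedSectionVars false
set_option linter.unusedSimpArgs false

namespace Cfsg.Agent.Helper6

open Cfsg.Lie

/-- Cartan integers and coroot coefficients of `-r` are the negatives of those of `r` -/
def NegTabOK (D : ChevalleyDatum) : Prop :=
  ∀ r < D.nroots, (∀ i < D.rank, D.cartan i (D.neg r) = - D.cartan i r) ∧
    (∀ i < D.rank, corootC D (D.neg r) i = - corootC D r i)

instance (D : ChevalleyDatum) : Decidable (NegTabOK D) := by unfold NegTabOK; infer_instance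

/-- all the basic table facts bundled -/
structure BasicOK (D : ChevalleyDatum) : Prop where
  neg : NegOK D
  keys : KeysOK D
  chain : ChainOK D
  coroot : CorootOK D
  negTab : NegTabOK D

variable {D : ChevalleyDatum} {F : Type*} [Field F]

theorem x_of_lt {r : ℕ} (hr : r < D.nroots) (t : F) : D.x F r t = D.xMat F ⟨r, hr⟩ t := by
  unfold ChevalleyDatum.x; rw [dif_pos hr]

theorem hr_neg (hT : NegTabOK D) {r : ℕ} (hr' : r < D.nroots) : hr D F (D.neg r) = - hr D F r := by
  unfold hr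
  rw [← Finset.sum_neg_distrib]
  apply Finset.sum_congr rfl
  intro i hi
  rw [(hT r hr').2 i (Finset.mem_range.1 hi)]
  push_cast
  module

section cols

variable (hB : BasicOK D) {r : ℕ} (hr' : r < D.nroots)
include hB hr'

theorem x_mulVec_hv (t : F) {i : ℕ} (hi : i < D.rank) :
    (D.x F r t).mulVec (hv D F i) = hv D F i - (((D.cartan i r : ℤ) : F) * t) • ev D F r := by
  rw [x_of_lt hr', xMat_mulVec_hv _ t hi]

theorem x_mulVec_ev_self (t : F) : (D.x F r t).mulVec (ev D F r) = ev D F r := by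
  rw [x_of_lt hr']; exact xMat_mulVec_ev_self ⟨r, hr'⟩ t

theorem x_mulVec_ev_neg (t : F) :
    (D.x F r t).mulVec (ev D F (D.neg r)) = ev D F (D.neg r) + t • hr D F r - t ^ 2 • ev D F r := by
  rw [x_of_lt hr']; exact xMat_mulVec_ev_neg hB.neg ⟨r, hr'⟩ t

theorem x_mulVec_hr (t : F) :
    (D.x F r t).mulVec (hr D F r) = hr D F r - (2 * t) • ev D F r := by
  rw [x_of_lt hr']; exact xMat_mulVec_hr hB.coroot ⟨r, hr'⟩ t

theorem xneg_mulVec_hv (t : F) {i : ℕ} (hi : i < D.rank) :
    (D.x F (D.neg r) t).mulVec (hv D F i) =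
      hv D F i + (((D.cartan i r : ℤ) : F) * t) • ev D F (D.neg r) := by
  rw [x_mulVec_hv hB (hB.neg r hr').1 t hi, (hB.negTab r hr').1 i hi]
  push_cast
  module

theorem xneg_mulVec_ev_neg (t : F) :
    (D.x F (D.neg r) t).mulVec (ev D F (D.neg r)) = ev D F (D.neg r) :=
  x_mulVec_ev_self hB (hB.neg r hr').1 t

theorem xneg_mulVec_ev_self (t : F) :
    (D.x F (D.neg r) t).mulVec (ev D F r) = ev D F r - t • hr D F r - t ^ 2 • ev D F (D.neg r) := by
  have := x_mulVec_ev_neg (F := F) hB (hB.neg r hr').1 t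
  rw [(hB.neg r hr').2.2, hr_neg hB.negTab hr'] at this
  rw [this]
  module

theorem xneg_mulVec_hr (t : F) :
    (D.x F (D.neg r) t).mulVec (hr D F r) = hr D F r + (2 * t) • ev D F (D.neg r) := by
  have := x_mulVec_hr (F := F) hB (hB.neg r hr').1 t
  rw [hr_neg hB.negTab hr', Matrix.mulVec_neg] at this
  have h2 := congrArg (fun v => -v) this
  simp only [neg_neg] at h2
  rw [h2]
  module

theorem nMat_eq (c : F) : D.nMat F r c = D.x F r c * D.x F (D.neg r) (-c⁻¹) * D.x F r c := by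
  simp [ChevalleyDatum.nMat, ChevalleyDatum.wordMat, ChevalleyDatum.nWord, mul_assoc]

theorem nMat_mulVec_hv {c : F} (hc : c ≠ 0) {i : ℕ} (hi : i < D.rank) :
    (D.nMat F r c).mulVec (hv D F i) = hv D F i - ((D.cartan i r : ℤ) : F) • hr D F r := by
  rw [nMat_eq hB hr', ← Matrix.mulVec_mulVec, ← Matrix.mulVec_mulVec]
  simp only [Matrix.mulVec_sub, Matrix.mulVec_add, Matrix.mulVec_smul, Matrix.mulVec_neg,
    x_mulVec_hv hB hr' _ hi, xneg_mulVec_hv hB hr' _ hi, xneg_mulVec_ev_self hB hr',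
    xneg_mulVec_ev_neg hB hr', xneg_mulVec_hr hB hr',
    x_mulVec_ev_self hB hr', x_mulVec_ev_neg hB hr', x_mulVec_hr hB hr']
  match_scalars <;> field_simp <;> ring

theorem nMat_mulVec_ev_self {c : F} (hc : c ≠ 0) :
    (D.nMat F r c).mulVec (ev D F r) = (-(c⁻¹) ^ 2) • ev D F (D.neg r) := by
  rw [nMat_eq hB hr', ← Matrix.mulVec_mulVec, ← Matrix.mulVec_mulVec]
  simp only [Matrix.mulVec_sub, Matrix.mulVec_add, Matrix.mulVec_smul, Matrix.mulVec_neg,
    xneg_mulVec_ev_self hB hr',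
    xneg_mulVec_ev_neg hB hr', xneg_mulVec_hr hB hr',
    x_mulVec_ev_self hB hr', x_mulVec_ev_neg hB hr', x_mulVec_hr hB hr']
  match_scalars <;> field_simp <;> ring

theorem nMat_mulVec_ev_neg {c : F} (hc : c ≠ 0) :
    (D.nMat F r c).mulVec (ev D F (D.neg r)) = (-c ^ 2) • ev D F r := by
  rw [nMat_eq hB hr', ← Matrix.mulVec_mulVec, ← Matrix.mulVec_mulVec]
  simp only [Matrix.mulVec_sub, Matrix.mulVec_add, Matrix.mulVec_smul, Matrix.mulVec_neg,
    xneg_mulVec_ev_self hB hr',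
    xneg_mulVec_ev_neg hB hr', xneg_mulVec_hr hB hr',
    x_mulVec_ev_self hB hr', x_mulVec_ev_neg hB hr', x_mulVec_hr hB hr']
  match_scalars <;> field_simp <;> ring

theorem nMat_mulVec_hr {c : F} (hc : c ≠ 0) :
    (D.nMat F r c).mulVec (hr D F r) = - hr D F r := by
  rw [nMat_eq hB hr', ← Matrix.mulVec_mulVec, ← Matrix.mulVec_mulVec]
  simp only [Matrix.mulVec_sub, Matrix.mulVec_add, Matrix.mulVec_smul, Matrix.mulVec_neg,
    xneg_mulVec_ev_self hB hr',
    xneg_mulVec_ev_neg hB hr', xneg_mulVec_hr hB hr',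
    x_mulVec_ev_self hB hr', x_mulVec_ev_neg hB hr', x_mulVec_hr hB hr']
  match_scalars <;> field_simp <;> ring

end cols

end Cfsg.Agent.Helper6
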