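import Mathlib
import Cfsg.Agent.Helper6.Chev.NCols
import Cfsg.Agent.Helper6.Chev.Formal

set_option autoImplicit false
set_option linter.unusedSectionVars false
set_option linter.unusedSimpArgs false

namespace Cfsg.Agent.Helper6

open Cfsg.Lie

/-- position of `s` in its `r`-string (number of steps down) -/
def posR (D : ChevalleyDatum) (r s : ℕ) : ℕ := (D.chainEntry (D.neg r) s).length

/-- the reflected root `w_r(s)` for `s ≠ ±r`, read off the lengths of the chains -/
def wRoot (D : ChevalleyDatum) (r s : ℕ) : ℕ :=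
  if posR D r s < (D.chainEntry r s).length then
    (D.chainRoot r s ((D.chainEntry r s).length - posR D r s)).getD s
  else if (D.chainEntry r s).length < posR D r s then
    (D.chainRoot (D.neg r) s (posR D r s - (D.chainEntry r s).length)).getD s
  else s

/-- formal computation of `n_r(1) e_s` for `s ≠ ±r` -/
def nCol (D : ChevalleyDatum) (r s : ℕ) : List (ℕ × ℤ) :=
  stepL D r 1 (stepL D (D.neg r) (-1) (stepL D r 1 [(s, 1)]))

/-- the sign `η_{r,s}` -/
def etaOf (D : ChevalleyDatum) (r s : ℕ) : ℤ := coeffOf (nCol D r s) (wRoot D r s)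

/-- the check that `n_r(1) e_s = ± e_{w_r s}` formally -/
def NColOK (D : ChevalleyDatum) (r s : ℕ) : Prop :=
  (∀ q ∈ stepL D r 1 [(s, 1)], MemOK D (D.neg r) q.1) ∧
  (∀ q ∈ stepL D (D.neg r) (-1) (stepL D r 1 [(s, 1)]), MemOK D r q.1) ∧
  (∀ q ∈ nCol D r s, q.1 ≠ wRoot D r s → coeffOf (nCol D r s) q.1 = 0) ∧
  (etaOf D r s = 1 ∨ etaOf D r s = -1) ∧
  MemOK D r (wRoot D r s) ∧ wRoot D r (wRoot D r s) = s

instance (D : ChevalleyDatum) (r s : ℕ) : Decidable (NColOK D r s) := by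
  unfold NColOK; infer_instance

/-- positions shift correctly along `r`- and `(-r)`-chains -/
def PosOK (D : ChevalleyDatum) (r s : ℕ) : Prop :=
  (∀ e ∈ (D.chainEntry r s).zipIdx, posR D r e.1.1 = posR D r s + (e.2 + 1)) ∧
  (∀ e ∈ (D.chainEntry (D.neg r) s).zipIdx, posR D r e.1.1 + (e.2 + 1) = posR D r s)

instance (D : ChevalleyDatum) (r s : ℕ) : Decidable (PosOK D r s) := by
  unfold PosOK; infer_instance

/-- all checks at the root `r` -/
def NRootOK (D : ChevalleyDatum) (r : ℕ) : Prop :=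
  ∀ s < D.nroots, MemOK D r s → NColOK D r s ∧ PosOK D r s

instance (D : ChevalleyDatum) (r : ℕ) : Decidable (NRootOK D r) := by
  unfold NRootOK; infer_instance

end Cfsg.Agent.Helper6

namespace Cfsg.Agent.Helper6

open Cfsg.Lie

variable {D : ChevalleyDatum} {F : Type*} [Field F]

theorem evalV_single (s : ℕ) : evalV D F [(s, 1)] = ev D F s := by
  rw [evalV_cons, evalV_nil]; simp

theorem memOK_neg_iff (hN : NegOK D) {r : ℕ} (hr' : r < D.nroots) (u : ℕ) :
    MemOK D (D.neg r) u ↔ MemOK D r u := by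
  unfold MemOK
  rw [(hN r hr').2.2]
  tauto

section general

variable (hB : BasicOK D) {r : ℕ} (hr' : r < D.nroots) (hR : NRootOK D r)
include hB hr' hR

/-- `n_r(1) e_s = η e_{w_r s}` for `s ≠ ±r` -/
theorem nMat_one_mulVec_ev {s : ℕ} (hs : MemOK D r s) :
    (D.nMat F r 1).mulVec (ev D F s) = ((etaOf D r s : ℤ) : F) • ev D F (wRoot D r s) := by
  obtain ⟨⟨h1, h2, h3, _, _, _⟩, _⟩ := hR s hs.1 hs
  have hnr := (hB.neg r hr').1
  rw [nMat_eq hB hr', ← Matrix.mulVec_mulVec, ← Matrix.mulVec_mulVec]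
  have e1 : (1 : F) = ((1 : ℤ) : F) := by simp
  have e2 : (-(1 : F)⁻¹) = ((-1 : ℤ) : F) := by simp
  rw [e2, e1, x_of_lt hr', x_of_lt hnr, ← evalV_single (D := D) (F := F) s,
    evalV_step hB.keys ⟨r, hr'⟩ 1 _ (by
      intro q hq
      simp only [List.mem_singleton] at hq
      rw [hq]; exact hs),
    evalV_step hB.keys ⟨D.neg r, hnr⟩ (-1) _ h1,
    evalV_step hB.keys ⟨r, hr'⟩ 1 _ h2]
  exact evalV_eq_single _ _ h3

end general

end Cfsg.Agent.Helper6
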