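import Mathlib
import Cfsg.Agent.Helper6.Chev.NFormal
import Cfsg.Agent.S1024

set_option autoImplicit false
set_option linter.unusedSectionVars false
set_option linter.unusedSimpArgs false

namespace Cfsg.Agent.Helper6

open Cfsg.Lie

variable {D : ChevalleyDatum} {F : Type*} [Field F]

theorem chainRel_mem {r : ℕ} {L : List (ℕ × ℤ)} (h : ChainRel D r L) : ∀ q ∈ L, MemOK D r q.1 := by
  match L, h with
  | [], _ => intro q hq; simp at hq
  | [a], h =>
    intro q hq
    simp only [List.mem_singleton] at hq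
    rw [hq]; exact h.1
  | [a, b], h =>
    intro q hq
    simp only [List.mem_cons, List.not_mem_nil, or_false] at hq
    rcases hq with rfl | rfl
    · exact h.1
    · exact h.2.1
  | [a, b, c], h =>
    intro q hq
    simp only [List.mem_cons, List.not_mem_nil, or_false] at hq
    rcases hq with rfl | rfl | rfl
    · exact h.1
    · exact h.2.1
    · exact h.2.2.1

/-- the character of the diagonal matrix `D_c` conjugating `n_r(1)` to `n_r(c)` -/
def chiR (D : ChevalleyDatum) (r : ℕ) (c : F) (s : ℕ) : F :=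
  if s = r then c ^ 2 else if s = D.neg r then 1 else c ^ posR D r s

theorem chiR_of_memOK {r s : ℕ} (c : F) (hs : MemOK D r s) : chiR D r c s = c ^ posR D r s := by
  unfold chiR; rw [if_neg hs.2.1, if_neg hs.2.2]

theorem x_zero (r : ℕ) : D.x F r 0 = 1 := by
  unfold ChevalleyDatum.x
  split_ifs with h
  · exact Cfsg.Agent.S1024.xMat_zero D ⟨r, h⟩
  · rfl

theorem x_mul_neg (hB : BasicOK D) (r : ℕ) (t : F) : D.x F r t * D.x F r (-t) = 1 := by
  rw [x_add hB.neg hB.keys hB.chain hB.coroot, add_neg_cancel, x_zero]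

theorem x_neg_mul (hB : BasicOK D) (r : ℕ) (t : F) : D.x F r (-t) * D.x F r t = 1 := by
  rw [x_add hB.neg hB.keys hB.chain hB.coroot, neg_add_cancel, x_zero]

section general

variable (hB : BasicOK D) {r : ℕ} (hr' : r < D.nroots) (hR : NRootOK D r)
include hB hr' hR

theorem dMat_mul_x_pos (c t : F) :
    dMat D F c (chiR D r c) * D.x F r t = D.x F r (c * t) * dMat D F c (chiR D r c) := by
  rw [x_of_lt hr', x_of_lt hr']
  have hnr := hB.neg r hr'
  apply dMat_mul_xMat hB.neg hB.keys c _ c ⟨r, hr'⟩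
  · simp [chiR, sq]
  · simp [chiR, hnr.2.1]
  · intro s' hs' k q hq
    have hq' : MemOK D r q.1 :=
      chainRel_mem (chainRel_chainEntry hB.chain hr' s') q (List.mem_of_getElem? hq)
    rw [chiR_of_memOK c hq', chiR_of_memOK c hs']
    have := (hR s' hs'.1 hs').2.1 (q, k) (List.mk_mem_zipIdx_iff_getElem?.2 hq)
    simp only at this
    rw [this, pow_add, mul_comm]

theorem dMat_mul_x_neg {c : F} (hc : c ≠ 0) (t : F) :
    dMat D F c (chiR D r c) * D.x F (D.neg r) t =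
      D.x F (D.neg r) (c⁻¹ * t) * dMat D F c (chiR D r c) := by
  have hnr := hB.neg r hr'
  rw [x_of_lt hnr.1, x_of_lt hnr.1]
  apply dMat_mul_xMat hB.neg hB.keys c _ c⁻¹ ⟨D.neg r, hnr.1⟩
  · simp [chiR, hnr.2.1, hc]
  · simp only [hnr.2.2, chiR, if_true]
    field_simp
  · intro s' hs' k q hq
    have hq'' : MemOK D (D.neg r) q.1 :=
      chainRel_mem (chainRel_chainEntry hB.chain hnr.1 s') q (List.mem_of_getElem? hq)
    have hq' : MemOK D r q.1 := (memOK_neg_iff hB.neg hr' _).1 hq''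
    have hs'' : MemOK D r s' := (memOK_neg_iff hB.neg hr' _).1 hs'
    rw [chiR_of_memOK c hq', chiR_of_memOK c hs'']
    have := (hR s' hs''.1 hs'').2.2 (q, k) (List.mk_mem_zipIdx_iff_getElem?.2 hq)
    simp only at this
    have hne : c ^ (k + 1) ≠ 0 := pow_ne_zero _ hc
    rw [← this, pow_add c (posR D r q.1) (k + 1), inv_pow, mul_comm (c ^ posR D r q.1),
      ← mul_assoc, inv_mul_cancel₀ hne, one_mul]

theorem dMat_mul_nMat_one {c : F} (hc : c ≠ 0) :
    dMat D F c (chiR D r c) * D.nMat F r 1 = D.nMat F r c * dMat D F c (chiR D r c) := by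
  rw [nMat_eq hB hr', nMat_eq hB hr']
  rw [← mul_assoc, ← mul_assoc, dMat_mul_x_pos hB hr' hR, mul_assoc (D.x F r (c * 1)),
    dMat_mul_x_neg hB hr' hR hc, ← mul_assoc, mul_assoc _ (dMat D F c (chiR D r c)),
    dMat_mul_x_pos hB hr' hR, ← mul_assoc]
  simp

/-- `n_r(c) e_s` for `s ≠ ±r` -/
theorem nMat_mulVec_ev {c : F} (hc : c ≠ 0) {s : ℕ} (hs : MemOK D r s) :
    (D.nMat F r c).mulVec (ev D F s) =
      (((etaOf D r s : ℤ) : F) * c ^ posR D r (wRoot D r s) * (c ^ posR D r s)⁻¹) •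
        ev D F (wRoot D r s) := by
  have hw : MemOK D r (wRoot D r s) := (hR s hs.1 hs).1.2.2.2.2.1
  have h := congrArg (fun M => M.mulVec (ev D F s)) (dMat_mul_nMat_one hB hr' hR hc)
  simp only [← Matrix.mulVec_mulVec] at h
  rw [nMat_one_mulVec_ev hB hr' hR hs, Matrix.mulVec_smul, dMat_mulVec_ev, dMat_mulVec_ev,
    Matrix.mulVec_smul, chiR_of_memOK c hs, chiR_of_memOK c hw] at h
  have hne : c ^ posR D r s ≠ 0 := pow_ne_zero _ hc
  have h2 := congrArg (fun v => (c ^ posR D r s)⁻¹ • v) h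
  simp only [smul_smul, inv_mul_cancel₀ hne, one_smul] at h2
  rw [← h2]
  congr 1
  ring

theorem hMat_eq (c : F) : D.hMat F r c = D.nMat F r c * D.nMat F r (-1) := by
  simp [ChevalleyDatum.hMat, ChevalleyDatum.hWord, ChevalleyDatum.nMat, ChevalleyDatum.wordMat,
    List.map_append, List.prod_append]

theorem nMat_neg_one_mul : D.nMat F r (-1) * D.nMat F r 1 = 1 := by
  rw [nMat_eq hB hr', nMat_eq hB hr']
  have e1 : (-(-1 : F)⁻¹) = 1 := by rw [inv_neg_one, neg_neg]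
  have e2 : (-(1 : F)⁻¹) = -1 := by rw [inv_one]
  rw [e1, e2]
  have hA : D.x F r (-1) * D.x F r 1 = 1 := x_neg_mul hB r 1
  have hBm : D.x F (D.neg r) 1 * D.x F (D.neg r) (-1) = 1 := x_mul_neg hB (D.neg r) 1
  simp only [mul_assoc]
  rw [← mul_assoc (D.x F r (-1)) (D.x F r 1), hA, one_mul,
    ← mul_assoc (D.x F (D.neg r) 1), hBm, one_mul, hA]

theorem hMat_mul_nMat_one (c : F) : D.hMat F r c * D.nMat F r 1 = D.nMat F r c := by
  rw [hMat_eq hB hr' hR, mul_assoc, nMat_neg_one_mul hB hr' hR, mul_one]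

theorem hMat_mulVec_hv {c : F} (hc : c ≠ 0) {i : ℕ} (hi : i < D.rank) :
    (D.hMat F r c).mulVec (hv D F i) = hv D F i := by
  have h1 : (-1 : F) ≠ 0 := neg_ne_zero.2 one_ne_zero
  rw [hMat_eq hB hr' hR, ← Matrix.mulVec_mulVec, nMat_mulVec_hv hB hr' h1 hi, Matrix.mulVec_sub,
    Matrix.mulVec_smul, nMat_mulVec_hv hB hr' hc hi, nMat_mulVec_hr hB hr' hc]
  module

theorem hMat_mulVec_ev_self {c : F} (hc : c ≠ 0) :
    (D.hMat F r c).mulVec (ev D F r) = (c ^ 2) • ev D F r := by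
  have h1 : (-1 : F) ≠ 0 := neg_ne_zero.2 one_ne_zero
  rw [hMat_eq hB hr' hR, ← Matrix.mulVec_mulVec, nMat_mulVec_ev_self hB hr' h1,
    Matrix.mulVec_smul, nMat_mulVec_ev_neg hB hr' hc, smul_smul]
  congr 1
  rw [inv_neg_one]; ring

theorem hMat_mulVec_ev_neg {c : F} (hc : c ≠ 0) :
    (D.hMat F r c).mulVec (ev D F (D.neg r)) = ((c⁻¹) ^ 2) • ev D F (D.neg r) := by
  have h1 : (-1 : F) ≠ 0 := neg_ne_zero.2 one_ne_zero
  rw [hMat_eq hB hr' hR, ← Matrix.mulVec_mulVec, nMat_mulVec_ev_neg hB hr' h1,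
    Matrix.mulVec_smul, nMat_mulVec_ev_self hB hr' hc, smul_smul]
  congr 1
  ring

theorem hMat_mulVec_ev {c : F} (hc : c ≠ 0) {s : ℕ} (hs : MemOK D r s) :
    (D.hMat F r c).mulVec (ev D F s) =
      (c ^ posR D r s * (c ^ posR D r (wRoot D r s))⁻¹) • ev D F s := by
  obtain ⟨_, _, _, _, hu, hwu⟩ := (hR s hs.1 hs).1
  obtain ⟨_, _, _, hη, _, _⟩ := (hR _ hu.1 hu).1
  have h := congrArg (fun M => M.mulVec (ev D F (wRoot D r s))) (hMat_mul_nMat_one hB hr' hR c)
  simp only [← Matrix.mulVec_mulVec] at h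
  rw [nMat_one_mulVec_ev hB hr' hR hu, nMat_mulVec_ev hB hr' hR hc hu, hwu, Matrix.mulVec_smul] at h
  have hne : ((etaOf D r (wRoot D r s) : ℤ) : F) ≠ 0 := by
    rcases hη with h' | h' <;> rw [h'] <;> simp
  have h2 := congrArg (fun v => ((etaOf D r (wRoot D r s) : ℤ) : F)⁻¹ • v) h
  simp only [smul_smul, inv_mul_cancel₀ hne, one_smul] at h2
  rw [h2]
  congr 1
  field_simp

/-- the character of `h_r(c)` -/
def hChar (D : ChevalleyDatum) (r : ℕ) (c : F) (s : ℕ) : F :=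
  if s = r then c ^ 2 else if s = D.neg r then (c⁻¹) ^ 2
  else c ^ posR D r s * (c ^ posR D r (wRoot D r s))⁻¹

omit hB hr' hR in
theorem hChar_of_memOK {s : ℕ} (c : F) (hs : MemOK D r s) :
    hChar D r c s = c ^ posR D r s * (c ^ posR D r (wRoot D r s))⁻¹ := by
  unfold hChar; rw [if_neg hs.2.1, if_neg hs.2.2]

/-- `h_r(c)` is diagonal -/
theorem hMat_eq_dMat {c : F} (hc : c ≠ 0) : D.hMat F r c = dMat D F 1 (hChar D r c) := by
  apply matrix_ext_basis
  · intro i hi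
    rw [hMat_mulVec_hv hB hr' hR hc hi, dMat_mulVec_hv, one_smul]
  · intro s hs
    rw [dMat_mulVec_ev]
    by_cases h1 : s = r
    · subst h1
      rw [hMat_mulVec_ev_self hB hs hR hc]
      simp [hChar]
    · by_cases h2 : s = D.neg r
      · subst h2
        rw [hMat_mulVec_ev_neg hB hr' hR hc]
        simp [hChar, h1]
      · rw [hMat_mulVec_ev hB hr' hR hc ⟨hs, h1, h2⟩, hChar_of_memOK c ⟨hs, h1, h2⟩]

end general

end Cfsg.Agent.Helper6
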