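import Mathlib
import Cfsg.Agent.Helper6.Chev.NH

set_option autoImplicit false
set_option linter.unusedSectionVars false
set_option linter.unusedSimpArgs false

namespace Cfsg.Agent.Helper6

open Cfsg.Lie

/-- table facts about the `i`-th fundamental root -/
def SimpleOK (D : ChevalleyDatum) (i : ℕ) : Prop :=
  D.simple i < D.nroots ∧
  D.cartan i (D.simple i) = 2 ∧ D.cartan i (D.neg (D.simple i)) = -2 ∧
  ∀ s < D.nroots, MemOK D (D.simple i) s →
    D.reflectRoot i s = wRoot D (D.simple i) s ∧
    D.cartan i s = (posR D (D.simple i) s : ℤ) - (posR D (D.simple i) (wRoot D (D.simple i) s) : ℤ)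

instance (D : ChevalleyDatum) (i : ℕ) : Decidable (SimpleOK D i) := by
  unfold SimpleOK; infer_instance

variable {D : ChevalleyDatum} {F : Type*} [Field F]

theorem hChar_simple {i : ℕ} (hS : SimpleOK D i) {c : F} (hc : c ≠ 0) {s : ℕ} (hs : s < D.nroots) :
    hChar D (D.simple i) c s = c ^ (D.cartan i s) := by
  obtain ⟨hp, h2, hm2, hrest⟩ := hS
  by_cases h1 : s = D.simple i
  · subst h1
    rw [h2]
    simp [hChar]
  · by_cases h3 : s = D.neg (D.simple i)
    · subst h3
      rw [hm2]
      simp only [hChar, h1, if_false, if_true]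
      rw [zpow_neg, inv_pow]
      norm_cast
    · have hm : MemOK D (D.simple i) s := ⟨hs, h1, h3⟩
      rw [hChar_of_memOK c hm, (hrest s hs hm).2, zpow_sub₀ hc, zpow_natCast, zpow_natCast,
        div_eq_mul_inv]

/-- `h_p(c)` for a fundamental root is the diagonal matrix with entries `c ^ A_{p,s}` -/
theorem hMat_simple_eq_diagonal (hB : BasicOK D) {i : ℕ} (hS : SimpleOK D i)
    (hR : NRootOK D (D.simple i)) {c : F} (hc : c ≠ 0) :
    D.hMat F (D.simple i) c =
      Matrix.diagonal (Sum.elim (fun _ => (1 : F)) (fun s : Fin D.nroots => c ^ (D.cartan i s))) := by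
  rw [hMat_eq_dMat hB hS.1 hR hc, dMat]
  congr 1
  funext x
  rcases x with j | s
  · rfl
  · simp only [Sum.elim_inr]
    exact hChar_simple hS hc s.isLt

end Cfsg.Agent.Helper6
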