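import Mathlib
import Cfsg.Agent.Helper6.Chev.NSimple

set_option autoImplicit false
set_option linter.unusedSectionVars false
set_option linter.unusedSimpArgs false

namespace Cfsg.Agent.Helper6

open Cfsg.Lie

/-- the sign `η_{r,s}` for all roots `s`, with `η_{r,±r} = -1` -/
def etaR (D : ChevalleyDatum) (r s : ℕ) : ℤ := if s = r ∨ s = D.neg r then -1 else etaOf D r s

/-- the reflected root for all `s` -/
def wR (D : ChevalleyDatum) (r s : ℕ) : ℕ :=
  if s = r then D.neg r else if s = D.neg r then r else wRoot D r s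

/-- sign relations at the `i`-th fundamental root, and its coroot is the `i`-th basis coroot -/
def EtaOK (D : ChevalleyDatum) (i : ℕ) : Prop :=
  (∀ k < D.rank, corootC D (D.simple i) k = if k = i then 1 else 0) ∧
  ∀ s < D.nroots, (etaR D (D.simple i) s = 1 ∨ etaR D (D.simple i) s = -1) ∧
    etaR D (D.simple i) s * etaR D (D.simple i) (D.reflectRoot i s) = (-1) ^ (D.cartan i s).natAbs ∧
    etaR D (D.simple i) s * etaR D (D.simple i) (D.neg s) = 1

instance (D : ChevalleyDatum) (i : ℕ) : Decidable (EtaOK D i) := by unfold EtaOK; infer_instance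

variable {D : ChevalleyDatum} {F : Type*} [Field F]

theorem reflectRoot_eq_wR (hB : BasicOK D) {i : ℕ} (hS : SimpleOK D i) {s : ℕ} (hs : s < D.nroots) :
    D.reflectRoot i s = wR D (D.simple i) s := by
  unfold wR
  by_cases h1 : s = D.simple i
  · rw [if_pos h1]; unfold ChevalleyDatum.reflectRoot; simp [h1]
  · rw [if_neg h1]
    by_cases h2 : s = D.neg (D.simple i)
    · rw [if_pos h2]; unfold ChevalleyDatum.reflectRoot
      have := (hB.neg _ hS.1).2.1
      simp [h2, this]
    · rw [if_neg h2]
      exact (hS.2.2.2 s hs ⟨hs, h1, h2⟩).1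

/-- `n_r(1) e_s = η_s e_{w s}` for every root `s` -/
theorem nMat_one_mulVec_ev_all (hB : BasicOK D) {r : ℕ} (hr' : r < D.nroots) (hR : NRootOK D r)
    {s : ℕ} (hs : s < D.nroots) :
    (D.nMat F r 1).mulVec (ev D F s) = ((etaR D r s : ℤ) : F) • ev D F (wR D r s) := by
  have h1 : (1 : F) ≠ 0 := one_ne_zero
  unfold etaR wR
  by_cases e1 : s = r
  · subst e1
    rw [nMat_mulVec_ev_self hB hs h1]
    simp
  · by_cases e2 : s = D.neg r
    · subst e2
      rw [nMat_mulVec_ev_neg hB hr' h1]
      simp [e1]
    · rw [if_neg e1, if_neg e2, if_neg (by tauto)]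
      exact nMat_one_mulVec_ev hB hr' hR ⟨hs, e1, e2⟩

theorem hr_simple {i : ℕ} (hi : i < D.rank) (hE : EtaOK D i) : hr D F (D.simple i) = hv D F i := by
  unfold hr
  rw [Finset.sum_eq_single i]
  · rw [hE.1 i hi]; simp
  · intro k hk hki
    rw [hE.1 k (Finset.mem_range.1 hk), if_neg hki]; simp
  · intro h; exact absurd (Finset.mem_range.2 hi) h

/-- the explicit monomial matrix of `n_p` -/
theorem nMat_simple_eq (hB : BasicOK D) {i : ℕ} (hi : i < D.rank) (hS : SimpleOK D i)
    (hR : NRootOK D (D.simple i)) (hE : EtaOK D i) :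
    D.nMat F (D.simple i) 1 = Matrix.of (fun (row col : D.Idx) =>
        Sum.elim
          (fun j' : Fin D.rank => Sum.elim
            (fun j : Fin D.rank => (if j' = j then (1 : F) else 0) - (if (j' : ℕ) = i then ((D.cartan j (D.simple i) : ℤ) : F) else 0))
            (fun _ => (0 : F)) col)
          (fun s' : Fin D.nroots => Sum.elim
            (fun _ => (0 : F))
            (fun s : Fin D.nroots => if (s' : ℕ) = D.reflectRoot i s then ((etaR D (D.simple i) s : ℤ) : F) else 0) col)
          row) := by
  apply matrix_ext_basis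
  · intro j hj
    rw [nMat_mulVec_hv hB hS.1 one_ne_zero hj, hr_simple hi hE, mulVec_hv _ hj]
    funext row
    rcases row with j' | s'
    · simp only [Pi.sub_apply, Pi.smul_apply, hv_apply_inl, Matrix.of_apply, Sum.elim_inl, smul_eq_mul]
      congr 1
      · by_cases h : j' = ⟨j, hj⟩
        · have : j'.val = j := by rw [h]
          simp [h]
        · have : ¬ j'.val = j := fun h' => h (Fin.ext h')
          simp [h, this]
      · by_cases h : j'.val = i <;> simp [h]
    · simp [hv_apply_inr]
  · intro s hs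
    rw [nMat_one_mulVec_ev_all hB hS.1 hR hs, mulVec_ev _ hs, ← reflectRoot_eq_wR hB hS hs]
    funext row
    rcases row with j' | s'
    · simp [ev_apply_inl]
    · simp only [Pi.smul_apply, ev_apply_inr, Matrix.of_apply, Sum.elim_inr, smul_eq_mul]
      by_cases h : s'.val = D.reflectRoot i s <;> simp [h]

end Cfsg.Agent.Helper6
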