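import Mathlib
import Cfsg.Agent.Helper6.Chev.NMono

set_option autoImplicit false

/-!
Kernel-friendly table access: the chain table and the Cartan table packed into big natural numbers
(whose arithmetic the kernel performs natively), with a brute-force check that the packed lookups
agree with the original ones.
-/

namespace Cfsg.Agent.Helper6

open Cfsg.Lie

/-- a cheap bounded universal quantifier -/
def allLt (n : ℕ) (p : ℕ → Bool) : Bool := Nat.rec true (fun k ih => bif p k then ih else false) n

theorem allLt_succ (n : ℕ) (p : ℕ → Bool) : allLt (n + 1) p = (bif p n then allLt n p else false) := rfl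

theorem allLt_iff {n : ℕ} {p : ℕ → Bool} : allLt n p = true ↔ ∀ k < n, p k = true := by
  induction n with
  | zero => simp [allLt]
  | succ n ih =>
    rw [allLt_succ]
    constructor
    · intro h k hk
      cases hp : p n with
      | false => rw [hp] at h; simp at h
      | true =>
        rw [hp] at h
        simp only [cond_true] at h
        rcases Nat.lt_succ_iff_lt_or_eq.1 hk with h' | rfl
        · exact ih.1 h k h'
        · exact hp
    · intro h
      rw [h n (Nat.lt_succ_self n)]
      simp only [cond_true]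
      exact ih.2 (fun k hk => h k (Nat.lt_succ_of_lt hk))

/-- a cheap list quantifier -/
def allL {α : Type*} (L : List α) (p : α → Bool) : Bool :=
  List.rec true (fun a _ ih => bif p a then ih else false) L

theorem allL_cons {α : Type*} (a : α) (L : List α) (p : α → Bool) :
    allL (a :: L) p = (bif p a then allL L p else false) := rfl

theorem allL_iff {α : Type*} {L : List α} {p : α → Bool} : allL L p = true ↔ ∀ a ∈ L, p a = true := by
  induction L with
  | nil => simp [allL]
  | cons a L ih =>
    rw [allL_cons]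
    cases hp : p a with
    | false => simp [hp]
    | true => simp [hp, ih]

/-- code of a chain member -/
def pairCode (q : ℕ × ℤ) : ℕ := Nat.add q.1 (Nat.mul 256 (q.2 + 4).toNat)

/-- code of a chain entry (at most three members) -/
def ceCode : List (ℕ × ℤ) → ℕ
  | [] => 0
  | [a] => Nat.add 1 (Nat.mul 4 (pairCode a))
  | [a, b] => Nat.add 2 (Nat.mul 4 (Nat.add (pairCode a) (Nat.mul 2048 (pairCode b))))
  | [a, b, c] => Nat.add 3 (Nat.mul 4 (Nat.add (pairCode a) (Nat.mul 2048 (Nat.add (pairCode b) (Nat.mul 2048 (pairCode c))))))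
  | _ => 0

/-- decoded chain member with the coefficient still in the form `M + 4` -/
def pairDecodeN (c : ℕ) : ℕ × ℕ := (Nat.mod c 256, Nat.mod (Nat.div c 256) 8)

/-- decoded chain entry, coefficients in the form `M + 4` -/
def ceDecodeN (c : ℕ) : List (ℕ × ℕ) :=
  bif Nat.beq (Nat.mod c 4) 0 then []
  else bif Nat.beq (Nat.mod c 4) 1 then [pairDecodeN (Nat.mod (Nat.div c 4) 2048)]
  else bif Nat.beq (Nat.mod c 4) 2 then
    [pairDecodeN (Nat.mod (Nat.div c 4) 2048), pairDecodeN (Nat.mod (Nat.div c 8192) 2048)]
  else [pairDecodeN (Nat.mod (Nat.div c 4) 2048), pairDecodeN (Nat.mod (Nat.div c 8192) 2048),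
      pairDecodeN (Nat.mod (Nat.div c 16777216) 2048)]

/-- from the form `M + 4` back to integers -/
def toZ (L : List (ℕ × ℕ)) : List (ℕ × ℤ) :=
  List.rec [] (fun p _ ih => (p.1, Int.sub (Int.ofNat p.2) 4) :: ih) L

theorem toZ_nil : toZ [] = [] := rfl
theorem toZ_cons (p : ℕ × ℕ) (L : List (ℕ × ℕ)) :
    toZ (p :: L) = (p.1, ((p.2 : ℕ) : ℤ) - 4) :: toZ L := rfl

/-- the chain table of the root `r` packed into one number: slot `s` holds the code of `chainEntry r s` -/
def chainPack (D : ChevalleyDatum) (r : ℕ) : ℕ :=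
  List.rec 0 (fun e _ ih => Nat.add ih (Nat.mul (ceCode e.2.toList) (Nat.pow 2 (Nat.mul 36 e.1))))
    (D.chain.getD r #[]).toList

/-- the decoded slot `s` of the packed chain table of `r` -/
def slotN (D : ChevalleyDatum) (r s : ℕ) : List (ℕ × ℕ) :=
  ceDecodeN (Nat.mod (Nat.shiftRight (chainPack D r) (Nat.mul 36 s)) 68719476736)

/-- fast version of `chainEntry` -/
def ceF (D : ChevalleyDatum) (r s : ℕ) : List (ℕ × ℤ) :=
  bif Nat.blt r D.nroots && Nat.blt s D.nroots then
    toZ (slotN D r s)
  else D.chainEntry r s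

/-- a row of the Cartan table packed into one number -/
def rowPack (D : ChevalleyDatum) (i : ℕ) : ℕ :=
  List.rec 0 (fun a _ ih => Nat.add (a + 4 : ℤ).toNat (Nat.mul 8 ih)) (D.cartanSR.getD i #[]).toList

/-- the Cartan integer plus 4, read off the packed row -/
def cartanD (D : ChevalleyDatum) (i s : ℕ) : ℕ :=
  Nat.mod (Nat.shiftRight (rowPack D i) (Nat.mul 3 s)) 8

/-- fast version of `cartan` -/
def cartanF (D : ChevalleyDatum) (i s : ℕ) : ℤ :=
  bif Nat.blt i D.rank && Nat.blt s D.nroots then Int.sub (Int.ofNat (cartanD D i s)) 4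
  else D.cartan i s

/-- fast version of `neg` -/
def negF (D : ChevalleyDatum) (s : ℕ) : ℕ :=
  bif Nat.blt s D.nroots then Nat.sub (Nat.sub D.nroots 1) s else D.neg s

/-- list equality test for chain entries -/
def ceBeq : List (ℕ × ℤ) → List (ℕ × ℤ) → Bool
  | [], [] => true
  | a :: L, b :: L' => Nat.beq a.1 b.1 && decide (a.2 = b.2) && ceBeq L L'
  | _, _ => false

theorem ceBeq_iff (L L' : List (ℕ × ℤ)) : ceBeq L L' = true ↔ L = L' := by
  induction L generalizing L' with
  | nil => cases L' <;> simp [ceBeq]
  | cons a L ih =>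
    cases L' with
    | nil => simp [ceBeq]
    | cons b L' =>
      simp only [ceBeq, Bool.and_eq_true, Nat.beq_eq, decide_eq_true_eq, ih,
        List.cons.injEq]
      constructor
      · rintro ⟨⟨h1, h2⟩, h3⟩
        exact ⟨Prod.ext h1 h2, h3⟩
      · rintro ⟨h1, h3⟩
        exact ⟨⟨by rw [h1], by rw [h1]⟩, h3⟩

/-- sequential comparison of the slots `k, k+1, …, k+m-1` of a lookup function with a key-sorted
association list -/
def walkCe (get : ℕ → List (ℕ × ℤ)) : ℕ → ℕ → List (ℕ × Array (ℕ × ℤ)) → Bool
  | 0, _, _ => true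
  | m + 1, k, [] => ceBeq (get k) [] && walkCe get m (k + 1) []
  | m + 1, k, e :: L =>
    bif Nat.beq e.1 k then ceBeq (get k) e.2.toList && walkCe get m (k + 1) L
    else ceBeq (get k) [] && walkCe get m (k + 1) (e :: L)

/-- lookup in an association list, as in `chainEntry` -/
def findCe (L : List (ℕ × Array (ℕ × ℤ))) (s : ℕ) : List (ℕ × ℤ) :=
  match L.find? (fun e => e.1 = s) with
  | none => []
  | some e => e.2.toList

theorem findCe_nil (s : ℕ) : findCe [] s = [] := rfl

theorem findCe_cons_pos {e : ℕ × Array (ℕ × ℤ)} {L : List (ℕ × Array (ℕ × ℤ))} {s : ℕ}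
    (h : e.1 = s) : findCe (e :: L) s = e.2.toList := by
  unfold findCe; rw [List.find?_cons_of_pos (by simpa using h)]

theorem findCe_cons_neg {e : ℕ × Array (ℕ × ℤ)} {L : List (ℕ × Array (ℕ × ℤ))} {s : ℕ}
    (h : e.1 ≠ s) : findCe (e :: L) s = findCe L s := by
  unfold findCe; rw [List.find?_cons_of_neg (by simpa using h)]

theorem findCe_eq_nil_of_lt {L : List (ℕ × Array (ℕ × ℤ))} {s : ℕ} (h : ∀ e ∈ L, s < e.1) :
    findCe L s = [] := by
  induction L with
  | nil => rfl
  | cons e L ih =>
    rw [findCe_cons_neg (by have := h e List.mem_cons_self; omega)]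
    exact ih (fun e' he' => h e' (List.mem_cons_of_mem _ he'))

theorem walkCe_sound (get : ℕ → List (ℕ × ℤ)) : ∀ (m k : ℕ) (L : List (ℕ × Array (ℕ × ℤ))),
    walkCe get m k L = true → (L.map Prod.fst).Pairwise (· < ·) → (∀ e ∈ L, k ≤ e.1) →
    ∀ s, k ≤ s → s < k + m → get s = findCe L s := by
  intro m
  induction m with
  | zero => intro k L _ _ _ s h1 h2; omega
  | succ m ih =>
    intro k L hw hp hk s h1 h2
    match L, hw, hp, hk with
    | [], hw, hp, hk =>
      simp only [walkCe, Bool.and_eq_true, ceBeq_iff] at hw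
      rcases Nat.eq_or_lt_of_le h1 with rfl | h1'
      · rw [hw.1, findCe_nil]
      · exact ih (k + 1) [] hw.2 hp (by simp) s h1' (by omega)
    | e :: L, hw, hp, hk =>
      simp only [walkCe] at hw
      rw [List.map_cons, List.pairwise_cons] at hp
      cases hb : Nat.beq e.1 k with
      | true =>
        rw [hb] at hw
        simp only [cond_true, Bool.and_eq_true, ceBeq_iff] at hw
        have hek : e.1 = k := Nat.eq_of_beq_eq_true hb
        have hL : ∀ e' ∈ L, k + 1 ≤ e'.1 := by
          intro e' he'
          have := hp.1 e'.1 (List.mem_map_of_mem he')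
          omega
        rcases Nat.eq_or_lt_of_le h1 with rfl | h1'
        · rw [hw.1, findCe_cons_pos hek]
        · rw [findCe_cons_neg (by omega)]
          exact ih (k + 1) L hw.2 hp.2 hL s h1' (by omega)
      | false =>
        rw [hb] at hw
        simp only [cond_false, Bool.and_eq_true, ceBeq_iff] at hw
        have hek : e.1 ≠ k := fun h => by rw [h, Nat.beq_refl] at hb; exact Bool.noConfusion hb
        have hek' : k + 1 ≤ e.1 := by
          have := hk e List.mem_cons_self; omega
        have hL : ∀ e' ∈ e :: L, k + 1 ≤ e'.1 := by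
          intro e' he'
          rcases List.mem_cons.1 he' with rfl | he''
          · exact hek'
          · have := hp.1 e'.1 (List.mem_map_of_mem he''); omega
        rcases Nat.eq_or_lt_of_le h1 with rfl | h1'
        · rw [hw.1]
          symm
          apply findCe_eq_nil_of_lt
          intro e' he'
          have := hL e' he'; omega
        · exact ih (k + 1) (e :: L) hw.2 (List.pairwise_cons.2 hp) hL s h1' (by omega)

/-- the comparison of the fast and the original table functions -/
def fastCheck (D : ChevalleyDatum) : Bool :=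
  (allLt D.nroots fun r => walkCe (ceF D r) D.nroots 0 (D.chain.getD r #[]).toList) &&
  (allLt D.rank fun i => allLt D.nroots fun s => decide (cartanF D i s = D.cartan i s)) &&
  (allLt D.nroots fun s => Nat.beq (negF D s) (D.neg s))

theorem ceF_eq {D : ChevalleyDatum} (hK : KeysSorted D) (h : fastCheck D = true) :
    ceF D = D.chainEntry := by
  simp only [fastCheck, Bool.and_eq_true, allLt_iff] at h
  funext r s
  by_cases hc : r < D.nroots ∧ s < D.nroots
  · have hk := hK r hc.1
    rw [List.isChain_iff_pairwise] at hk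
    exact walkCe_sound (ceF D r) D.nroots 0 _ (h.1.1 r hc.1) hk (by intro e _; omega) s
      (Nat.zero_le _) (by omega)
  · unfold ceF
    have : (Nat.blt r D.nroots && Nat.blt s D.nroots) = false := by
      cases h1 : (Nat.blt r D.nroots && Nat.blt s D.nroots) with
      | false => rfl
      | true =>
        exfalso
        apply hc
        simp only [Bool.and_eq_true, Nat.blt_eq] at h1
        exact h1
    rw [this]; rfl

theorem cartanF_eq {D : ChevalleyDatum} (h : fastCheck D = true) : cartanF D = D.cartan := by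
  simp only [fastCheck, Bool.and_eq_true, allLt_iff, decide_eq_true_eq] at h
  funext i s
  unfold cartanF
  cases hc : (Nat.blt i D.rank && Nat.blt s D.nroots) with
  | false => rfl
  | true =>
    have hc' := hc
    simp only [Bool.and_eq_true, Nat.blt_eq] at hc'
    have := h.1.2 i hc'.1 s hc'.2
    unfold cartanF at this
    rw [hc] at this
    exact this

theorem negF_eq {D : ChevalleyDatum} (h : fastCheck D = true) : negF D = D.neg := by
  simp only [fastCheck, Bool.and_eq_true, allLt_iff, Nat.beq_eq] at h
  funext s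
  unfold negF
  cases hc : Nat.blt s D.nroots with
  | false => rfl
  | true =>
    have hc' := hc
    simp only [Nat.blt_eq] at hc'
    have := h.2 s hc'
    unfold negF at this
    rw [hc] at this
    exact this

theorem chainEntry_eq_toZ {D : ChevalleyDatum} (hK : KeysSorted D) (h : fastCheck D = true)
    {r s : ℕ} (hr : r < D.nroots) (hs : s < D.nroots) : D.chainEntry r s = toZ (slotN D r s) := by
  rw [← ceF_eq hK h]
  unfold ceF
  have : (Nat.blt r D.nroots && Nat.blt s D.nroots) = true := by
    simp only [Bool.and_eq_true, Nat.blt_eq]; exact ⟨hr, hs⟩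
  rw [this]; rfl

theorem cartan_eq_cartanD {D : ChevalleyDatum} (h : fastCheck D = true)
    {i s : ℕ} (hi : i < D.rank) (hs : s < D.nroots) : D.cartan i s = ((cartanD D i s : ℕ) : ℤ) - 4 := by
  rw [← cartanF_eq h]
  unfold cartanF
  have : (Nat.blt i D.rank && Nat.blt s D.nroots) = true := by
    simp only [Bool.and_eq_true, Nat.blt_eq]; exact ⟨hi, hs⟩
  rw [this]; rfl

/-! ### memoising a function on an initial segment -/

/-- `Σ_{k<n} f k B^k` -/
def packN (B : ℕ) (f : ℕ → ℕ) (n : ℕ) : ℕ :=
  Nat.rec 0 (fun k ih => Nat.add ih (Nat.mul (f k) (Nat.pow B k))) n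

/-- the `s`-th digit in base `B` -/
def digitN (B T s : ℕ) : ℕ := Nat.mod (Nat.div T (Nat.pow B s)) B

theorem packN_succ (B : ℕ) (f : ℕ → ℕ) (n : ℕ) :
    packN B f (n + 1) = packN B f n + f n * B ^ n := rfl

theorem packN_lt {B : ℕ} {f : ℕ → ℕ} {n : ℕ} (hf : ∀ k < n, f k < B) : packN B f n < B ^ n := by
  induction n with
  | zero => simp [packN]
  | succ n ih =>
    rw [packN_succ, pow_succ]
    have h1 := ih (fun k hk => hf k (Nat.lt_succ_of_lt hk))
    have h2 := hf n (Nat.lt_succ_self n)
    calc packN B f n + f n * B ^ n < B ^ n + f n * B ^ n := by omega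
      _ = (f n + 1) * B ^ n := by ring
      _ ≤ B * B ^ n := Nat.mul_le_mul_right _ h2
      _ = B ^ n * B := by ring

theorem digitN_packN {B : ℕ} {f : ℕ → ℕ} {n : ℕ} (hf : ∀ k < n, f k < B) {s : ℕ} (hs : s < n) :
    digitN B (packN B f n) s = f s := by
  have hB : 0 < B := lt_of_le_of_lt (Nat.zero_le _) (hf s hs)
  induction n with
  | zero => omega
  | succ n ih =>
    have hf' : ∀ k < n, f k < B := fun k hk => hf k (Nat.lt_succ_of_lt hk)
    rw [packN_succ]
    change ((packN B f n + f n * B ^ n) / B ^ s) % B = f s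
    rcases Nat.lt_succ_iff_lt_or_eq.1 hs with h | rfl
    · have e : B ^ n = B ^ (n - s - 1) * B * B ^ s := by
        rw [mul_assoc, ← pow_succ', ← pow_add]; congr 1; omega
      rw [e, ← mul_assoc, ← mul_assoc, Nat.add_mul_div_right _ _ (pow_pos hB s),
        Nat.add_mul_mod_self_right]
      exact ih hf' h
    · rw [Nat.add_mul_div_right _ _ (pow_pos hB s), Nat.div_eq_of_lt (packN_lt hf'), zero_add]
      exact Nat.mod_eq_of_lt (hf s hs)

end Cfsg.Agent.Helper6
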