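import Mathlib
import Cfsg.Agent.Helper6.Chev.Fast

set_option autoImplicit false

/-!
Versions of the formal computations parameterised by the table access functions, so that they can
be run on the packed tables.
-/

namespace Cfsg.Agent.Helper6

open Cfsg.Lie

section gen

variable (ce : ℕ → ℕ → List (ℕ × ℤ)) (ng : ℕ → ℕ)

def stepLG (r : ℕ) (σ : ℤ) (v : List (ℕ × ℤ)) : List (ℕ × ℤ) :=
  v.flatMap fun q =>
    q :: ((ce r q.1).zipIdx.map fun e => (e.1.1, q.2 * e.1.2 * σ ^ (e.2 + 1)))

def posRG (r s : ℕ) : ℕ := (ce (ng r) s).length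

def wRootG (r s : ℕ) : ℕ :=
  if posRG ce ng r s < (ce r s).length then
    (((ce r s)[((ce r s).length - posRG ce ng r s) - 1]?).map Prod.fst).getD s
  else if (ce r s).length < posRG ce ng r s then
    (((ce (ng r) s)[(posRG ce ng r s - (ce r s).length) - 1]?).map Prod.fst).getD s
  else s

def nColG (r s : ℕ) : List (ℕ × ℤ) :=
  stepLG ce r 1 (stepLG ce (ng r) (-1) (stepLG ce r 1 [(s, 1)]))

def etaOfG (r s : ℕ) : ℤ := coeffOf (nColG ce ng r s) (wRootG ce ng r s)

def etaRG (r s : ℕ) : ℤ := if s = r ∨ s = ng r then -1 else etaOfG ce ng r s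

def wRG (r s : ℕ) : ℕ := if s = r then ng r else if s = ng r then r else wRootG ce ng r s

end gen

theorem stepLG_eq (D : ChevalleyDatum) : stepLG D.chainEntry = stepL D := rfl
theorem posRG_eq (D : ChevalleyDatum) : posRG D.chainEntry D.neg = posR D := rfl
theorem wRootG_eq (D : ChevalleyDatum) : wRootG D.chainEntry D.neg = wRoot D := rfl
theorem nColG_eq (D : ChevalleyDatum) : nColG D.chainEntry D.neg = nCol D := rfl
theorem etaOfG_eq (D : ChevalleyDatum) : etaOfG D.chainEntry D.neg = etaOf D := rfl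
theorem etaRG_eq (D : ChevalleyDatum) : etaRG D.chainEntry D.neg = etaR D := rfl
theorem wRG_eq (D : ChevalleyDatum) : wRG D.chainEntry D.neg = wR D := rfl

/-- everything needed to use the packed tables of `D` -/
structure FastOK (D : ChevalleyDatum) : Prop where
  keys : KeysSorted D
  chk : fastCheck D = true

theorem etaRG_fast {D : ChevalleyDatum} (h : FastOK D) : etaRG (ceF D) (negF D) = etaR D := by
  rw [ceF_eq h.keys h.chk, negF_eq h.chk]; rfl

theorem wRG_fast {D : ChevalleyDatum} (h : FastOK D) : wRG (ceF D) (negF D) = wR D := by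
  rw [ceF_eq h.keys h.chk, negF_eq h.chk]; rfl

/-- the packed table of the reflection in the `i`-th fundamental root -/
def wPack (D : ChevalleyDatum) (i : ℕ) : ℕ :=
  packN 256 (wRG (ceF D) (negF D) (D.simple i)) D.nroots

/-- the packed table of the signs of `n_{p_i}`: digit 0 for `η = 1`, 1 otherwise -/
def bPack (D : ChevalleyDatum) (i : ℕ) : ℕ :=
  packN 2 (fun s => bif decide (etaRG (ceF D) (negF D) (D.simple i) s = 1) then 0 else 1) D.nroots

/-- fast reflection -/
def wD (D : ChevalleyDatum) (i s : ℕ) : ℕ := digitN 256 (wPack D i) s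

/-- fast sign -/
def etaD (D : ChevalleyDatum) (i s : ℕ) : ℤ :=
  bif Nat.beq (digitN 2 (bPack D i) s) 0 then 1 else -1

theorem wR_lt {D : ChevalleyDatum} (hB : BasicOK D) {r : ℕ} (hr : r < D.nroots) (hR : NRootOK D r)
    {s : ℕ} (hs : s < D.nroots) : wR D r s < D.nroots := by
  unfold wR
  split_ifs with h1 h2
  · exact (hB.neg r hr).1
  · exact hr
  · exact (hR s hs ⟨hs, h1, h2⟩).1.2.2.2.2.1.1

theorem wD_eq {D : ChevalleyDatum} (h : FastOK D) (hn : D.nroots ≤ 256) {i : ℕ}
    (hw : ∀ s < D.nroots, wR D (D.simple i) s < D.nroots) {s : ℕ} (hs : s < D.nroots) :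
    wD D i s = wR D (D.simple i) s := by
  unfold wD wPack
  rw [wRG_fast h]
  exact digitN_packN (fun k hk => lt_of_lt_of_le (hw k hk) hn) hs

theorem etaD_eq {D : ChevalleyDatum} (h : FastOK D) {i : ℕ}
    (hη : ∀ s < D.nroots, etaR D (D.simple i) s = 1 ∨ etaR D (D.simple i) s = -1)
    {s : ℕ} (hs : s < D.nroots) : etaD D i s = etaR D (D.simple i) s := by
  unfold etaD bPack
  rw [etaRG_fast h, digitN_packN (fun k _ => by cases decide (etaR D (D.simple i) k = 1) <;> simp) hs]
  rcases hη s hs with h1 | h1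
  · rw [h1]; rfl
  · rw [h1]; rfl

end Cfsg.Agent.Helper6
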