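import Mathlib
import Cfsg.Agent.Helper6.Chev.Gen

set_option autoImplicit false
set_option linter.unusedSectionVars false
set_option linter.unusedSimpArgs false

/-!
Conjugation of root elements by `n_p`, `p` fundamental: `n_p x_s(t) n_p⁻¹ = x_{w_p s}(η_s t)`.
-/

namespace Cfsg.Agent.Helper6

open Cfsg.Lie

/-- compatibility of an `s`-chain entry with the corresponding `w s`-chain entry -/
def TripRel (w : ℕ → ℕ) (η : ℕ → ℤ) (ηs ηu : ℤ) : ℕ → List (ℕ × ℤ) → List (ℕ × ℤ) → Prop
  | _, [], [] => True
  | k, q :: L, q' :: L' =>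
    q'.1 = w q.1 ∧ q.2 * η q.1 = ηu * q'.2 * ηs ^ (k + 1) ∧ TripRel w η ηs ηu (k + 1) L L'
  | _, _, _ => False

/-- Boolean version of `TripRel` -/
def tripB (w : ℕ → ℕ) (η : ℕ → ℤ) (ηs ηu : ℤ) : ℕ → List (ℕ × ℤ) → List (ℕ × ℤ) → Bool
  | _, [], [] => true
  | k, q :: L, q' :: L' =>
    Nat.beq q'.1 (w q.1) && decide (q.2 * η q.1 = ηu * q'.2 * ηs ^ (k + 1)) &&
      tripB w η ηs ηu (k + 1) L L'
  | _, _, _ => false

theorem tripB_iff (w : ℕ → ℕ) (η : ℕ → ℤ) (ηs ηu : ℤ) (k : ℕ) (L L' : List (ℕ × ℤ)) :
    tripB w η ηs ηu k L L' = true ↔ TripRel w η ηs ηu k L L' := by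
  induction L generalizing k L' with
  | nil => cases L' <;> simp [tripB, TripRel]
  | cons q L ih =>
    cases L' with
    | nil => simp [tripB, TripRel]
    | cons q' L' =>
      simp only [tripB, TripRel, Bool.and_eq_true, Nat.beq_eq, decide_eq_true_eq, ih, and_assoc]

theorem TripRel.congr {w w' : ℕ → ℕ} {η η' : ℕ → ℤ} {ηs ηu : ℤ} {k : ℕ} {L L' : List (ℕ × ℤ)}
    (h : TripRel w η ηs ηu k L L') (hw : ∀ q ∈ L, w q.1 = w' q.1) (hη : ∀ q ∈ L, η q.1 = η' q.1) :
    TripRel w' η' ηs ηu k L L' := by
  induction L generalizing k L' with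
  | nil => cases L' <;> simpa [TripRel] using h
  | cons q L ih =>
    cases L' with
    | nil => simp [TripRel] at h
    | cons q' L' =>
      simp only [TripRel] at h ⊢
      refine ⟨?_, ?_, ih h.2.2 (fun x hx => hw x (List.mem_cons_of_mem _ hx))
        (fun x hx => hη x (List.mem_cons_of_mem _ hx))⟩
      · rw [← hw q List.mem_cons_self]; exact h.1
      · rw [← hη q List.mem_cons_self]; exact h.2.1

theorem TripRel.length_eq {w : ℕ → ℕ} {η : ℕ → ℤ} {ηs ηu : ℤ} {k : ℕ} {L L' : List (ℕ × ℤ)}
    (h : TripRel w η ηs ηu k L L') : L.length = L'.length := by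
  induction L generalizing k L' with
  | nil => cases L' <;> simp [TripRel] at h ⊢
  | cons q L ih =>
    cases L' with
    | nil => simp [TripRel] at h
    | cons q' L' =>
      simp only [TripRel] at h
      simp [ih h.2.2]

/-- the table facts behind the conjugation formula, for the `i`-th fundamental root -/
structure ConjOK (D : ChevalleyDatum) (i : ℕ) : Prop where
  cart : ∀ j < D.rank, ∀ s < D.nroots, D.cartan j s =
    D.cartan j (wR D (D.simple i) s) - D.cartan j (D.simple i) * D.cartan i (wR D (D.simple i) s)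
  negw : ∀ s < D.nroots, wR D (D.simple i) (D.neg s) = D.neg (wR D (D.simple i) s)
  coroot : ∀ s < D.nroots, ∀ j < D.rank, corootC D (wR D (D.simple i) s) j =
    corootC D s j - (if j = i then ∑ k ∈ Finset.range D.rank, corootC D s k * D.cartan k (D.simple i) else 0)
  trip : ∀ s < D.nroots, ∀ e ∈ (D.chain.getD s #[]).toList,
    TripRel (wR D (D.simple i)) (etaR D (D.simple i)) (etaR D (D.simple i) s) (etaR D (D.simple i) e.1) 0
      e.2.toList (D.chainEntry (wR D (D.simple i) s) (wR D (D.simple i) e.1))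

variable {D : ChevalleyDatum} {F : Type*} [Field F]

theorem chainEntry_eq_of_mem (hK : KeysOK D) {s : ℕ} (hs : s < D.nroots)
    {e : ℕ × Array (ℕ × ℤ)} (he : e ∈ (D.chain.getD s #[]).toList) :
    D.chainEntry s e.1 = e.2.toList := by
  unfold ChevalleyDatum.chainEntry
  have hnd := hK s hs
  have : (D.chain.getD s #[]).toList.find? (fun e' => e'.1 = e.1) = some e := by
    generalize (D.chain.getD s #[]).toList = L at he hnd
    induction L with
    | nil => simp at he
    | cons a L ih =>
      rw [List.map_cons, List.nodup_cons] at hnd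
      rcases List.mem_cons.1 he with rfl | he'
      · rw [List.find?_cons_of_pos]; simp
      · have hne : a.1 ≠ e.1 := by
          intro h; apply hnd.1; rw [h]; exact List.mem_map_of_mem he'
        rw [List.find?_cons_of_neg (by simpa using hne)]
        exact ih he' hnd.2
  rw [this]

theorem exists_mem_of_chainEntry_ne_nil {s u : ℕ} (h : D.chainEntry s u ≠ []) :
    ∃ e ∈ (D.chain.getD s #[]).toList, e.1 = u := by
  unfold ChevalleyDatum.chainEntry at h
  cases hf : (D.chain.getD s #[]).toList.find? (fun e => e.1 = u) with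
  | none => rw [hf] at h; exact absurd rfl h
  | some e =>
    refine ⟨e, List.mem_of_find?_eq_some hf, ?_⟩
    have := List.find?_some hf
    simpa using this

/-- all table facts at the `i`-th fundamental root -/
structure SimpleAll (D : ChevalleyDatum) (i : ℕ) : Prop where
  hi : i < D.rank
  hS : SimpleOK D i
  hR : NRootOK D (D.simple i)
  hE : EtaOK D i
  hC : ConjOK D i

section main

variable (hB : BasicOK D) {i : ℕ} (hA : SimpleAll D i)
include hB hA

theorem wR_wR {s : ℕ} (hs : s < D.nroots) : wR D (D.simple i) (wR D (D.simple i) s) = s := by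
  have hp := hA.hS.1
  have hn := hB.neg _ hp
  unfold wR
  by_cases h1 : s = D.simple i
  · simp [h1, hn.2.1]
  · by_cases h2 : s = D.neg (D.simple i)
    · simp [h2, hn.2.1]
    · obtain ⟨_, _, _, _, hm, hw⟩ := (hA.hR s hs ⟨hs, h1, h2⟩).1
      simp [h1, h2, hm.2.1, hm.2.2, hw]

theorem wR_inj {s u : ℕ} (hs : s < D.nroots) (hu : u < D.nroots)
    (h : wR D (D.simple i) s = wR D (D.simple i) u) : s = u := by
  rw [← wR_wR hB hA hs, ← wR_wR hB hA hu, h]

theorem etaR_sq {s : ℕ} (hs : s < D.nroots) :
    ((etaR D (D.simple i) s : ℤ) : F) * ((etaR D (D.simple i) s : ℤ) : F) = 1 := by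
  rcases (hA.hE.2 s hs).1 with h | h <;> rw [h] <;> simp

theorem etaR_neg {s : ℕ} (hs : s < D.nroots) :
    etaR D (D.simple i) (D.neg s) = etaR D (D.simple i) s := by
  have h1 := (hA.hE.2 s hs).2.2
  rcases (hA.hE.2 s hs).1 with h | h
  · rw [h] at h1 ⊢; omega
  · rw [h] at h1 ⊢; omega

theorem nMat_mulVec_hr_all {s : ℕ} (hs : s < D.nroots) :
    (D.nMat F (D.simple i) 1).mulVec (hr D F s) = hr D F (wR D (D.simple i) s) := by
  have hp := hA.hS.1
  unfold hr
  rw [Matrix.mulVec_sum]
  have h1 : ∀ j ∈ Finset.range D.rank,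
      (D.nMat F (D.simple i) 1).mulVec (((corootC D s j : ℤ) : F) • hv D F j) =
        ((corootC D s j : ℤ) : F) • hv D F j -
          (((corootC D s j * D.cartan j (D.simple i) : ℤ)) : F) • hv D F i := by
    intro j hj
    rw [Matrix.mulVec_smul, nMat_mulVec_hv hB hp one_ne_zero (Finset.mem_range.1 hj),
      hr_simple hA.hi hA.hE]
    push_cast
    module
  rw [Finset.sum_congr rfl h1, Finset.sum_sub_distrib, ← Finset.sum_smul, ← Int.cast_sum]
  have h2 : ∀ j ∈ Finset.range D.rank,
      ((corootC D (wR D (D.simple i) s) j : ℤ) : F) • hv D F j =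
        ((corootC D s j : ℤ) : F) • hv D F j -
          (if j = i then ((∑ k ∈ Finset.range D.rank, corootC D s k * D.cartan k (D.simple i) : ℤ) : F) • hv D F i else 0) := by
    intro j hj
    rw [hA.hC.coroot s hs j (Finset.mem_range.1 hj)]
    by_cases hji : j = i
    · subst hji
      simp only [if_true]
      push_cast
      module
    · simp [hji]
  rw [Finset.sum_congr rfl h2, Finset.sum_sub_distrib, Finset.sum_ite_eq' (Finset.range D.rank) i,
    if_pos (Finset.mem_range.2 hA.hi)]

theorem nMat_mulVec_chainVec (ηs ηu : ℤ) (t : F) (k : ℕ) (L L' : List (ℕ × ℤ))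
    (hmem : ∀ q ∈ L, q.1 < D.nroots)
    (h : TripRel (wR D (D.simple i)) (etaR D (D.simple i)) ηs ηu k L L') :
    (D.nMat F (D.simple i) 1).mulVec (chainVec D F t k L) =
      ((ηu : ℤ) : F) • chainVec D F (((ηs : ℤ) : F) * t) k L' := by
  induction L generalizing k L' with
  | nil =>
    cases L' with
    | nil => simp [chainVec]
    | cons q' L' => simp [TripRel] at h
  | cons q L ih =>
    cases L' with
    | nil => simp [TripRel] at h
    | cons q' L' =>
      simp only [TripRel] at h
      obtain ⟨h1, h2, h3⟩ := h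
      simp only [chainVec, Matrix.mulVec_add, Matrix.mulVec_smul, smul_add]
      rw [ih (k + 1) L' (fun x hx => hmem x (List.mem_cons_of_mem _ hx)) h3,
        nMat_one_mulVec_ev_all hB hA.hS.1 hA.hR (hmem q List.mem_cons_self), h1]
      congr 1
      simp only [smul_smul]
      congr 1
      have := congrArg (Int.cast : ℤ → F) h2
      push_cast at this
      rw [mul_pow]
      linear_combination (t ^ (k + 1)) * this

/-- `n_p x_s(t) = x_{w_p s}(η_s t) n_p` -/
theorem nMat_mul_x {s : ℕ} (hs : s < D.nroots) (t : F) :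
    D.nMat F (D.simple i) 1 * D.x F s t =
      D.x F (wR D (D.simple i) s) (((etaR D (D.simple i) s : ℤ) : F) * t) * D.nMat F (D.simple i) 1 := by
  have hp := hA.hS.1
  have hws := wR_lt hB hp hA.hR hs
  have hnegs := hB.neg s hs
  apply matrix_ext_basis
  · intro j hj
    rw [← Matrix.mulVec_mulVec, ← Matrix.mulVec_mulVec, x_mulVec_hv hB hs t hj,
      nMat_mulVec_hv hB hp one_ne_zero hj, hr_simple hA.hi hA.hE, Matrix.mulVec_sub,
      Matrix.mulVec_sub, Matrix.mulVec_smul, Matrix.mulVec_smul,
      nMat_mulVec_hv hB hp one_ne_zero hj, hr_simple hA.hi hA.hE,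
      nMat_one_mulVec_ev_all hB hp hA.hR hs, x_mulVec_hv hB hws _ hj, x_mulVec_hv hB hws _ hA.hi,
      hA.hC.cart j hj s hs]
    push_cast
    module
  · intro u hu
    rw [← Matrix.mulVec_mulVec, ← Matrix.mulVec_mulVec, nMat_one_mulVec_ev_all hB hp hA.hR hu,
      Matrix.mulVec_smul]
    by_cases h1 : u = s
    · subst h1
      rw [x_mulVec_ev_self hB hu, x_mulVec_ev_self hB hws, nMat_one_mulVec_ev_all hB hp hA.hR hu]
    · by_cases h2 : u = D.neg s
      · subst h2
        rw [x_mulVec_ev_neg hB hs, hA.hC.negw s hs, x_mulVec_ev_neg hB hws, Matrix.mulVec_sub,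
          Matrix.mulVec_add, Matrix.mulVec_smul, Matrix.mulVec_smul,
          nMat_one_mulVec_ev_all hB hp hA.hR hu, hA.hC.negw s hs,
          nMat_one_mulVec_ev_all hB hp hA.hR hs, nMat_mulVec_hr_all hB hA hs, etaR_neg hB hA hs]
        have hsq := etaR_sq (F := F) hB hA hs
        linear_combination (norm := skip) (t • hr D F (wR D (D.simple i) s) -
          t ^ 2 • ((etaR D (D.simple i) s : ℤ) : F) • ev D F (wR D (D.simple i) s)) -
          (hsq) • (t • hr D F (wR D (D.simple i) s)) +
          (hsq) • (t ^ 2 • ((etaR D (D.simple i) s : ℤ) : F) • ev D F (wR D (D.simple i) s)) -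
          (t • hr D F (wR D (D.simple i) s) -
          t ^ 2 • ((etaR D (D.simple i) s : ℤ) : F) • ev D F (wR D (D.simple i) s))
        module
      · have hm : MemOK D s u := ⟨hu, h1, h2⟩
        have hwu := wR_lt hB hp hA.hR hu
        have hm' : MemOK D (wR D (D.simple i) s) (wR D (D.simple i) u) := by
          refine ⟨hwu, fun h => h1 (wR_inj hB hA hu hs h), fun h => h2 ?_⟩
          rw [← hA.hC.negw s hs] at h
          exact wR_inj hB hA hu hnegs.1 h
        rw [x_of_lt hs, x_mulVec_ev' hB.keys ⟨s, hs⟩ t hm, x_of_lt hws,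
          x_mulVec_ev' hB.keys ⟨_, hws⟩ _ hm', Matrix.mulVec_add,
          nMat_one_mulVec_ev_all hB hp hA.hR hu, smul_add]
        congr 1
        -- the chain parts
        have hmem : ∀ q ∈ D.chainEntry s u, q.1 < D.nroots := fun q hq =>
          (chainRel_mem (chainRel_chainEntry hB.chain hs u) q hq).1
        by_cases hne : D.chainEntry s u = []
        · have hne' : D.chainEntry (wR D (D.simple i) s) (wR D (D.simple i) u) = [] := by
            by_contra hcon
            obtain ⟨e', he', he'u⟩ := exists_mem_of_chainEntry_ne_nil hcon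
            have ht := hA.hC.trip _ hws e' he'
            rw [he'u, wR_wR hB hA hs, wR_wR hB hA hu, hne] at ht
            have hlen := ht.length_eq
            have : D.chainEntry (wR D (D.simple i) s) (wR D (D.simple i) u) = e'.2.toList := by
              rw [← he'u]; exact chainEntry_eq_of_mem hB.keys hws he'
            rw [this] at hcon
            apply hcon
            exact List.length_eq_zero_iff.1 (by simpa using hlen)
          change (D.nMat F (D.simple i) 1).mulVec (chainVec D F t 0 (D.chainEntry s u)) = _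
          rw [hne]
          change _ = ((etaR D (D.simple i) u : ℤ) : F) • chainVec D F _ 0 (D.chainEntry (wR D (D.simple i) s) (wR D (D.simple i) u))
          rw [hne']
          simp [chainVec]
        · obtain ⟨e, he, heu⟩ := exists_mem_of_chainEntry_ne_nil hne
          have ht := hA.hC.trip s hs e he
          rw [← chainEntry_eq_of_mem hB.keys hs he, heu] at ht
          exact nMat_mulVec_chainVec hB hA _ _ t 0 _ _ hmem ht

end main

end Cfsg.Agent.Helper6
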