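import Mathlib
import Cfsg.Agent.Helper6.Chev.Conj

set_option autoImplicit false
set_option linter.unusedSectionVars false
set_option linter.unusedSimpArgs false

/-!
Boolean checks (running on the packed tables) that imply `ConjOK`.
-/

namespace Cfsg.Agent.Helper6

open Cfsg.Lie

/-- `Σ_{k<n} f k` by plain recursion -/
def sumLt (n : ℕ) (f : ℕ → ℤ) : ℤ := Nat.rec 0 (fun k ih => ih + f k) n

theorem sumLt_eq (n : ℕ) (f : ℕ → ℤ) : sumLt n f = ∑ k ∈ Finset.range n, f k := by
  induction n with
  | zero => rfl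
  | succ n ih => rw [Finset.sum_range_succ, ← ih]; rfl

def cartChk (D : ChevalleyDatum) (i : ℕ) : Bool :=
  allLt D.rank fun j => allLt D.nroots fun s =>
    decide (cartanF D j s =
      cartanF D j (wD D i s) - cartanF D j (D.simple i) * cartanF D i (wD D i s))

def negwChk (D : ChevalleyDatum) (i : ℕ) : Bool :=
  allLt D.nroots fun s => Nat.beq (wD D i (negF D s)) (negF D (wD D i s))

def corootChk (D : ChevalleyDatum) (i : ℕ) : Bool :=
  allLt D.nroots fun s => allLt D.rank fun j =>
    decide (corootC D (wD D i s) j = corootC D s j -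
      (if j = i then sumLt D.rank (fun k => corootC D s k * cartanF D k (D.simple i)) else 0))

def tripChk (D : ChevalleyDatum) (i : ℕ) : Bool :=
  allLt D.nroots fun s =>
    allL (D.chain.getD s #[]).toList fun e =>
      Nat.blt e.1 D.nroots &&
      tripB (wD D i) (etaD D i) (etaD D i s) (etaD D i e.1) 0 e.2.toList
        (ceF D (wD D i s) (wD D i e.1))

def conjChk (D : ChevalleyDatum) (i : ℕ) : Bool :=
  cartChk D i && negwChk D i && corootChk D i && tripChk D i

variable {D : ChevalleyDatum}

theorem conjOK_of_chk (hB : BasicOK D) (hF : FastOK D) (hn : D.nroots ≤ 256) {i : ℕ}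
    (hS : SimpleOK D i) (hR : NRootOK D (D.simple i)) (hE : EtaOK D i)
    (h : conjChk D i = true) : ConjOK D i := by
  simp only [conjChk, Bool.and_eq_true] at h
  obtain ⟨⟨⟨h1, h2⟩, h3⟩, h4⟩ := h
  have hp := hS.1
  have hwlt : ∀ s < D.nroots, wR D (D.simple i) s < D.nroots := fun s hs => wR_lt hB hp hR hs
  have hw : ∀ s < D.nroots, wD D i s = wR D (D.simple i) s := fun s hs => wD_eq hF hn hwlt hs
  have hη : ∀ s < D.nroots, etaD D i s = etaR D (D.simple i) s := fun s hs =>
    etaD_eq hF (fun s hs => (hE.2 s hs).1) hs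
  refine ⟨?_, ?_, ?_, ?_⟩
  · intro j hj s hs
    simp only [cartChk, allLt_iff, decide_eq_true_eq] at h1
    have := h1 j hj s hs
    rw [cartanF_eq hF.chk, hw s hs] at this
    exact this
  · intro s hs
    simp only [negwChk, allLt_iff, Nat.beq_eq] at h2
    have := h2 s hs
    rw [negF_eq hF.chk, hw s hs, hw _ (hB.neg s hs).1] at this
    exact this
  · intro s hs j hj
    simp only [corootChk, allLt_iff, decide_eq_true_eq] at h3
    have := h3 s hs j hj
    rw [cartanF_eq hF.chk, hw s hs, sumLt_eq] at this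
    exact this
  · intro s hs e he
    simp only [tripChk, allLt_iff, allL_iff, Bool.and_eq_true, Nat.blt_eq, tripB_iff] at h4
    obtain ⟨he1, ht⟩ := h4 s hs e he
    rw [ceF_eq hF.keys hF.chk, hw s hs, hw e.1 he1, hη s hs, hη e.1 he1] at ht
    have hmem : ∀ q ∈ e.2.toList, q.1 < D.nroots := by
      intro q hq
      rw [← chainEntry_eq_of_mem hB.keys hs he] at hq
      exact (chainRel_mem (chainRel_chainEntry hB.chain hs e.1) q hq).1
    exact ht.congr (fun q hq => hw q.1 (hmem q hq)) (fun q hq => hη q.1 (hmem q hq))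

end Cfsg.Agent.Helper6
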