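import Mathlib
import Cfsg.Agent.Helper6.Chev.ConjChk

set_option autoImplicit false
set_option linter.unusedSectionVars false
set_option linter.unusedSimpArgs false

namespace Cfsg.Agent.Helper6

open Cfsg.Lie

/-- Boolean check (on the packed tables) implying `EtaOK` -/
def etaChk (D : ChevalleyDatum) (i : ℕ) : Bool :=
  (allLt D.rank fun k => decide (corootC D (D.simple i) k = if k = i then 1 else 0)) &&
  (allLt D.nroots fun s =>
    decide (etaD D i s * etaD D i (wD D i s) = (-1) ^ (cartanF D i s).natAbs) &&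
    decide (etaD D i s * etaD D i (negF D s) = 1))

variable {D : ChevalleyDatum}

theorem etaR_pm (hB : BasicOK D) {r : ℕ} (hr : r < D.nroots) (hR : NRootOK D r) {s : ℕ}
    (hs : s < D.nroots) : etaR D r s = 1 ∨ etaR D r s = -1 := by
  unfold etaR
  split_ifs with h
  · right; rfl
  · push Not at h
    exact (hR s hs ⟨hs, h.1, h.2⟩).1.2.2.2.1

theorem etaOK_of_chk (hB : BasicOK D) (hF : FastOK D) (hn : D.nroots ≤ 256) {i : ℕ}
    (hS : SimpleOK D i) (hR : NRootOK D (D.simple i)) (h : etaChk D i = true) : EtaOK D i := by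
  simp only [etaChk, Bool.and_eq_true, allLt_iff, decide_eq_true_eq] at h
  have hp := hS.1
  have hwlt : ∀ s < D.nroots, wR D (D.simple i) s < D.nroots := fun s hs => wR_lt hB hp hR hs
  have hw : ∀ s < D.nroots, wD D i s = wR D (D.simple i) s := fun s hs => wD_eq hF hn hwlt hs
  have hη : ∀ s < D.nroots, etaD D i s = etaR D (D.simple i) s := fun s hs =>
    etaD_eq hF (fun s hs => etaR_pm hB hp hR hs) hs
  refine ⟨h.1, ?_⟩
  intro s hs
  obtain ⟨h1, h2⟩ := h.2 s hs
  refine ⟨etaR_pm hB hp hR hs, ?_, ?_⟩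
  · rw [hη s hs, hw s hs, hη _ (hwlt s hs), cartanF_eq hF.chk] at h1
    rw [reflectRoot_eq_wR hB hS hs]
    exact h1
  · rw [hη s hs, negF_eq hF.chk, hη _ (hB.neg s hs).1] at h2
    exact h2

end Cfsg.Agent.Helper6
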