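import Mathlib
import Cfsg.Agent.Helper6.Chev.EtaChk

set_option autoImplicit false
set_option linter.unusedSectionVars false
set_option linter.unusedSimpArgs false

/-!
Conjugation of root elements by `h_p(c)`, `p` fundamental: additivity of the Cartan integers along
chains, checked on the packed tables.
-/

namespace Cfsg.Agent.Helper6

open Cfsg.Lie

/-- `A_{p_i, ·}` is additive along the `s`-chains -/
def AddOK (D : ChevalleyDatum) (i : ℕ) : Prop :=
  ∀ s < D.nroots, ∀ s', ∀ (k : ℕ) (q : ℕ × ℤ), (D.chainEntry s s')[k]? = some q →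
    D.cartan i q.1 = D.cartan i s' + (k + 1) * D.cartan i s

def addMemChk (c : ℕ → ℕ) (cs' cs : ℕ) : ℕ → List (ℕ × ℤ) → Bool
  | _, [] => true
  | k, q :: L =>
    Nat.beq (Nat.add (c q.1) (Nat.mul 4 (k + 1))) (Nat.add cs' (Nat.mul (k + 1) cs)) &&
      addMemChk c cs' cs (k + 1) L

theorem addMemChk_sound (c : ℕ → ℕ) (cs' cs : ℕ) : ∀ (k0 : ℕ) (L : List (ℕ × ℤ)),
    addMemChk c cs' cs k0 L = true → ∀ (k : ℕ) (q : ℕ × ℤ), L[k]? = some q →
      c q.1 + 4 * (k0 + k + 1) = cs' + (k0 + k + 1) * cs := by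
  intro k0 L
  induction L generalizing k0 with
  | nil => intro _ k q hq; simp at hq
  | cons a L ih =>
    intro h k q hq
    simp only [addMemChk, Bool.and_eq_true, Nat.beq_eq] at h
    cases k with
    | zero =>
      simp only [List.getElem?_cons_zero, Option.some.injEq] at hq
      rw [← hq]
      have := h.1
      simp only [Nat.add_eq, Nat.mul_eq] at this
      simpa using this
    | succ k =>
      simp only [List.getElem?_cons_succ] at hq
      have := ih (k0 + 1) h.2 k q hq
      rw [show k0 + (k + 1) + 1 = k0 + 1 + k + 1 by omega]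
      exact this

def addChk (D : ChevalleyDatum) (i : ℕ) : Bool :=
  allLt D.nroots fun s =>
    allL (D.chain.getD s #[]).toList fun e =>
      Nat.blt e.1 D.nroots &&
        addMemChk (cartanD D i) (cartanD D i e.1) (cartanD D i s) 0 e.2.toList

variable {D : ChevalleyDatum} {F : Type*} [Field F]

theorem addOK_of_chk (hB : BasicOK D) (hF : FastOK D) {i : ℕ} (hi : i < D.rank)
    (h : addChk D i = true) : AddOK D i := by
  simp only [addChk, allLt_iff, allL_iff, Bool.and_eq_true, Nat.blt_eq] at h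
  intro s hs s' k q hq
  have hne : D.chainEntry s s' ≠ [] := by
    intro h0; rw [h0] at hq; simp at hq
  obtain ⟨e, he, hes'⟩ := exists_mem_of_chainEntry_ne_nil hne
  obtain ⟨he1, hm⟩ := h s hs e he
  have hce := chainEntry_eq_of_mem hB.keys hs he
  rw [hes'] at hce
  rw [hce] at hq
  have := addMemChk_sound _ _ _ 0 _ hm k q hq
  have hq1 : q.1 < D.nroots := by
    have hq' : q ∈ D.chainEntry s s' := by rw [hce]; exact List.mem_of_getElem? hq
    exact (chainRel_mem (chainRel_chainEntry hB.chain hs s') q hq').1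
  rw [cartan_eq_cartanD hF.chk hi hq1, cartan_eq_cartanD hF.chk hi hs,
    cartan_eq_cartanD hF.chk hi (hes' ▸ he1)]
  rw [hes'] at this
  zify at this
  linarith

/-- `h_p(c) x_s(t) = x_s(c^{A_{p,s}} t) h_p(c)` -/
theorem hMat_mul_x (hB : BasicOK D) {i : ℕ} (hS : SimpleOK D i) (hR : NRootOK D (D.simple i))
    (hAdd : AddOK D i) (hi : i < D.rank) {s : ℕ} (hs : s < D.nroots) {c : F} (hc : c ≠ 0) (t : F) :
    D.hMat F (D.simple i) c * D.x F s t =
      D.x F s (c ^ (D.cartan i s) * t) * D.hMat F (D.simple i) c := by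
  have hd : D.hMat F (D.simple i) c = dMat D F 1 (fun u => c ^ (D.cartan i u)) := by
    rw [hMat_simple_eq_diagonal hB hS hR hc]; rfl
  rw [hd, x_of_lt hs, x_of_lt hs]
  apply dMat_mul_xMat hB.neg hB.keys 1 _ (c ^ (D.cartan i s)) ⟨s, hs⟩
  · simp
  · change (1 : F) = c ^ (D.cartan i s) * c ^ (D.cartan i (D.neg s))
    rw [(hB.negTab s hs).1 i hi, zpow_neg, mul_inv_cancel₀ (zpow_ne_zero _ hc)]
  · intro s' _ k q hq
    change c ^ (D.cartan i q.1) = (c ^ (D.cartan i s)) ^ (k + 1) * c ^ (D.cartan i s')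
    rw [hAdd s hs s' k q hq, zpow_add₀ hc, mul_comm, ← zpow_natCast, ← zpow_mul]
    congr 2
    push_cast
    ring

end Cfsg.Agent.Helper6
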