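import Mathlib
import Cfsg.Agent.Helper6.Chev.HConj

set_option autoImplicit false
set_option linter.unusedSectionVars false
set_option linter.unusedSimpArgs false

/-!
Transport of the structure of `h_s(c)`, `n_s(c)` along reflections in fundamental roots.
-/

namespace Cfsg.Agent.Helper6

open Cfsg.Lie

variable {D : ChevalleyDatum} {F : Type*} [Field F]

/-- `h_r(c)` is the diagonal matrix with entries `c ^ a(u)` -/
def HDiag (D : ChevalleyDatum) (F : Type*) [Field F] (r : ℕ) (a : ℕ → ℤ) : Prop :=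
  ∀ c : F, c ≠ 0 → D.hMat F r c = dMat D F 1 (fun u => c ^ (a u))

theorem dMat_mul_dMat (δ δ' : F) (χ χ' : ℕ → F) :
    dMat D F δ χ * dMat D F δ' χ' = dMat D F (δ * δ') (fun u => χ u * χ' u) := by
  unfold dMat
  rw [Matrix.diagonal_mul_diagonal]
  congr 1
  funext x
  rcases x with j | u <;> simp

theorem dMat_one_one : dMat D F 1 (fun _ => (1 : F)) = 1 := by
  unfold dMat
  rw [← Matrix.diagonal_one]
  congr 1
  funext x
  rcases x with j | u <;> simp

theorem nMat_eq' (r : ℕ) (c : F) : D.nMat F r c = D.x F r c * D.x F (D.neg r) (-c⁻¹) * D.x F r c := by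
  simp [ChevalleyDatum.nMat, ChevalleyDatum.wordMat, ChevalleyDatum.nWord, mul_assoc]

theorem hMat_eq' (r : ℕ) (c : F) : D.hMat F r c = D.nMat F r c * D.nMat F r (-1) := by
  simp [ChevalleyDatum.hMat, ChevalleyDatum.hWord, ChevalleyDatum.nMat, ChevalleyDatum.wordMat,
    List.map_append, List.prod_append]

theorem nMat_neg_mul (hB : BasicOK D) (r : ℕ) {c : F} (hc : c ≠ 0) :
    D.nMat F r (-c) * D.nMat F r c = 1 := by
  rw [nMat_eq', nMat_eq']
  have e1 : (-(-c)⁻¹) = c⁻¹ := by rw [inv_neg, neg_neg]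
  rw [e1]
  have hA : D.x F r (-c) * D.x F r c = 1 := x_neg_mul hB r c
  have hBm : D.x F (D.neg r) c⁻¹ * D.x F (D.neg r) (-c⁻¹) = 1 := x_mul_neg hB (D.neg r) c⁻¹
  simp only [mul_assoc]
  rw [← mul_assoc (D.x F r (-c)) (D.x F r c), hA, one_mul,
    ← mul_assoc (D.x F (D.neg r) c⁻¹), hBm, one_mul, hA]

theorem nMat_mul_neg (hB : BasicOK D) (r : ℕ) {c : F} (hc : c ≠ 0) :
    D.nMat F r c * D.nMat F r (-c) = 1 := by
  have := nMat_neg_mul hB r (neg_ne_zero.2 hc)
  rwa [neg_neg] at this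

/-- `n_r(c) = h_r(c) n_r(1)` -/
theorem nMat_eq_hMat_mul (hB : BasicOK D) (r : ℕ) (c : F) :
    D.nMat F r c = D.hMat F r c * D.nMat F r 1 := by
  rw [hMat_eq', mul_assoc, nMat_neg_mul hB r one_ne_zero, mul_one]

section step

variable (hB : BasicOK D) {i : ℕ} (hA : SimpleAll D i)
include hB hA

theorem nMat_mul_dMat (χ : ℕ → F) :
    D.nMat F (D.simple i) 1 * dMat D F 1 χ =
      dMat D F 1 (fun u => χ (wR D (D.simple i) u)) * D.nMat F (D.simple i) 1 := by
  have hp := hA.hS.1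
  apply matrix_ext_basis
  · intro j hj
    rw [← Matrix.mulVec_mulVec, ← Matrix.mulVec_mulVec, dMat_mulVec_hv, one_smul,
      nMat_mulVec_hv hB hp one_ne_zero hj, hr_simple hA.hi hA.hE, Matrix.mulVec_sub,
      Matrix.mulVec_smul, dMat_mulVec_hv, dMat_mulVec_hv, one_smul, one_smul]
  · intro u hu
    rw [← Matrix.mulVec_mulVec, ← Matrix.mulVec_mulVec, dMat_mulVec_ev, Matrix.mulVec_smul,
      nMat_one_mulVec_ev_all hB hp hA.hR hu, Matrix.mulVec_smul, dMat_mulVec_ev]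
    simp only [wR_wR hB hA hu, smul_smul]
    congr 1
    ring

/-- `n_p n_s(c) = n_{w_p s}(η_s c) n_p` -/
theorem nMat_mul_nMat {s : ℕ} (hs : s < D.nroots) {c : F} (hc : c ≠ 0) :
    D.nMat F (D.simple i) 1 * D.nMat F s c =
      D.nMat F (wR D (D.simple i) s) (((etaR D (D.simple i) s : ℤ) : F) * c) *
        D.nMat F (D.simple i) 1 := by
  have hns := (hB.neg s hs).1
  have hsq := etaR_sq (F := F) hB hA hs
  have hηne : ((etaR D (D.simple i) s : ℤ) : F) ≠ 0 := fun h => by rw [h] at hsq; simp at hsq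
  have hinv : (((etaR D (D.simple i) s : ℤ) : F))⁻¹ = ((etaR D (D.simple i) s : ℤ) : F) :=
    inv_eq_of_mul_eq_one_left hsq
  rw [nMat_eq' s, nMat_eq' (wR D (D.simple i) s), ← mul_assoc, ← mul_assoc, nMat_mul_x hB hA hs,
    mul_assoc (D.x F _ _) (D.nMat F _ _), nMat_mul_x hB hA hns, ← mul_assoc,
    mul_assoc (D.x F _ _ * D.x F _ _) (D.nMat F _ _), nMat_mul_x hB hA hs, ← mul_assoc,
    hA.hC.negw s hs, etaR_neg hB hA hs]
  congr 3
  rw [mul_inv, hinv, mul_neg]

/-- `h_{w_p s}(c) n_p = n_p · n_s(η c) n_s(-η)` -/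
theorem hMat_mul_nMat {s : ℕ} (hs : s < D.nroots) {c : F} (hc : c ≠ 0) :
    D.hMat F (wR D (D.simple i) s) c * D.nMat F (D.simple i) 1 =
      D.nMat F (D.simple i) 1 *
        (D.nMat F s (((etaR D (D.simple i) s : ℤ) : F) * c) *
          D.nMat F s (-((etaR D (D.simple i) s : ℤ) : F))) := by
  have hsq := etaR_sq (F := F) hB hA hs
  have hηne : ((etaR D (D.simple i) s : ℤ) : F) ≠ 0 := fun h => by rw [h] at hsq; simp at hsq
  rw [← mul_assoc, nMat_mul_nMat hB hA hs (mul_ne_zero hηne hc), mul_assoc,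
    nMat_mul_nMat hB hA hs (neg_ne_zero.2 hηne), ← mul_assoc, hMat_eq']
  congr 3
  · rw [← mul_assoc, hsq, one_mul]
  · rw [mul_neg, hsq]

/-- the product `n_s(η c) n_s(-η)` is `h_s(c)` when `h_s` is diagonal -/
theorem nMat_mul_nMat_eq_dMat {s : ℕ} (hs : s < D.nroots) {a : ℕ → ℤ} (ha : HDiag D F s a)
    {c : F} (hc : c ≠ 0) :
    D.nMat F s (((etaR D (D.simple i) s : ℤ) : F) * c) *
        D.nMat F s (-((etaR D (D.simple i) s : ℤ) : F)) = dMat D F 1 (fun u => c ^ (a u)) := by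
  rcases (hA.hE.2 s hs).1 with h | h
  · rw [h]
    simp only [Int.cast_one, one_mul]
    rw [← hMat_eq', ha c hc]
  · rw [h]
    simp only [Int.cast_neg, Int.cast_one, neg_mul, one_mul, neg_neg]
    -- X = n_s(-c) n_s(1)
    have h1 : D.nMat F s (-c) * D.nMat F s 1 * D.hMat F s (-1) = D.hMat F s (-c) := by
      rw [hMat_eq' s (-1), hMat_eq' s (-c), mul_assoc, ← mul_assoc (D.nMat F s 1),
        nMat_mul_neg hB s one_ne_zero, one_mul]
    have hm1 : (-1 : F) ≠ 0 := neg_ne_zero.2 one_ne_zero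
    rw [ha (-1) hm1, ha (-c) (neg_ne_zero.2 hc)] at h1
    have h2 : dMat D F 1 (fun u => (-1 : F) ^ (a u)) * dMat D F 1 (fun u => (-1 : F) ^ (a u)) = 1 := by
      rw [dMat_mul_dMat, ← dMat_one_one, one_mul]
      congr 1
      funext u
      rw [← mul_zpow]; simp
    have h3 := congrArg (fun M => M * dMat D F 1 (fun u => (-1 : F) ^ (a u))) h1
    simp only [mul_assoc, h2, mul_one] at h3
    rw [h3, dMat_mul_dMat, one_mul]
    congr 1
    funext u
    rw [← mul_zpow]; simp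

/-- `h_{w_p s}(c) n_p = n_p h_s(c)` when `h_s` is diagonal -/
theorem hMat_conj {s : ℕ} (hs : s < D.nroots) {a : ℕ → ℤ} (ha : HDiag D F s a) {c : F} (hc : c ≠ 0) :
    D.hMat F (wR D (D.simple i) s) c * D.nMat F (D.simple i) 1 =
      D.nMat F (D.simple i) 1 * D.hMat F s c := by
  rw [hMat_mul_nMat hB hA hs hc, nMat_mul_nMat_eq_dMat hB hA hs ha hc, ha c hc]

/-- the step: diagonality of `h_s` passes to `h_{w_p s}` -/
theorem HDiag.step {s : ℕ} (hs : s < D.nroots) {a : ℕ → ℤ} (ha : HDiag D F s a) :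
    HDiag D F (wR D (D.simple i) s) (fun u => a (wR D (D.simple i) u)) := by
  intro c hc
  have h1 := hMat_conj hB hA hs ha hc
  rw [ha c hc, nMat_mul_dMat hB hA] at h1
  have h2 := congrArg (fun M => M * D.nMat F (D.simple i) (-1)) h1
  simp only [mul_assoc, nMat_mul_neg hB (D.simple i) (one_ne_zero (α := F)), mul_one] at h2
  exact h2

end step

end Cfsg.Agent.Helper6
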