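import Mathlib
import Cfsg.Agent.Helper6.Chev.Orbit

set_option autoImplicit false
set_option linter.unusedSectionVars false
set_option linter.unusedSimpArgs false

/-!
Every root is obtained from a fundamental root by reflections in fundamental roots; consequences
for `h_r(c)` for all roots `r`.
-/

namespace Cfsg.Agent.Helper6

open Cfsg.Lie

/-- roots reachable from the fundamental roots by reflections in fundamental roots -/
inductive Reach (D : ChevalleyDatum) : ℕ → Prop
  | simple {i : ℕ} (hi : i < D.rank) : Reach D (D.simple i)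
  | step {i s : ℕ} (hi : i < D.rank) (hs : s < D.nroots) :
      Reach D s → Reach D (wR D (D.simple i) s)

/-- a cheap bounded existential quantifier -/
def anyLt (n : ℕ) (p : ℕ → Bool) : Bool := Nat.rec false (fun k ih => bif p k then true else ih) n

theorem anyLt_iff {n : ℕ} {p : ℕ → Bool} : anyLt n p = true ↔ ∃ k < n, p k = true := by
  induction n with
  | zero => simp [anyLt]
  | succ n ih =>
    change (bif p n then true else anyLt n p) = true ↔ _
    cases hp : p n with
    | true =>
      simp only [cond_true, true_iff]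
      exact ⟨n, Nat.lt_succ_self n, hp⟩
    | false =>
      simp only [cond_false, ih]
      constructor
      · rintro ⟨k, hk, hpk⟩; exact ⟨k, Nat.lt_succ_of_lt hk, hpk⟩
      · rintro ⟨k, hk, hpk⟩
        rcases Nat.lt_succ_iff_lt_or_eq.1 hk with h | rfl
        · exact ⟨k, h, hpk⟩
        · rw [hp] at hpk; exact absurd hpk (by simp)

/-- the reachability certificate: a root in the upper half is fundamental or is lowered, inside the
upper half, by a fundamental reflection; a root in the lower half has its negative in the upper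
half -/
def reachChk (D : ChevalleyDatum) : Bool :=
  allLt D.nroots fun r =>
    (Nat.blt r (D.nroots / 2) && Nat.ble (D.nroots / 2) (negF D r)) ||
    (Nat.ble (D.nroots / 2) r && anyLt D.rank fun i =>
      Nat.beq r (D.simple i) || (Nat.ble (D.nroots / 2) (wD D i r) && Nat.blt (wD D i r) r))

variable {D : ChevalleyDatum} {F : Type*} [Field F]

theorem Reach.lt (hB : BasicOK D) (hA : ∀ i < D.rank, SimpleAll D i) {r : ℕ} (h : Reach D r) :
    r < D.nroots := by
  induction h with
  | simple hi => exact (hA _ hi).hS.1
  | step hi hs _ _ => exact wR_lt hB (hA _ hi).hS.1 (hA _ hi).hR hs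

theorem Reach.neg (hB : BasicOK D) (hA : ∀ i < D.rank, SimpleAll D i) {r : ℕ} (h : Reach D r) :
    Reach D (D.neg r) := by
  induction h with
  | @simple i hi =>
    have := Reach.step hi (hA i hi).hS.1 (Reach.simple hi)
    unfold wR at this
    rwa [if_pos rfl] at this
  | @step i s hi hs _ ih =>
    rw [← (hA i hi).hC.negw s hs]
    exact Reach.step hi (hB.neg s hs).1 ih

theorem reach_of_chk (hB : BasicOK D) (hF : FastOK D) (hn : D.nroots ≤ 256)
    (hA : ∀ i < D.rank, SimpleAll D i) (h : reachChk D = true) : ∀ r < D.nroots, Reach D r := by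
  simp only [reachChk, allLt_iff, Bool.or_eq_true, Bool.and_eq_true, Nat.blt_eq, Nat.ble_eq,
    anyLt_iff, Nat.beq_eq] at h
  have hw : ∀ i < D.rank, ∀ s < D.nroots, wD D i s = wR D (D.simple i) s := fun i hi s hs =>
    wD_eq hF hn (fun s hs => wR_lt hB (hA i hi).hS.1 (hA i hi).hR hs) hs
  have hpos : ∀ r, D.nroots / 2 ≤ r → r < D.nroots → Reach D r := by
    intro r
    induction r using Nat.strong_induction_on with
    | _ r ih =>
      intro h1 h2
      rcases h r h2 with ⟨h3, _⟩ | ⟨_, i, hi, h3⟩
      · omega
      · rcases h3 with h3 | ⟨h3, h4⟩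
        · rw [h3]; exact Reach.simple hi
        · rw [hw i hi r h2] at h3 h4
          have := Reach.step hi (lt_trans h4 h2) (ih _ h4 h3 (lt_trans h4 h2))
          rwa [wR_wR hB (hA i hi) h2] at this
  intro r hr
  by_cases h1 : D.nroots / 2 ≤ r
  · exact hpos r h1 hr
  · rcases h r hr with ⟨_, h3⟩ | ⟨h3, _⟩
    · rw [negF_eq hF.chk] at h3
      have := (hpos _ h3 (hB.neg r hr).1).neg hB hA
      rwa [(hB.neg r hr).2.2] at this
    · omega

/-- the exponent of `h_r(c)` on `e_u` -/
def aOf (D : ChevalleyDatum) (r u : ℕ) : ℤ := ∑ k ∈ Finset.range D.rank, corootC D r k * D.cartan k u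

theorem dMat_congr {δ : F} {χ χ' : ℕ → F} (h : ∀ u < D.nroots, χ u = χ' u) :
    dMat D F δ χ = dMat D F δ χ' := by
  unfold dMat
  congr 1
  funext x
  rcases x with j | u
  · rfl
  · exact h u.val u.isLt

theorem HDiag.congr {r : ℕ} {a a' : ℕ → ℤ} (h : HDiag D F r a) (haa : ∀ u < D.nroots, a u = a' u) :
    HDiag D F r a' := by
  intro c hc
  rw [h c hc]
  exact dMat_congr (fun u hu => by rw [haa u hu])

theorem aOf_step (hB : BasicOK D) {i : ℕ} (hA : SimpleAll D i) {s : ℕ} (hs : s < D.nroots)
    {u : ℕ} (hu : u < D.nroots) :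
    aOf D s (wR D (D.simple i) u) = aOf D (wR D (D.simple i) s) u := by
  have hwu := wR_lt hB hA.hS.1 hA.hR hu
  unfold aOf
  have h1 : ∀ k ∈ Finset.range D.rank, corootC D s k * D.cartan k (wR D (D.simple i) u) =
      corootC D s k * D.cartan k u - (corootC D s k * D.cartan k (D.simple i)) * D.cartan i u := by
    intro k hk
    have := hA.hC.cart k (Finset.mem_range.1 hk) _ hwu
    rw [wR_wR hB hA hu] at this
    rw [this]; ring
  have h2 : ∀ k ∈ Finset.range D.rank, corootC D (wR D (D.simple i) s) k * D.cartan k u =
      corootC D s k * D.cartan k u -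
        (if k = i then (∑ m ∈ Finset.range D.rank, corootC D s m * D.cartan m (D.simple i)) * D.cartan i u else 0) := by
    intro k hk
    rw [hA.hC.coroot s hs k (Finset.mem_range.1 hk)]
    by_cases hki : k = i
    · subst hki; simp only [if_true]; ring
    · simp [hki]
  rw [Finset.sum_congr rfl h1, Finset.sum_congr rfl h2, Finset.sum_sub_distrib,
    Finset.sum_sub_distrib, Finset.sum_ite_eq' (Finset.range D.rank) i,
    if_pos (Finset.mem_range.2 hA.hi), Finset.sum_mul]

/-- `h_r(c)` is diagonal with exponents `aOf D r` for every reachable root -/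
theorem hDiag_of_reach (hB : BasicOK D) (hA : ∀ i < D.rank, SimpleAll D i) {r : ℕ}
    (h : Reach D r) : HDiag D F r (aOf D r) := by
  induction h with
  | @simple i hi =>
    intro c hc
    have hAi := hA i hi
    rw [hMat_simple_eq_diagonal hB hAi.hS hAi.hR hc]
    unfold dMat
    congr 1
    funext x
    rcases x with j | u
    · rfl
    · simp only [Sum.elim_inr]
      congr 1
      unfold aOf
      rw [Finset.sum_eq_single i]
      · rw [hAi.hE.1 i hi]; simp
      · intro k hk hki
        rw [hAi.hE.1 k (Finset.mem_range.1 hk), if_neg hki]; simp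
      · intro h; exact absurd (Finset.mem_range.2 hi) h
  | @step i s hi hs _ ih =>
    exact (ih.step hB (hA i hi) hs).congr (fun u hu => aOf_step hB (hA i hi) hs hu)

end Cfsg.Agent.Helper6
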