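import Mathlib
import Cfsg.Agent.Helper6.Chev.Reach

set_option autoImplicit false
set_option linter.unusedSectionVars false
set_option linter.unusedSimpArgs false

/-!
Root elements, `n_r(c)`, `h_r(c)` as elements of the general linear group; membership in the
Chevalley group and its standard subgroups.
-/

namespace Cfsg.Agent.Helper6

open Cfsg.Lie

variable {D : ChevalleyDatum} {F : Type*} [Field F]

/-- `x_r(t)` as a unit -/
def xU (hB : BasicOK D) (r : ℕ) (t : F) : GL D.Idx F :=
  ⟨D.x F r t, D.x F r (-t), x_mul_neg hB r t, x_neg_mul hB r t⟩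

@[simp] theorem xU_val (hB : BasicOK D) (r : ℕ) (t : F) :
    ((xU hB r t : GL D.Idx F) : Matrix D.Idx D.Idx F) = D.x F r t := rfl

theorem xU_mem_group (hB : BasicOK D) {r : ℕ} (hr : r < D.nroots) (t : F) :
    xU hB r t ∈ D.group F := by
  apply Subgroup.subset_closure
  exact ⟨⟨r, hr⟩, t, by rw [xU_val, x_of_lt hr]⟩

/-- a word as a unit -/
def wordU (hB : BasicOK D) (w : List (ℕ × F)) : GL D.Idx F := (w.map fun p => xU hB p.1 p.2).prod

theorem wordU_val (hB : BasicOK D) (w : List (ℕ × F)) :
    ((wordU hB w : GL D.Idx F) : Matrix D.Idx D.Idx F) = D.wordMat F w := by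
  unfold wordU ChevalleyDatum.wordMat
  induction w with
  | nil => simp
  | cons p w ih =>
    simp only [List.map_cons, List.prod_cons, Units.val_mul, xU_val, ih]

theorem wordU_mem_group (hB : BasicOK D) (w : List (ℕ × F)) (hw : ∀ p ∈ w, p.1 < D.nroots) :
    wordU hB w ∈ D.group F := by
  unfold wordU
  apply Subgroup.list_prod_mem
  intro g hg
  simp only [List.mem_map] at hg
  obtain ⟨p, hp, rfl⟩ := hg
  exact xU_mem_group hB (hw p hp) p.2

/-- a unit whose matrix is the matrix of a word in root elements lies in the Chevalley group -/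
theorem mem_group_of_val_eq_wordMat (hB : BasicOK D) {g : GL D.Idx F} (w : List (ℕ × F))
    (hw : ∀ p ∈ w, p.1 < D.nroots) (hg : (g : Matrix D.Idx D.Idx F) = D.wordMat F w) :
    g ∈ D.group F := by
  have : g = wordU hB w := Units.ext (by rw [hg, wordU_val])
  rw [this]
  exact wordU_mem_group hB w hw

theorem nWord_lt (hB : BasicOK D) {r : ℕ} (hr : r < D.nroots) (t : F) :
    ∀ p ∈ D.nWord r t, p.1 < D.nroots := by
  intro p hp
  simp only [ChevalleyDatum.nWord, List.mem_cons, List.not_mem_nil, or_false] at hp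
  rcases hp with rfl | rfl | rfl
  · exact hr
  · exact (hB.neg r hr).1
  · exact hr

theorem hWord_lt (hB : BasicOK D) {r : ℕ} (hr : r < D.nroots) (t : F) :
    ∀ p ∈ D.hWord r t, p.1 < D.nroots := by
  intro p hp
  simp only [ChevalleyDatum.hWord, List.mem_append] at hp
  rcases hp with hp | hp
  · exact nWord_lt hB hr t p hp
  · exact nWord_lt hB hr _ p hp

theorem posUnipotent_le_group (hB : BasicOK D) : D.posUnipotent F ≤ D.group F := by
  unfold ChevalleyDatum.posUnipotent
  rw [Subgroup.closure_le]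
  rintro g ⟨r, t, hr, hg⟩
  apply Subgroup.subset_closure
  exact ⟨⟨r, hr.1⟩, t, by rw [hg, x_of_lt hr.1]⟩

theorem diagonalSubgroup_le_group (hB : BasicOK D) : D.diagonalSubgroup F ≤ D.group F := by
  unfold ChevalleyDatum.diagonalSubgroup
  rw [Subgroup.closure_le]
  rintro g ⟨r, t, hr, _, hg⟩
  exact mem_group_of_val_eq_wordMat hB _ (hWord_lt hB hr t) hg

theorem monomialSubgroup_le_group (hB : BasicOK D) : D.monomialSubgroup F ≤ D.group F := by
  unfold ChevalleyDatum.monomialSubgroup
  apply sup_le (diagonalSubgroup_le_group hB)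
  rw [Subgroup.closure_le]
  rintro g ⟨r, hr, hg⟩
  exact mem_group_of_val_eq_wordMat hB _ (nWord_lt hB hr 1) hg

theorem borelSubgroup_le_group (hB : BasicOK D) : D.borelSubgroup F ≤ D.group F :=
  sup_le (posUnipotent_le_group hB) (diagonalSubgroup_le_group hB)

/-- `n_r(c)` as a unit -/
def nU (hB : BasicOK D) (r : ℕ) {c : F} (hc : c ≠ 0) : GL D.Idx F :=
  ⟨D.nMat F r c, D.nMat F r (-c), nMat_mul_neg hB r hc, nMat_neg_mul hB r hc⟩

@[simp] theorem nU_val (hB : BasicOK D) (r : ℕ) {c : F} (hc : c ≠ 0) :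
    ((nU hB r hc : GL D.Idx F) : Matrix D.Idx D.Idx F) = D.nMat F r c := rfl

theorem nU_one_mem_monomial (hB : BasicOK D) {r : ℕ} (hr : r < D.nroots) :
    nU hB r (one_ne_zero (α := F)) ∈ D.monomialSubgroup F := by
  unfold ChevalleyDatum.monomialSubgroup
  apply Subgroup.mem_sup_right
  apply Subgroup.subset_closure
  exact ⟨r, hr, rfl⟩

/-- conjugation of a root element by `n_p`, at the level of units -/
theorem nU_conj_xU (hB : BasicOK D) {i : ℕ} (hA : SimpleAll D i) {s : ℕ} (hs : s < D.nroots) (t : F) :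
    nU hB (D.simple i) (one_ne_zero (α := F)) * xU hB s t *
        (nU hB (D.simple i) (one_ne_zero (α := F)))⁻¹ =
      xU hB (wR D (D.simple i) s) (((etaR D (D.simple i) s : ℤ) : F) * t) := by
  rw [mul_inv_eq_iff_eq_mul]
  apply Units.ext
  simp only [Units.val_mul, nU_val, xU_val]
  exact nMat_mul_x hB hA hs t

end Cfsg.Agent.Helper6
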