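import Mathlib
import Cfsg.Agent.Helper6.Chev.GLvl

set_option autoImplicit false
set_option linter.unusedSectionVars false
set_option linter.unusedSimpArgs false

/-!
The diagonal subgroup `H`: its elements are the matrices `h(c) = h_{p_1}(c_1) ⋯ h_{p_l}(c_l)`.
-/

namespace Cfsg.Agent.Helper6

open Cfsg.Lie

variable {D : ChevalleyDatum} {F : Type*} [Field F]

/-- the character `u ↦ ∏ c_i ^ A_{p_i,u}` -/
def torChar (D : ChevalleyDatum) (c : ℕ → F) (u : ℕ) : F :=
  ∏ i ∈ Finset.range D.rank, c i ^ D.cartan i u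

/-- the torus element `h(c)` -/
def torMat (D : ChevalleyDatum) (F : Type*) [Field F] (c : ℕ → F) : Matrix D.Idx D.Idx F :=
  dMat D F 1 (torChar D c)

theorem torChar_mul (c d : ℕ → F) (u : ℕ) :
    torChar D c u * torChar D d u = torChar D (fun i => c i * d i) u := by
  unfold torChar
  rw [← Finset.prod_mul_distrib]
  exact Finset.prod_congr rfl (fun i _ => (mul_zpow _ _ _).symm)

theorem torMat_mul (c d : ℕ → F) : torMat D F c * torMat D F d = torMat D F (fun i => c i * d i) := by
  unfold torMat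
  rw [dMat_mul_dMat, one_mul]
  congr 1
  funext u
  exact torChar_mul c d u

theorem torMat_one : torMat D F (fun _ => (1 : F)) = 1 := by
  unfold torMat
  rw [← dMat_one_one]
  congr 1
  funext u
  simp [torChar]

theorem zpow_sum_range (t : F) (ht : t ≠ 0) (n : ℕ) (f : ℕ → ℤ) :
    t ^ (∑ k ∈ Finset.range n, f k) = ∏ k ∈ Finset.range n, t ^ f k := by
  induction n with
  | zero => simp
  | succ n ih => rw [Finset.sum_range_succ, Finset.prod_range_succ, zpow_add₀ ht, ih]

/-- `h_r(t)` is a torus element -/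
theorem hMat_eq_torMat {r : ℕ} (h : HDiag D F r (aOf D r)) {t : F} (ht : t ≠ 0) :
    D.hMat F r t = torMat D F (fun k => t ^ corootC D r k) := by
  rw [h t ht]
  unfold torMat
  congr 1
  funext u
  unfold aOf torChar
  rw [zpow_sum_range t ht]
  exact Finset.prod_congr rfl (fun k _ => by rw [zpow_mul])

theorem wordMat_append (w₁ w₂ : List (ℕ × F)) :
    D.wordMat F (w₁ ++ w₂) = D.wordMat F w₁ * D.wordMat F w₂ := by
  simp [ChevalleyDatum.wordMat, List.map_append, List.prod_append]

theorem wordMat_flatMap_hWord (c : ℕ → F) (L : List ℕ) :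
    D.wordMat F (L.flatMap fun i => D.hWord (D.simple i) (c i)) =
      (L.map fun i => D.hMat F (D.simple i) (c i)).prod := by
  induction L with
  | nil => simp [ChevalleyDatum.wordMat]
  | cons a L ih =>
    rw [List.flatMap_cons, wordMat_append, ih, List.map_cons, List.prod_cons]
    rfl

theorem prod_dMat (L : List ℕ) (χ : ℕ → ℕ → F) :
    (L.map fun i => dMat D F 1 (χ i)).prod = dMat D F 1 (fun u => (L.map fun i => χ i u).prod) := by
  induction L with
  | nil => simp [dMat_one_one]
  | cons a L ih =>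
    rw [List.map_cons, List.prod_cons, ih, dMat_mul_dMat, one_mul]
    congr 1

/-- the product of the `h_{p_i}(c_i)` is the torus element `h(c)` -/
theorem wordMat_eq_torMat (hB : BasicOK D) (hA : ∀ i < D.rank, SimpleAll D i) (c : ℕ → F)
    (hc : ∀ i < D.rank, c i ≠ 0) :
    D.wordMat F ((List.range D.rank).flatMap fun i => D.hWord (D.simple i) (c i)) = torMat D F c := by
  rw [wordMat_flatMap_hWord]
  have h1 : (List.range D.rank).map (fun i => D.hMat F (D.simple i) (c i)) =
      (List.range D.rank).map (fun i => dMat D F 1 (fun u => c i ^ D.cartan i u)) := by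
    apply List.map_congr_left
    intro i hi
    have hi' := List.mem_range.1 hi
    rw [hMat_simple_eq_diagonal hB (hA i hi').hS (hA i hi').hR (hc i hi')]
    rfl
  rw [h1, prod_dMat]
  unfold torMat
  apply dMat_congr
  intro u _
  unfold torChar
  rw [← List.toFinset_range, List.prod_toFinset _ (List.nodup_range)]

/-- every element of `H` is a torus element -/
theorem exists_torMat_of_mem_diagonal (hB : BasicOK D)
    (hH : ∀ r < D.nroots, HDiag D F r (aOf D r)) {g : GL D.Idx F} (hg : g ∈ D.diagonalSubgroup F) :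
    ∃ c : ℕ → F, (∀ i, c i ≠ 0) ∧ (g : Matrix D.Idx D.Idx F) = torMat D F c := by
  unfold ChevalleyDatum.diagonalSubgroup at hg
  induction hg using Subgroup.closure_induction with
  | mem g hg =>
    obtain ⟨r, t, hr, ht, hgv⟩ := hg
    exact ⟨fun k => t ^ corootC D r k, fun k => zpow_ne_zero _ ht, by
      rw [hgv, hMat_eq_torMat (hH r hr) ht]⟩
  | one => exact ⟨fun _ => 1, fun _ => one_ne_zero, by rw [Units.val_one, torMat_one]⟩
  | mul g₁ g₂ _ _ ih₁ ih₂ =>
    obtain ⟨c, hc, h1⟩ := ih₁
    obtain ⟨d, hd, h2⟩ := ih₂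
    exact ⟨fun i => c i * d i, fun i => mul_ne_zero (hc i) (hd i), by
      rw [Units.val_mul, h1, h2, torMat_mul]⟩
  | inv g _ ih =>
    obtain ⟨c, hc, h1⟩ := ih
    refine ⟨fun i => (c i)⁻¹, fun i => inv_ne_zero (hc i), ?_⟩
    have h2 : (g : Matrix D.Idx D.Idx F) * torMat D F (fun i => (c i)⁻¹) = 1 := by
      rw [h1, torMat_mul]
      have : (fun i => c i * (c i)⁻¹) = fun _ => (1 : F) := by
        funext i; exact mul_inv_cancel₀ (hc i)
      rw [this, torMat_one]
    have h3 : ((g⁻¹ : GL D.Idx F) : Matrix D.Idx D.Idx F) * (g : Matrix D.Idx D.Idx F) = 1 := by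
      rw [← Units.val_mul, inv_mul_cancel, Units.val_one]
    calc ((g⁻¹ : GL D.Idx F) : Matrix D.Idx D.Idx F)
        = ((g⁻¹ : GL D.Idx F) : Matrix D.Idx D.Idx F) * ((g : Matrix D.Idx D.Idx F) * torMat D F (fun i => (c i)⁻¹)) := by
          rw [h2, mul_one]
      _ = torMat D F (fun i => (c i)⁻¹) := by rw [← mul_assoc, h3, one_mul]

end Cfsg.Agent.Helper6
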