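import Mathlib
import Cfsg.Agent.Helper6.Chev.Torus

set_option autoImplicit false
set_option linter.unusedSectionVars false
set_option linter.unusedSimpArgs false
set_option linter.unusedVariables false

/-!
`N` normalises `H`.
-/

namespace Cfsg.Agent.Helper6

open Cfsg.Lie

variable {D : ChevalleyDatum} {F : Type*} [Field F]

theorem wordU_append (hB : BasicOK D) (w₁ w₂ : List (ℕ × F)) :
    wordU hB (w₁ ++ w₂) = wordU hB w₁ * wordU hB w₂ := by
  simp [wordU, List.map_append, List.prod_append]

theorem wordU_flatMap (hB : BasicOK D) (L : List ℕ) (f : ℕ → List (ℕ × F)) :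
    wordU hB (L.flatMap f) = (L.map fun i => wordU hB (f i)).prod := by
  induction L with
  | nil => simp [wordU]
  | cons a L ih => rw [List.flatMap_cons, wordU_append, ih, List.map_cons, List.prod_cons]

theorem hWordU_mem_diagonal (hB : BasicOK D) {r : ℕ} (hr : r < D.nroots) {t : F} (ht : t ≠ 0) :
    wordU hB (D.hWord r t) ∈ D.diagonalSubgroup F := by
  apply Subgroup.subset_closure
  exact ⟨r, t, hr, ht, wordU_val hB _⟩

/-- a unit whose matrix is a torus matrix lies in `H` -/
theorem mem_diagonal_of_val_eq_torMat (hB : BasicOK D) (hA : ∀ i < D.rank, SimpleAll D i)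
    {g : GL D.Idx F} {c : ℕ → F} (hc : ∀ i < D.rank, c i ≠ 0)
    (hg : (g : Matrix D.Idx D.Idx F) = torMat D F c) : g ∈ D.diagonalSubgroup F := by
  have : g = wordU hB ((List.range D.rank).flatMap fun i => D.hWord (D.simple i) (c i)) :=
    Units.ext (by rw [hg, wordU_val, wordMat_eq_torMat hB hA c hc])
  rw [this, wordU_flatMap]
  apply Subgroup.list_prod_mem
  intro x hx
  simp only [List.mem_map, List.mem_range] at hx
  obtain ⟨i, hi, rfl⟩ := hx
  exact hWordU_mem_diagonal hB (hA i hi).hS.1 (hc i hi)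

/-- the parameters of the conjugate of `h(c)` by `n_{p_i}` -/
def torConj (D : ChevalleyDatum) (i : ℕ) (c : ℕ → F) (k : ℕ) : F :=
  c k * (if k = i then ∏ m ∈ Finset.range D.rank, c m ^ (-D.cartan m (D.simple i)) else 1)

theorem torConj_ne_zero (i : ℕ) {c : ℕ → F} (hc : ∀ k, c k ≠ 0) (k : ℕ) : torConj D i c k ≠ 0 := by
  unfold torConj
  apply mul_ne_zero (hc k)
  split_ifs
  · exact Finset.prod_ne_zero_iff.2 (fun m _ => zpow_ne_zero _ (hc m))
  · exact one_ne_zero

theorem torChar_wR (hB : BasicOK D) {i : ℕ} (hA : SimpleAll D i) {c : ℕ → F} (hc : ∀ k, c k ≠ 0)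
    {u : ℕ} (hu : u < D.nroots) :
    torChar D c (wR D (D.simple i) u) = torChar D (torConj D i c) u := by
  have hwu := wR_lt hB hA.hS.1 hA.hR hu
  have hcart : ∀ k ∈ Finset.range D.rank, D.cartan k (wR D (D.simple i) u) =
      D.cartan k u + (-D.cartan k (D.simple i)) * D.cartan i u := by
    intro k hk
    have := hA.hC.cart k (Finset.mem_range.1 hk) _ hwu
    rw [wR_wR hB hA hu] at this
    rw [this]; ring
  unfold torChar torConj
  have h1 : ∀ k ∈ Finset.range D.rank, c k ^ D.cartan k (wR D (D.simple i) u) =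
      c k ^ D.cartan k u * (c k ^ (-D.cartan k (D.simple i))) ^ D.cartan i u := by
    intro k hk
    rw [hcart k hk, zpow_add₀ (hc k), zpow_mul]
  rw [Finset.prod_congr rfl h1, Finset.prod_mul_distrib, Finset.prod_zpow]
  have h2 : ∀ k ∈ Finset.range D.rank,
      (c k * (if k = i then ∏ m ∈ Finset.range D.rank, c m ^ (-D.cartan m (D.simple i)) else 1)) ^ D.cartan k u =
      c k ^ D.cartan k u *
        (if k = i then (∏ m ∈ Finset.range D.rank, c m ^ (-D.cartan m (D.simple i))) ^ D.cartan i u else 1) := by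
    intro k hk
    rw [mul_zpow]
    by_cases hki : k = i
    · subst hki; simp
    · simp [hki]
  rw [Finset.prod_congr rfl h2, Finset.prod_mul_distrib, Finset.prod_ite_eq' (Finset.range D.rank) i,
    if_pos (Finset.mem_range.2 hA.hi)]

section conj

variable (hB : BasicOK D) {i : ℕ} (hA : SimpleAll D i)
include hB hA

theorem nMat_mul_torMat {c : ℕ → F} (hc : ∀ k, c k ≠ 0) :
    D.nMat F (D.simple i) 1 * torMat D F c = torMat D F (torConj D i c) * D.nMat F (D.simple i) 1 := by
  unfold torMat
  rw [nMat_mul_dMat hB hA]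
  congr 1
  exact dMat_congr (fun u hu => torChar_wR hB hA hc hu)

theorem torMat_mul_nMat {c : ℕ → F} (hc : ∀ k, c k ≠ 0) :
    torMat D F c * D.nMat F (D.simple i) 1 = D.nMat F (D.simple i) 1 * torMat D F (torConj D i c) := by
  unfold torMat
  have h1 := nMat_mul_dMat hB hA (fun u => torChar D c (wR D (D.simple i) u))
  have h2 : dMat D F 1 (fun u => torChar D c (wR D (D.simple i) (wR D (D.simple i) u))) =
      dMat D F 1 (torChar D c) := dMat_congr (fun u hu => by rw [wR_wR hB hA hu])
  rw [h2] at h1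
  rw [← h1]
  congr 1
  exact dMat_congr (fun u hu => torChar_wR hB hA hc hu)

end conj

/-- `n_p` normalises `H` -/
theorem nU_simple_mem_normalizer (hB : BasicOK D) (hAll : ∀ i < D.rank, SimpleAll D i)
    (hH : ∀ r < D.nroots, HDiag D F r (aOf D r)) {i : ℕ} (hi : i < D.rank) :
    nU hB (D.simple i) (one_ne_zero (α := F)) ∈
      Subgroup.normalizer (D.diagonalSubgroup F : Set (GL D.Idx F)) := by
  have hA := hAll i hi
  rw [Subgroup.mem_normalizer_iff]
  intro h
  constructor
  · intro hh
    obtain ⟨c, hc, hv⟩ := exists_torMat_of_mem_diagonal hB hH hh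
    apply mem_diagonal_of_val_eq_torMat hB hAll (fun k _ => torConj_ne_zero i hc k)
    rw [Units.val_mul, Units.val_mul, nU_val, hv, nMat_mul_torMat hB hA hc, mul_assoc]
    have : D.nMat F (D.simple i) 1 * ((nU hB (D.simple i) (one_ne_zero (α := F)))⁻¹ : GL D.Idx F).val = 1 := by
      rw [← nU_val hB (D.simple i) (one_ne_zero (α := F)), ← Units.val_mul, mul_inv_cancel, Units.val_one]
    rw [this, mul_one]
  · intro hh
    obtain ⟨c, hc, hv⟩ := exists_torMat_of_mem_diagonal hB hH hh
    apply mem_diagonal_of_val_eq_torMat hB hAll (fun k _ => torConj_ne_zero i hc k)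
    -- h = n⁻¹ (n h n⁻¹) n
    have e : h = (nU hB (D.simple i) (one_ne_zero (α := F)))⁻¹ *
        (nU hB (D.simple i) (one_ne_zero (α := F)) * h * (nU hB (D.simple i) (one_ne_zero (α := F)))⁻¹) *
        nU hB (D.simple i) (one_ne_zero (α := F)) := by group
    rw [e, Units.val_mul, Units.val_mul, hv, nU_val, mul_assoc, torMat_mul_nMat hB hA hc, ← mul_assoc]
    have : ((nU hB (D.simple i) (one_ne_zero (α := F)))⁻¹ : GL D.Idx F).val * D.nMat F (D.simple i) 1 = 1 := by
      rw [← nU_val hB (D.simple i) (one_ne_zero (α := F)), ← Units.val_mul, inv_mul_cancel, Units.val_one]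
    rw [this, one_mul]

/-- `n_r` normalises `H` for every reachable root -/
theorem nU_mem_normalizer_of_reach (hB : BasicOK D) (hAll : ∀ i < D.rank, SimpleAll D i)
    (hH : ∀ r < D.nroots, HDiag D F r (aOf D r)) {r : ℕ} (hr : Reach D r) :
    nU hB r (one_ne_zero (α := F)) ∈ Subgroup.normalizer (D.diagonalSubgroup F : Set (GL D.Idx F)) := by
  induction hr with
  | @simple i hi => exact nU_simple_mem_normalizer hB hAll hH hi
  | @step i s hi hs _ ih =>
    have hA := hAll i hi
    have hsq := etaR_sq (F := F) hB hA hs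
    have hηne : ((etaR D (D.simple i) s : ℤ) : F) ≠ 0 := fun h => by rw [h] at hsq; simp at hsq
    have hn := nU_simple_mem_normalizer hB hAll hH hi
    -- n_{ws}(1) = n_p n_s(η) n_p⁻¹ and n_s(η) = h_s(η) n_s(1)
    have e1 : nU hB (wR D (D.simple i) s) (one_ne_zero (α := F)) =
        nU hB (D.simple i) (one_ne_zero (α := F)) * nU hB s hηne *
          (nU hB (D.simple i) (one_ne_zero (α := F)))⁻¹ := by
      rw [eq_mul_inv_iff_mul_eq]
      apply Units.ext
      simp only [Units.val_mul, nU_val]
      rw [nMat_mul_nMat hB hA hs hηne, hsq]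
    have e2 : nU hB s hηne = wordU hB (D.hWord s ((etaR D (D.simple i) s : ℤ) : F)) *
        nU hB s (one_ne_zero (α := F)) := by
      apply Units.ext
      simp only [Units.val_mul, nU_val, wordU_val]
      exact nMat_eq_hMat_mul hB s _
    rw [e1, e2]
    have hh : wordU hB (D.hWord s ((etaR D (D.simple i) s : ℤ) : F)) ∈
        Subgroup.normalizer (D.diagonalSubgroup F : Set (GL D.Idx F)) :=
      Subgroup.le_normalizer (hWordU_mem_diagonal hB hs hηne)
    exact Subgroup.mul_mem _ (Subgroup.mul_mem _ hn (Subgroup.mul_mem _ hh ih)) (Subgroup.inv_mem _ hn)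

/-- `N` normalises `H` -/
theorem monomial_le_normalizer (hB : BasicOK D) (hAll : ∀ i < D.rank, SimpleAll D i)
    (hH : ∀ r < D.nroots, HDiag D F r (aOf D r)) (hReach : ∀ r < D.nroots, Reach D r) :
    D.monomialSubgroup F ≤ Subgroup.normalizer (D.diagonalSubgroup F : Set (GL D.Idx F)) := by
  unfold ChevalleyDatum.monomialSubgroup
  apply sup_le Subgroup.le_normalizer
  rw [Subgroup.closure_le]
  rintro g ⟨r, hr, hg⟩
  have : g = nU hB r (one_ne_zero (α := F)) := Units.ext (by rw [hg, nU_val])
  rw [this]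
  exact nU_mem_normalizer_of_reach hB hAll hH (hReach r hr)

end Cfsg.Agent.Helper6
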