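import Mathlib
import Cfsg.Agent.Helper6.Chev.Normal
import Cfsg.Agent.Helper6.ChevUnitri

set_option autoImplicit false
set_option linter.unusedSectionVars false
set_option linter.unusedSimpArgs false
set_option linter.unusedVariables false

/-!
`H` normalises `U`, and `U ∩ H = 1`.
-/

namespace Cfsg.Agent.Helper6

open Cfsg.Lie

variable {D : ChevalleyDatum} {F : Type*} [Field F]

theorem torChar_ne_zero {c : ℕ → F} (hc : ∀ k, c k ≠ 0) (u : ℕ) : torChar D c u ≠ 0 :=
  Finset.prod_ne_zero_iff.2 (fun m _ => zpow_ne_zero _ (hc m))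

/-- `h(c) x_r(t) = x_r(χ_c(r) t) h(c)` -/
theorem torMat_mul_x (hB : BasicOK D) (hAdd : ∀ i < D.rank, AddOK D i) {c : ℕ → F}
    (hc : ∀ k, c k ≠ 0) {r : ℕ} (hr : r < D.nroots) (t : F) :
    torMat D F c * D.x F r t = D.x F r (torChar D c r * t) * torMat D F c := by
  unfold torMat
  rw [x_of_lt hr, x_of_lt hr]
  apply dMat_mul_xMat hB.neg hB.keys 1 _ (torChar D c r) ⟨r, hr⟩
  · simp
  · change (1 : F) = torChar D c r * torChar D c (D.neg r)
    unfold torChar
    rw [← Finset.prod_mul_distrib]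
    symm
    apply Finset.prod_eq_one
    intro k hk
    rw [(hB.negTab r hr).1 k (Finset.mem_range.1 hk), zpow_neg, mul_inv_cancel₀ (zpow_ne_zero _ (hc k))]
  · intro s' _ k q hq
    change torChar D c q.1 = (torChar D c r) ^ (k + 1) * torChar D c s'
    unfold torChar
    rw [← Finset.prod_pow, ← Finset.prod_mul_distrib]
    apply Finset.prod_congr rfl
    intro m hm
    rw [hAdd m (Finset.mem_range.1 hm) r hr s' k q hq, zpow_add₀ (hc m), mul_comm, ← zpow_natCast,
      ← zpow_mul]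
    congr 2
    push_cast
    ring

/-- conjugation by an element of `H` maps `U` into `U` -/
theorem conj_mem_posUnipotent (hB : BasicOK D) (hAll : ∀ i < D.rank, SimpleAll D i)
    (hAdd : ∀ i < D.rank, AddOK D i) (hH : ∀ r < D.nroots, HDiag D F r (aOf D r))
    {h : GL D.Idx F} (hh : h ∈ D.diagonalSubgroup F) {u : GL D.Idx F} (hu : u ∈ D.posUnipotent F) :
    h * u * h⁻¹ ∈ D.posUnipotent F := by
  obtain ⟨c, hc, hv⟩ := exists_torMat_of_mem_diagonal hB hH hh
  unfold ChevalleyDatum.posUnipotent at hu ⊢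
  induction hu using Subgroup.closure_induction with
  | mem g hg =>
    obtain ⟨r, t, hr, hgv⟩ := hg
    apply Subgroup.subset_closure
    refine ⟨r, torChar D c r * t, hr, ?_⟩
    have : h * g * h⁻¹ = xU hB r (torChar D c r * t) := by
      rw [mul_inv_eq_iff_eq_mul]
      apply Units.ext
      rw [Units.val_mul, Units.val_mul, hv, hgv, xU_val]
      exact torMat_mul_x hB hAdd hc hr.1 t
    rw [this, xU_val]
  | one => simp
  | mul g₁ g₂ _ _ ih₁ ih₂ =>
    have : h * (g₁ * g₂) * h⁻¹ = (h * g₁ * h⁻¹) * (h * g₂ * h⁻¹) := by group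
    rw [this]
    exact Subgroup.mul_mem _ ih₁ ih₂
  | inv g _ ih =>
    have : h * g⁻¹ * h⁻¹ = (h * g * h⁻¹)⁻¹ := by group
    rw [this]
    exact Subgroup.inv_mem _ ih

/-- `H` normalises `U` -/
theorem diagonal_le_normalizer_posUnipotent (hB : BasicOK D) (hAll : ∀ i < D.rank, SimpleAll D i)
    (hAdd : ∀ i < D.rank, AddOK D i) (hH : ∀ r < D.nroots, HDiag D F r (aOf D r)) :
    D.diagonalSubgroup F ≤ Subgroup.normalizer (D.posUnipotent F : Set (GL D.Idx F)) := by
  intro h hh
  rw [Subgroup.mem_normalizer_iff]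
  intro u
  constructor
  · intro hu
    exact conj_mem_posUnipotent hB hAll hAdd hH hh hu
  · intro hu
    have := conj_mem_posUnipotent hB hAll hAdd hH (Subgroup.inv_mem _ hh) hu
    have e : h⁻¹ * (h * u * h⁻¹) * h⁻¹⁻¹ = u := by group
    rwa [e] at this

/-- `U ∩ H = 1` -/
theorem posUnipotent_inf_diagonal (hB : BasicOK D)
    (hH : ∀ r < D.nroots, HDiag D F r (aOf D r)) (hG : Chev.Good D) :
    D.posUnipotent F ⊓ D.diagonalSubgroup F = ⊥ := by
  rw [eq_bot_iff]
  rintro g ⟨hgU, hgH⟩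
  rw [Subgroup.mem_bot]
  obtain ⟨N, hN, hNle, hrk⟩ := hG.ex
  have hUT := Chev.posUnipotent_le_UT (F := F) D N hN hNle hrk hgU
  obtain ⟨hr1, _⟩ := Chev.mem_UT.1 hUT
  obtain ⟨c, hc, hv⟩ := exists_torMat_of_mem_diagonal hB hH hgH
  apply Units.ext
  rw [Units.val_one]
  ext i j
  by_cases hij : i = j
  · subst hij
    by_contra hne
    have : ((g : Matrix D.Idx D.Idx F) - 1) i i ≠ 0 := by
      rw [Matrix.sub_apply, Matrix.one_apply_eq]
      intro h0
      apply hne
      rw [Matrix.one_apply_eq]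
      exact sub_eq_zero.1 h0
    have := hr1 i i this
    omega
  · rw [hv, Matrix.one_apply_ne hij]
    unfold torMat dMat
    exact Matrix.diagonal_apply_ne _ hij

end Cfsg.Agent.Helper6
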