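import Mathlib
import Cfsg.Agent.Helper6.ChevUnitri

set_option autoImplicit false
set_option linter.unusedSectionVars false
set_option linter.unusedSimpArgs false
set_option linter.unusedVariables false

/-!
The negative root elements are lower unitriangular for the level function of `ChevUnitri`.
-/

namespace Cfsg.Agent.Helper6.Chev

open Cfsg.Lie

/-- Boolean check: for every negative root `r`: `r < N`, `N ≤ -r` and every `r`-chain through
`s` only reaches roots of smaller index. -/
def negCheck (D : ChevalleyDatum) (N : ℕ) : Bool :=
  (List.range D.nroots).all fun r =>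
    !(decide (D.IsNegRoot r)) ||
      (decide (r < N) && decide (N ≤ D.negIdx.getD r 0) &&
        (D.chain.getD r #[]).toList.all fun e => e.2.toList.all fun q => decide (q.1 < e.1))

/-- the reversed level -/
def revLevel (D : ChevalleyDatum) (N : ℕ) (i : D.Idx) : ℕ := D.nroots - level D N i

theorem level_le (D : ChevalleyDatum) (N : ℕ) (hN : N ≤ D.nroots) (i : D.Idx) :
    level D N i ≤ D.nroots := by
  rcases i with i | s
  · exact hN
  · simp only [level]
    have := s.2
    split_ifs <;> omega

theorem revLevel_lt (D : ChevalleyDatum) (N : ℕ) (i : D.Idx) : revLevel D N i < D.nroots + 1 := by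
  unfold revLevel; omega

theorem negCheck_spec {D : ChevalleyDatum} {N : ℕ} (h : negCheck D N = true) {r : ℕ}
    (hr : D.IsNegRoot r) :
    r < N ∧ N ≤ D.negIdx.getD r 0 ∧
      ∀ e ∈ (D.chain.getD r #[]).toList, ∀ q ∈ e.2.toList, q.1 < e.1 := by
  unfold negCheck at h
  rw [List.all_eq_true] at h
  have h1 := h r (List.mem_range.mpr hr.1)
  simp only [Bool.or_eq_true, Bool.not_eq_true', decide_eq_false_iff_not, Bool.and_eq_true,
    decide_eq_true_eq, List.all_eq_true] at h1
  rcases h1 with h1 | h1
  · exact absurd hr h1
  · exact ⟨h1.1.1, h1.1.2, h1.2⟩

variable {F : Type*} [Field F]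

theorem lowers_x (D : ChevalleyDatum) (N : ℕ) (hN : N ≤ D.nroots) (h : negCheck D N = true) {r : ℕ}
    (hr : D.IsNegRoot r) (t : F) : Raises (revLevel D N) 1 (D.x F r t - 1) := by
  obtain ⟨h1, h2, h3⟩ := negCheck_spec h hr
  have hrn : r < D.nroots := hr.1
  unfold ChevalleyDatum.x
  rw [dif_pos hrn]
  intro i j hij
  have hli := level_le D N hN i
  have hlj := level_le D N hN j
  suffices hs : level D N i + 1 ≤ level D N j by unfold revLevel; omega
  rw [Matrix.sub_apply] at hij
  rcases j with c | s
  · rcases i with c' | u
    · exfalso; apply hij
      simp only [ChevalleyDatum.xMat, Matrix.of_apply, Matrix.one_apply, Sum.inl.injEq]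
      simp
    · simp only [ChevalleyDatum.xMat, Matrix.of_apply, Matrix.one_apply] at hij
      by_cases hur : u = ⟨r, hrn⟩
      · subst hur
        simp only [level]
        simp only [h1, if_true]
        omega
      · exfalso; apply hij; simp [hur]
  · by_cases hsr : s = ⟨r, hrn⟩
    · exfalso; apply hij
      subst hsr
      rcases i with c' | u
      · simp [ChevalleyDatum.xMat, Matrix.of_apply]
      · simp only [ChevalleyDatum.xMat, Matrix.of_apply, Matrix.one_apply, if_true, Sum.inr.injEq]
        simp
    · by_cases hsn : s.val = D.negIdx.getD r 0
      · rcases i with c' | u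
        · simp only [level]
          have : ¬ s.val < N := by omega
          simp only [this, if_false]
          omega
        · simp only [ChevalleyDatum.xMat, Matrix.of_apply, Matrix.one_apply, hsr, if_false,
            hsn, if_true, Sum.inr.injEq] at hij
          by_cases hus : u = s
          · exfalso; apply hij; simp [hus]
          · by_cases hur : u = ⟨r, hrn⟩
            · subst hur
              apply level_inr_lt
              simp only
              omega
            · exfalso; apply hij; simp [hus, hur]
      · rcases i with c' | u
        · exfalso; apply hij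
          simp only [ChevalleyDatum.xMat, Matrix.of_apply, hsr, if_false, hsn]
          simp
        · simp only [ChevalleyDatum.xMat, Matrix.of_apply, Matrix.one_apply, hsr, if_false,
            hsn, Sum.inr.injEq] at hij
          have hne : D.chainCoeff r s.val u.val ≠ [] := by
            intro hnil
            apply hij
            rw [hnil]
            simp
          obtain ⟨e, he, hes, q, hq, hqu⟩ := chainCoeff_ne_nil hne
          have := h3 e he q hq
          apply level_inr_lt
          omega

theorem negUnipotent_le_UT (D : ChevalleyDatum) (N : ℕ) (h : negCheck D N = true)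
    (hN : N ≤ D.nroots) :
    D.negUnipotent F ≤ (UT (revLevel D N) 1 : Subgroup (GL D.Idx F)) := by
  unfold ChevalleyDatum.negUnipotent
  rw [Subgroup.closure_le]
  rintro g ⟨r, t, hr, hg⟩
  apply mem_UT_of_raises (revLevel_lt D N) le_rfl
  rw [hg]
  exact lowers_x D N hN h hr t

set_option maxRecDepth 100000 in
theorem negCheck_G2 : negCheck chevG2 6 = true := by decide +kernel
set_option maxRecDepth 100000 in
theorem negCheck_B2 : negCheck chevB2 4 = true := by decide +kernel
set_option maxRecDepth 100000 in
theorem negCheck_D4 : negCheck chevD4 12 = true := by decide +kernel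
set_option maxRecDepth 100000 in
theorem negCheck_F4 : negCheck chevF4 24 = true := by decide +kernel
set_option maxRecDepth 100000 in
theorem negCheck_E6 : negCheck chevE6 36 = true := by decide +kernel
set_option maxRecDepth 100000 in
theorem negCheck_E7 : negCheck chevE7 63 = true := by decide +kernel
set_option maxRecDepth 100000 in
theorem negCheck_E8 : negCheck chevE8 120 = true := by decide +kernel

/-- both triangular structures, for the same `N` -/
structure Good2 (D : ChevalleyDatum) : Prop where
  ex : ∃ N : ℕ, posCheck D N = true ∧ negCheck D N = true ∧ N ≤ D.nroots ∧ 1 ≤ D.rank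

theorem good2_of_mem {D : ChevalleyDatum}
    (hD : D ∈ [chevG2, chevB2, chevD4, chevF4, chevE6, chevE7, chevE8]) : Good2 D := by
  simp only [List.mem_cons, List.not_mem_nil, or_false] at hD
  rcases hD with rfl | rfl | rfl | rfl | rfl | rfl | rfl
  · exact ⟨6, by decide +kernel, negCheck_G2, by decide, by decide⟩
  · exact ⟨4, by decide +kernel, negCheck_B2, by decide, by decide⟩
  · exact ⟨12, by decide +kernel, negCheck_D4, by decide, by decide⟩
  · exact ⟨24, by decide +kernel, negCheck_F4, by decide, by decide⟩
  · exact ⟨36, by decide +kernel, negCheck_E6, by decide, by decide⟩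
  · exact ⟨63, by decide +kernel, negCheck_E7, by decide, by decide⟩
  · exact ⟨120, by decide +kernel, negCheck_E8, by decide, by decide⟩

end Cfsg.Agent.Helper6.Chev
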