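import Mathlib
import Cfsg.Agent.Helper6.Chev.Borel
import Cfsg.Agent.Helper6.Chev.NegUnip

set_option autoImplicit false
set_option linter.unusedSectionVars false
set_option linter.unusedSimpArgs false
set_option linter.unusedVariables false

/-!
`UH ∩ V = 1` and `UH ∩ VH = H`.
-/

namespace Cfsg.Agent.Helper6

open Cfsg.Lie

variable {D : ChevalleyDatum} {F : Type*} [Field F]

/-- conjugation by an element of `H` maps `V` into `V` -/
theorem conj_mem_negUnipotent (hB : BasicOK D) (hAll : ∀ i < D.rank, SimpleAll D i)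
    (hAdd : ∀ i < D.rank, AddOK D i) (hH : ∀ r < D.nroots, HDiag D F r (aOf D r))
    {h : GL D.Idx F} (hh : h ∈ D.diagonalSubgroup F) {u : GL D.Idx F} (hu : u ∈ D.negUnipotent F) :
    h * u * h⁻¹ ∈ D.negUnipotent F := by
  obtain ⟨c, hc, hv⟩ := exists_torMat_of_mem_diagonal hB hH hh
  unfold ChevalleyDatum.negUnipotent at hu ⊢
  induction hu using Subgroup.closure_induction with
  | mem g hg =>
    obtain ⟨r, t, hr, hgv⟩ := hg
    apply Subgroup.subset_closure
    refine ⟨r, torChar D c r * t, hr, ?_⟩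
    have : h * g * h⁻¹ = xU hB r (torChar D c r * t) := by
      rw [mul_inv_eq_iff_eq_mul]
      apply Units.ext
      rw [Units.val_mul, Units.val_mul, hv, hgv, xU_val]
      exact torMat_mul_x hB hAdd hc hr.1 t
    rw [this, xU_val]
  | one => simp
  | mul g₁ g₂ _ _ ih₁ ih₂ =>
    have : h * (g₁ * g₂) * h⁻¹ = (h * g₁ * h⁻¹) * (h * g₂ * h⁻¹) := by group
    rw [this]
    exact Subgroup.mul_mem _ ih₁ ih₂
  | inv g _ ih =>
    have : h * g⁻¹ * h⁻¹ = (h * g * h⁻¹)⁻¹ := by group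
    rw [this]
    exact Subgroup.inv_mem _ ih

/-- `H` normalises `V` -/
theorem diagonal_le_normalizer_negUnipotent (hB : BasicOK D) (hAll : ∀ i < D.rank, SimpleAll D i)
    (hAdd : ∀ i < D.rank, AddOK D i) (hH : ∀ r < D.nroots, HDiag D F r (aOf D r)) :
    D.diagonalSubgroup F ≤ Subgroup.normalizer (D.negUnipotent F : Set (GL D.Idx F)) := by
  intro h hh
  rw [Subgroup.mem_normalizer_iff]
  intro u
  constructor
  · intro hu
    exact conj_mem_negUnipotent hB hAll hAdd hH hh hu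
  · intro hu
    have := conj_mem_negUnipotent hB hAll hAdd hH (Subgroup.inv_mem _ hh) hu
    have e : h⁻¹ * (h * u * h⁻¹) * h⁻¹⁻¹ = u := by group
    rwa [e] at this

/-- elements of `H` are diagonal, hence in `UT ρ 0` for any level function -/
theorem diagonal_le_UT_zero (hB : BasicOK D) (hH : ∀ r < D.nroots, HDiag D F r (aOf D r))
    (ρ : D.Idx → ℕ) : D.diagonalSubgroup F ≤ (Chev.UT ρ 0 : Subgroup (GL D.Idx F)) := by
  intro g hg
  have key : ∀ g : GL D.Idx F, g ∈ D.diagonalSubgroup F →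
      Chev.Raises ρ 0 ((g : Matrix D.Idx D.Idx F) - 1) := by
    intro g hg
    obtain ⟨c, hc, hv⟩ := exists_torMat_of_mem_diagonal hB hH hg
    intro i j hij
    by_cases h : i = j
    · subst h; omega
    · exfalso
      apply hij
      rw [Matrix.sub_apply, hv, Matrix.one_apply_ne h]
      unfold torMat dMat
      rw [Matrix.diagonal_apply_ne _ h, sub_zero]
  exact ⟨key g hg, key g⁻¹ (Subgroup.inv_mem _ hg)⟩

theorem UT_mono {ρ : D.Idx → ℕ} {k l : ℕ} (h : l ≤ k) :
    (Chev.UT ρ k : Subgroup (GL D.Idx F)) ≤ Chev.UT ρ l := by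
  rintro g ⟨h1, h2⟩
  exact ⟨h1.mono h, h2.mono h⟩

/-- `UH ∩ V = 1` -/
theorem borel_inf_negUnipotent (hB : BasicOK D) (hH : ∀ r < D.nroots, HDiag D F r (aOf D r))
    (hG : Chev.Good2 D) : D.borelSubgroup F ⊓ D.negUnipotent F = ⊥ := by
  rw [eq_bot_iff]
  rintro g ⟨hgB, hgV⟩
  rw [Subgroup.mem_bot]
  obtain ⟨N, hpos, hneg, hNle, hrk⟩ := hG.ex
  have hB0 : D.borelSubgroup F ≤ (Chev.UT (Chev.level D N) 0 : Subgroup (GL D.Idx F)) := by
    unfold ChevalleyDatum.borelSubgroup
    exact sup_le ((Chev.posUnipotent_le_UT D N hpos hNle hrk).trans (UT_mono (Nat.zero_le 1)))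
      (diagonal_le_UT_zero hB hH _)
  obtain ⟨h1, _⟩ := Chev.mem_UT.1 (hB0 hgB)
  obtain ⟨h2, _⟩ := Chev.mem_UT.1 (Chev.negUnipotent_le_UT (F := F) D N hneg hNle hgV)
  apply Units.ext
  rw [Units.val_one]
  have h0 : (g : Matrix D.Idx D.Idx F) - 1 = 0 := by
    ext i j
    by_contra hne
    have a1 := h1 i j hne
    have a2 := h2 i j hne
    have b1 := Chev.level_le D N hNle i
    have b2 := Chev.level_le D N hNle j
    unfold Chev.revLevel at a2
    omega
  exact sub_eq_zero.1 h0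

/-- `UH ∩ VH = H` -/
theorem borel_inf_negBorel (hB : BasicOK D) (hAll : ∀ i < D.rank, SimpleAll D i)
    (hAdd : ∀ i < D.rank, AddOK D i) (hH : ∀ r < D.nroots, HDiag D F r (aOf D r))
    (hG : Chev.Good2 D) :
    D.borelSubgroup F ⊓ (D.negUnipotent F ⊔ D.diagonalSubgroup F) = D.diagonalSubgroup F := by
  have hHB : D.diagonalSubgroup F ≤ D.borelSubgroup F := by
    unfold ChevalleyDatum.borelSubgroup; exact le_sup_right
  apply le_antisymm
  · rintro g ⟨hgB, hgVH⟩
    have hgB : g ∈ D.borelSubgroup F := hgB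
    have hgVH : g ∈ ((D.negUnipotent F ⊔ D.diagonalSubgroup F : Subgroup (GL D.Idx F)) : Set (GL D.Idx F)) := hgVH
    rw [Subgroup.coe_mul_of_right_le_normalizer_left _ _
      (diagonal_le_normalizer_negUnipotent hB hAll hAdd hH), Set.mem_mul] at hgVH
    obtain ⟨v, hv, h', hh', rfl⟩ := hgVH
    have hvB : v ∈ D.borelSubgroup F := by
      have := Subgroup.mul_mem _ hgB (Subgroup.inv_mem _ (hHB hh'))
      simpa using this
    have hv1 : v ∈ D.borelSubgroup F ⊓ D.negUnipotent F := ⟨hvB, hv⟩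
    rw [borel_inf_negUnipotent hB hH hG, Subgroup.mem_bot] at hv1
    rw [hv1, one_mul]
    exact hh'
  · exact le_inf hHB le_sup_right

end Cfsg.Agent.Helper6
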