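import Mathlib
import Cfsg.Agent.Helper6.Chev.Normal
import Cfsg.Agent.Helper6.Chev.BorelNeg

set_option autoImplicit false
set_option linter.unusedSectionVars false
set_option linter.unusedSimpArgs false
set_option linter.unusedVariables false

/-!
Elements of `N` are monomial on the root vectors; `U ∩ N = 1` and `B ∩ N = H`.
-/

namespace Cfsg.Agent.Helper6

open Cfsg.Lie

variable {D : ChevalleyDatum} {F : Type*} [Field F]

/-- monomial shape: root vectors are permuted up to scalars, coroot vectors are permuted -/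
def MonoP (D : ChevalleyDatum) (F : Type*) [Field F] (A : Matrix D.Idx D.Idx F) : Prop :=
  ∃ σ : ℕ → ℕ, ∃ c : ℕ → F, ∀ v < D.nroots, σ v < D.nroots ∧
    A.mulVec (ev D F v) = c v • ev D F (σ v) ∧ A.mulVec (hr D F v) = hr D F (σ v)

theorem MonoP.one : MonoP D F 1 :=
  ⟨id, fun _ => 1, fun v hv => ⟨hv, by simp, by simp⟩⟩

theorem MonoP.mul {A B : Matrix D.Idx D.Idx F} (hA : MonoP D F A) (hB : MonoP D F B) :
    MonoP D F (A * B) := by
  obtain ⟨σ, c, h1⟩ := hA
  obtain ⟨τ, d, h2⟩ := hB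
  refine ⟨fun v => σ (τ v), fun v => d v * c (τ v), fun v hv => ?_⟩
  obtain ⟨a1, a2, a3⟩ := h2 v hv
  obtain ⟨b1, b2, b3⟩ := h1 (τ v) a1
  refine ⟨b1, ?_, ?_⟩
  · rw [← Matrix.mulVec_mulVec, a2, Matrix.mulVec_smul, b2, smul_smul]
  · rw [← Matrix.mulVec_mulVec, a3, b3]

theorem monoP_torMat (c : ℕ → F) : MonoP D F (torMat D F c) := by
  refine ⟨id, torChar D c, fun v hv => ⟨hv, ?_, ?_⟩⟩
  · unfold torMat; rw [dMat_mulVec_ev]; rfl
  · unfold torMat; rw [dMat_mulVec_hr, one_smul]; rfl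

theorem monoP_nMat_simple (hB : BasicOK D) {i : ℕ} (hA : SimpleAll D i) :
    MonoP D F (D.nMat F (D.simple i) 1) := by
  refine ⟨wR D (D.simple i), fun v => ((etaR D (D.simple i) v : ℤ) : F), fun v hv => ⟨?_, ?_, ?_⟩⟩
  · exact wR_lt hB hA.hS.1 hA.hR hv
  · exact nMat_one_mulVec_ev_all hB hA.hS.1 hA.hR hv
  · exact nMat_mulVec_hr_all hB hA hv

/-- the subgroup of units that are monomial together with their inverses -/
def MonoSub (D : ChevalleyDatum) (F : Type*) [Field F] : Subgroup (GL D.Idx F) where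
  carrier := {g | MonoP D F (g : Matrix D.Idx D.Idx F) ∧
    MonoP D F ((g⁻¹ : GL D.Idx F) : Matrix D.Idx D.Idx F)}
  one_mem' := by
    refine ⟨?_, ?_⟩
    · rw [Units.val_one]; exact MonoP.one
    · rw [inv_one, Units.val_one]; exact MonoP.one
  mul_mem' := by
    rintro g h ⟨hg1, hg2⟩ ⟨hh1, hh2⟩
    refine ⟨?_, ?_⟩
    · rw [Units.val_mul]; exact hg1.mul hh1
    · rw [_root_.mul_inv_rev, Units.val_mul]; exact hh2.mul hg2
  inv_mem' := by
    rintro g ⟨hg1, hg2⟩
    refine ⟨hg2, ?_⟩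
    rw [inv_inv]; exact hg1

/-- a subgroup containing `H` and the `n_{p_i}` contains `N` -/
theorem monomial_le_of (hB : BasicOK D) (hAll : ∀ i < D.rank, SimpleAll D i)
    (hReach : ∀ r < D.nroots, Reach D r) (K : Subgroup (GL D.Idx F))
    (hHK : D.diagonalSubgroup F ≤ K)
    (hn : ∀ i < D.rank, nU hB (D.simple i) (one_ne_zero (α := F)) ∈ K) :
    D.monomialSubgroup F ≤ K := by
  have key : ∀ r, Reach D r → nU hB r (one_ne_zero (α := F)) ∈ K := by
    intro r hr
    induction hr with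
    | @simple i hi => exact hn i hi
    | @step i s hi hs _ ih =>
      have hA := hAll i hi
      have hsq := etaR_sq (F := F) hB hA hs
      have hηne : ((etaR D (D.simple i) s : ℤ) : F) ≠ 0 := fun h => by rw [h] at hsq; simp at hsq
      have e1 : nU hB (wR D (D.simple i) s) (one_ne_zero (α := F)) =
          nU hB (D.simple i) (one_ne_zero (α := F)) * nU hB s hηne *
            (nU hB (D.simple i) (one_ne_zero (α := F)))⁻¹ := by
        rw [eq_mul_inv_iff_mul_eq]
        apply Units.ext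
        simp only [Units.val_mul, nU_val]
        rw [nMat_mul_nMat hB hA hs hηne, hsq]
      have e2 : nU hB s hηne = wordU hB (D.hWord s ((etaR D (D.simple i) s : ℤ) : F)) *
          nU hB s (one_ne_zero (α := F)) := by
        apply Units.ext
        simp only [Units.val_mul, nU_val, wordU_val]
        exact nMat_eq_hMat_mul hB s _
      rw [e1, e2]
      exact K.mul_mem (K.mul_mem (hn i hi) (K.mul_mem (hHK (hWordU_mem_diagonal hB hs hηne)) ih))
        (K.inv_mem (hn i hi))
  unfold ChevalleyDatum.monomialSubgroup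
  apply sup_le hHK
  rw [Subgroup.closure_le]
  rintro g ⟨r, hr, hg⟩
  have : g = nU hB r (one_ne_zero (α := F)) := Units.ext (by rw [hg, nU_val])
  rw [this]
  exact key r (hReach r hr)

theorem diagonal_le_monoSub (hB : BasicOK D) (hH : ∀ r < D.nroots, HDiag D F r (aOf D r)) :
    D.diagonalSubgroup F ≤ MonoSub D F := by
  intro g hg
  have key : ∀ g : GL D.Idx F, g ∈ D.diagonalSubgroup F → MonoP D F (g : Matrix D.Idx D.Idx F) := by
    intro g hg
    obtain ⟨c, hc, hv⟩ := exists_torMat_of_mem_diagonal hB hH hg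
    rw [hv]; exact monoP_torMat c
  exact ⟨key g hg, key g⁻¹ (Subgroup.inv_mem _ hg)⟩

theorem nU_simple_mem_monoSub (hB : BasicOK D) (hH : ∀ r < D.nroots, HDiag D F r (aOf D r))
    {i : ℕ} (hA : SimpleAll D i) :
    nU hB (D.simple i) (one_ne_zero (α := F)) ∈ MonoSub D F := by
  refine ⟨monoP_nMat_simple hB hA, ?_⟩
  have e : ((nU hB (D.simple i) (one_ne_zero (α := F)))⁻¹ : GL D.Idx F).val =
      D.nMat F (D.simple i) (-1) := rfl
  rw [e, nMat_eq_hMat_mul hB, hMat_eq_torMat (hH _ hA.hS.1) (neg_ne_zero.2 one_ne_zero)]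
  exact (monoP_torMat _).mul (monoP_nMat_simple hB hA)

theorem monomial_le_monoSub (hB : BasicOK D) (hAll : ∀ i < D.rank, SimpleAll D i)
    (hH : ∀ r < D.nroots, HDiag D F r (aOf D r)) (hReach : ∀ r < D.nroots, Reach D r) :
    D.monomialSubgroup F ≤ MonoSub D F :=
  monomial_le_of hB hAll hReach _ (diagonal_le_monoSub hB hH)
    (fun i hi => nU_simple_mem_monoSub hB hH (hAll i hi))

/-- `U ∩ N = 1` -/
theorem posUnipotent_inf_monomial (hB : BasicOK D) (hAll : ∀ i < D.rank, SimpleAll D i)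
    (hH : ∀ r < D.nroots, HDiag D F r (aOf D r)) (hReach : ∀ r < D.nroots, Reach D r)
    (hG : Chev.Good D) : D.posUnipotent F ⊓ D.monomialSubgroup F = ⊥ := by
  rw [eq_bot_iff]
  rintro g ⟨hgU, hgN⟩
  rw [Subgroup.mem_bot]
  obtain ⟨N, hpos, hNle, hrk⟩ := hG.ex
  obtain ⟨h1, _⟩ := Chev.mem_UT.1 (Chev.posUnipotent_le_UT (F := F) D N hpos hNle hrk hgU)
  obtain ⟨⟨σ, c, hm⟩, _⟩ := monomial_le_monoSub hB hAll hH hReach hgN
  have hdiag : ∀ v : Fin D.nroots, (g : Matrix D.Idx D.Idx F) (Sum.inr v) (Sum.inr v) = 1 := by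
    intro v
    by_contra hne
    have : ((g : Matrix D.Idx D.Idx F) - 1) (Sum.inr v) (Sum.inr v) ≠ 0 := by
      rw [Matrix.sub_apply, Matrix.one_apply_eq]
      exact sub_ne_zero.2 hne
    have := h1 _ _ this
    omega
  have hev : ∀ v < D.nroots, (g : Matrix D.Idx D.Idx F).mulVec (ev D F v) = ev D F v ∧ σ v = v := by
    intro v hv
    obtain ⟨a1, a2, a3⟩ := hm v hv
    have h2 := congrFun a2 (Sum.inr ⟨v, hv⟩)
    rw [mulVec_ev _ hv] at h2
    simp only [] at h2
    rw [hdiag, Pi.smul_apply, ev_apply_inr] at h2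
    by_cases hσ : v = σ v
    · simp only [hσ.symm] at h2
      rw [if_pos trivial, smul_eq_mul, mul_one] at h2
      refine ⟨?_, hσ.symm⟩
      rw [a2, ← hσ, ← h2, one_smul]
    · exfalso
      have : (⟨v, hv⟩ : Fin D.nroots).val = v := rfl
      rw [this, if_neg hσ, smul_zero] at h2
      exact one_ne_zero h2
  apply Units.ext
  rw [Units.val_one]
  apply matrix_ext_basis
  · intro i hi
    have hA := hAll i hi
    obtain ⟨a1, a2, a3⟩ := hm _ hA.hS.1
    rw [(hev _ hA.hS.1).2, hr_simple hi hA.hE] at a3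
    rw [a3, Matrix.one_mulVec]
  · intro s hs
    rw [(hev s hs).1, Matrix.one_mulVec]

/-- `B ∩ N = H` -/
theorem borel_inf_monomial (hB : BasicOK D) (hAll : ∀ i < D.rank, SimpleAll D i)
    (hAdd : ∀ i < D.rank, AddOK D i)
    (hH : ∀ r < D.nroots, HDiag D F r (aOf D r)) (hReach : ∀ r < D.nroots, Reach D r)
    (hG : Chev.Good D) : D.borelSubgroup F ⊓ D.monomialSubgroup F = D.diagonalSubgroup F := by
  have hHB : D.diagonalSubgroup F ≤ D.borelSubgroup F := by
    unfold ChevalleyDatum.borelSubgroup; exact le_sup_right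
  have hHN : D.diagonalSubgroup F ≤ D.monomialSubgroup F := by
    unfold ChevalleyDatum.monomialSubgroup; exact le_sup_left
  apply le_antisymm
  · rintro g ⟨hgB, hgN⟩
    have hgN : g ∈ D.monomialSubgroup F := hgN
    have hgB : g ∈ ((D.posUnipotent F ⊔ D.diagonalSubgroup F : Subgroup (GL D.Idx F)) : Set (GL D.Idx F)) := hgB
    rw [Subgroup.coe_mul_of_right_le_normalizer_left _ _
      (diagonal_le_normalizer_posUnipotent hB hAll hAdd hH), Set.mem_mul] at hgB
    obtain ⟨u, hu, h', hh', rfl⟩ := hgB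
    have huN : u ∈ D.monomialSubgroup F := by
      have := Subgroup.mul_mem _ hgN (Subgroup.inv_mem _ (hHN hh'))
      simpa using this
    have hu1 : u ∈ D.posUnipotent F ⊓ D.monomialSubgroup F := ⟨hu, huN⟩
    rw [posUnipotent_inf_monomial hB hAll hH hReach hG, Subgroup.mem_bot] at hu1
    rw [hu1, one_mul]
    exact hh'
  · exact le_inf hHB hHN

end Cfsg.Agent.Helper6
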