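import Mathlib
import Cfsg.Agent.Helper6.Chev.BorelNeg
import Cfsg.Agent.Helper6.Chev.Mono

set_option autoImplicit false
set_option linter.unusedSectionVars false
set_option linter.unusedSimpArgs false
set_option linter.unusedVariables false

/-!
The normal core of `B` in the Chevalley group is trivial.
-/

namespace Cfsg.Agent.Helper6

open Cfsg.Lie

variable {D : ChevalleyDatum} {F : Type*} [Field F]

/-- a root element that is a torus element is trivial -/
theorem eq_zero_of_x_eq_torMat (hB : BasicOK D) {r : ℕ} (hrn : r < D.nroots) {a : F} {c : ℕ → F}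
    (h : D.x F r a = torMat D F c) : a = 0 := by
  have hn := hB.neg r hrn
  have h1 : (D.x F r a).mulVec (ev D F (D.neg r)) = (torMat D F c).mulVec (ev D F (D.neg r)) := by
    rw [h]
  rw [x_mulVec_ev_neg hB hrn] at h1
  unfold torMat at h1
  rw [dMat_mulVec_ev] at h1
  have h2 := congrFun h1 (Sum.inr ⟨r, hrn⟩)
  simp only [Pi.sub_apply, Pi.add_apply, Pi.smul_apply, ev_apply_inr, smul_eq_mul] at h2
  have e1 : ¬ r = D.neg r := fun e => hn.2.1 e.symm
  have e2 : hr D F r (Sum.inr ⟨r, hrn⟩) = 0 := by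
    unfold hr
    rw [Finset.sum_apply]
    apply Finset.sum_eq_zero
    intro i _
    rw [Pi.smul_apply, hv_apply_inr, smul_zero]
  simp only [e1, if_false, if_true, e2, mul_zero, mul_one, zero_add, zero_sub] at h2
  have : a ^ 2 = 0 := by
    have := neg_eq_zero.1 h2
    exact this
  exact pow_eq_zero_iff (by norm_num) |>.1 this

/-- the normal core of `B` in the Chevalley group is trivial, given that `U` is conjugate to `V`
under `N` -/
theorem borel_normalCore (hB : BasicOK D) (hAll : ∀ i < D.rank, SimpleAll D i)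
    (hAdd : ∀ i < D.rank, AddOK D i) (hH : ∀ r < D.nroots, HDiag D F r (aOf D r))
    (hReach : ∀ r < D.nroots, Reach D r) (hG : Chev.Good2 D)
    (hw0 : ∃ n ∈ D.monomialSubgroup F,
      (D.posUnipotent F).map (MulAut.conj n).toMonoidHom = D.negUnipotent F) :
    ((D.borelSubgroup F).subgroupOf (D.group F)).normalCore = ⊥ := by
  obtain ⟨n, hnN, hnU⟩ := hw0
  have hnG : n ∈ D.group F := monomialSubgroup_le_group hB hnN
  have hnH := monomial_le_normalizer hB hAll hH hReach hnN
  rw [eq_bot_iff]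
  intro k hk
  rw [Subgroup.mem_bot]
  have hcore : ∀ b : D.group F, b * k * b⁻¹ ∈ (D.borelSubgroup F).subgroupOf (D.group F) := by
    intro b
    exact (Subgroup.normalCore_normal _).conj_mem k hk b |> fun h => Subgroup.normalCore_le _ h
  -- step 1: `k ∈ H`
  have hkH : ∀ k' ∈ ((D.borelSubgroup F).subgroupOf (D.group F)).normalCore,
      (k' : GL D.Idx F) ∈ D.diagonalSubgroup F := by
    intro k' hk'
    have hkB : (k' : GL D.Idx F) ∈ D.borelSubgroup F := Subgroup.mem_subgroupOf.1 (Subgroup.normalCore_le _ hk')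
    have h1 : (⟨n, hnG⟩ : D.group F)⁻¹ * k' * (⟨n, hnG⟩ : D.group F)⁻¹⁻¹ ∈
        (D.borelSubgroup F).subgroupOf (D.group F) :=
      Subgroup.normalCore_le _ ((Subgroup.normalCore_normal _).conj_mem k' hk' _)
    rw [Subgroup.mem_subgroupOf] at h1
    simp only [Subgroup.coe_mul, Subgroup.coe_inv, inv_inv] at h1
    have h1' : n⁻¹ * (k' : GL D.Idx F) * n ∈
        ((D.posUnipotent F ⊔ D.diagonalSubgroup F : Subgroup (GL D.Idx F)) : Set (GL D.Idx F)) := h1
    rw [Subgroup.coe_mul_of_right_le_normalizer_left _ _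
      (diagonal_le_normalizer_posUnipotent hB hAll hAdd hH), Set.mem_mul] at h1'
    obtain ⟨u, hu, h, hh, huh⟩ := h1'
    have hkk : (k' : GL D.Idx F) = (n * u * n⁻¹) * (n * h * n⁻¹) := by
      have : (k' : GL D.Idx F) = n * (n⁻¹ * (k' : GL D.Idx F) * n) * n⁻¹ := by group
      rw [this, ← huh]; group
    have hV : n * u * n⁻¹ ∈ D.negUnipotent F := by
      rw [← hnU]
      exact Subgroup.mem_map.2 ⟨u, hu, rfl⟩
    have hHH : n * h * n⁻¹ ∈ D.diagonalSubgroup F :=
      ((Subgroup.mem_normalizer_iff.1 hnH) h).1 hh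
    have hmem : (k' : GL D.Idx F) ∈ D.borelSubgroup F ⊓ (D.negUnipotent F ⊔ D.diagonalSubgroup F) := by
      refine ⟨hkB, ?_⟩
      rw [hkk]
      exact Subgroup.mul_mem _ (Subgroup.mem_sup_left hV) (Subgroup.mem_sup_right hHH)
    rwa [borel_inf_negBorel hB hAll hAdd hH hG] at hmem
  -- step 2: all characters are trivial on `k`
  obtain ⟨c, hc, hkv⟩ := exists_torMat_of_mem_diagonal hB hH (hkH k hk)
  have hχ : ∀ r < D.nroots, torChar D c r = 1 := by
    intro r hr
    let x : D.group F := ⟨xU hB r 1, xU_mem_group hB hr 1⟩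
    have hx : x * k * x⁻¹ ∈ ((D.borelSubgroup F).subgroupOf (D.group F)).normalCore :=
      (Subgroup.normalCore_normal _).conj_mem k hk x
    have hx2 : x * k * x⁻¹ * k⁻¹ ∈ ((D.borelSubgroup F).subgroupOf (D.group F)).normalCore :=
      Subgroup.mul_mem _ hx (Subgroup.inv_mem _ hk)
    have hx3 := hkH _ hx2
    simp only [Subgroup.coe_mul, Subgroup.coe_inv] at hx3
    have hconj : (k : GL D.Idx F) * xU hB r (-1) * (k : GL D.Idx F)⁻¹ = xU hB r (torChar D c r * (-1)) := by
      rw [mul_inv_eq_iff_eq_mul]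
      apply Units.ext
      rw [Units.val_mul, Units.val_mul, hkv, xU_val, xU_val]
      exact torMat_mul_x hB hAdd hc hr (-1)
    have e : xU hB r 1 * (k : GL D.Idx F) * (xU hB r 1)⁻¹ * (k : GL D.Idx F)⁻¹ =
        xU hB r (1 + torChar D c r * (-1)) := by
      have e1 : (xU hB r (1 : F))⁻¹ = xU hB r (-1) := Units.ext rfl
      rw [e1]
      calc xU hB r 1 * (k : GL D.Idx F) * xU hB r (-1) * (k : GL D.Idx F)⁻¹
          = xU hB r 1 * ((k : GL D.Idx F) * xU hB r (-1) * (k : GL D.Idx F)⁻¹) := by group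
        _ = _ := by
          rw [hconj]
          apply Units.ext
          rw [Units.val_mul, xU_val, xU_val, xU_val, x_add hB.neg hB.keys hB.chain hB.coroot]
    have hx4 : xU hB r (1 + torChar D c r * (-1)) ∈ D.diagonalSubgroup F := by
      rw [← e]; exact hx3
    obtain ⟨c', _, hv'⟩ := exists_torMat_of_mem_diagonal hB hH hx4
    rw [xU_val] at hv'
    have := eq_zero_of_x_eq_torMat hB hr hv'
    linear_combination -this
  apply Subtype.ext
  apply Units.ext
  rw [hkv]
  unfold torMat
  rw [dMat_congr (χ' := fun _ => (1 : F)) hχ, dMat_one_one]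
  rfl

end Cfsg.Agent.Helper6
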