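import Mathlib
import Cfsg.Agent.Helper6.Chev.BorelNeg

set_option autoImplicit false
set_option linter.unusedSectionVars false
set_option linter.unusedSimpArgs false
set_option linter.unusedVariables false

/-!
A representative of the longest element of the Weyl group conjugates `U` to `V`.
-/

namespace Cfsg.Agent.Helper6

open Cfsg.Lie

/-- the permutation of the roots attached to a word in the fundamental reflections -/
def wFold (D : ChevalleyDatum) (L : List ℕ) (s : ℕ) : ℕ :=
  L.foldr (fun i acc => wR D (D.simple i) acc) s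

/-- the same, on the packed tables -/
def wFoldD (D : ChevalleyDatum) (L : List ℕ) (s : ℕ) : ℕ :=
  L.foldr (fun i acc => wD D i acc) s

/-- the word `L` maps the upper half of the roots into the lower half, and its reverse maps the
lower half into the upper half -/
def w0Chk (D : ChevalleyDatum) (N : ℕ) (L : List ℕ) : Bool :=
  allL L (fun i => Nat.blt i D.rank) &&
  allLt D.nroots fun s =>
    bif Nat.ble N s then Nat.blt (wFoldD D L s) N else Nat.ble N (wFoldD D L.reverse s)

variable {D : ChevalleyDatum} {F : Type*} [Field F]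

theorem wFold_lt (hB : BasicOK D) (hAll : ∀ i < D.rank, SimpleAll D i) {L : List ℕ}
    (hL : ∀ i ∈ L, i < D.rank) {s : ℕ} (hs : s < D.nroots) : wFold D L s < D.nroots := by
  induction L with
  | nil => exact hs
  | cons i L ih =>
    have hi := hL i List.mem_cons_self
    exact wR_lt hB (hAll i hi).hS.1 (hAll i hi).hR (ih (fun j hj => hL j (List.mem_cons_of_mem _ hj)))

theorem wFoldD_eq (hB : BasicOK D) (hF : FastOK D) (hn : D.nroots ≤ 256)
    (hAll : ∀ i < D.rank, SimpleAll D i) {L : List ℕ}
    (hL : ∀ i ∈ L, i < D.rank) {s : ℕ} (hs : s < D.nroots) : wFoldD D L s = wFold D L s := by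
  induction L with
  | nil => rfl
  | cons i L ih =>
    have hi := hL i List.mem_cons_self
    have hL' : ∀ j ∈ L, j < D.rank := fun j hj => hL j (List.mem_cons_of_mem _ hj)
    change wD D i (wFoldD D L s) = wR D (D.simple i) (wFold D L s)
    rw [ih hL']
    exact wD_eq hF hn (fun s hs => wR_lt hB (hAll i hi).hS.1 (hAll i hi).hR hs) (wFold_lt hB hAll hL' hs)

/-- the product of the `n_{p_i}` along a word -/
def nW (hB : BasicOK D) (F : Type*) [Field F] (L : List ℕ) : GL D.Idx F :=
  (L.map fun i => nU hB (D.simple i) (one_ne_zero (α := F))).prod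

theorem nW_mem_monomial (hB : BasicOK D) (hAll : ∀ i < D.rank, SimpleAll D i) {L : List ℕ}
    (hL : ∀ i ∈ L, i < D.rank) : nW hB F L ∈ D.monomialSubgroup F := by
  unfold nW
  apply Subgroup.list_prod_mem
  intro g hg
  simp only [List.mem_map] at hg
  obtain ⟨i, hi, rfl⟩ := hg
  exact nU_one_mem_monomial hB (hAll i (hL i hi)).hS.1

theorem nU_inv_conj_xU (hB : BasicOK D) {i : ℕ} (hA : SimpleAll D i) {s : ℕ} (hs : s < D.nroots)
    (t : F) :
    (nU hB (D.simple i) (one_ne_zero (α := F)))⁻¹ * xU hB s t * nU hB (D.simple i) (one_ne_zero (α := F)) =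
      xU hB (wR D (D.simple i) s) (((etaR D (D.simple i) (wR D (D.simple i) s) : ℤ) : F) * t) := by
  have hws := wR_lt hB hA.hS.1 hA.hR hs
  have h := nU_conj_xU hB hA hws (((etaR D (D.simple i) (wR D (D.simple i) s) : ℤ) : F) * t)
  rw [wR_wR hB hA hs, ← mul_assoc, etaR_sq hB hA hws, one_mul] at h
  rw [← h]
  group

theorem nW_conj (hB : BasicOK D) (hAll : ∀ i < D.rank, SimpleAll D i) {L : List ℕ}
    (hL : ∀ i ∈ L, i < D.rank) {s : ℕ} (hs : s < D.nroots) (t : F) :
    ∃ t' : F, nW hB F L * xU hB s t * (nW hB F L)⁻¹ = xU hB (wFold D L s) t' := by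
  induction L generalizing t with
  | nil => exact ⟨t, by simp [nW, wFold]⟩
  | cons i L ih =>
    have hi := hL i List.mem_cons_self
    have hL' : ∀ j ∈ L, j < D.rank := fun j hj => hL j (List.mem_cons_of_mem _ hj)
    obtain ⟨t', ht'⟩ := ih hL' t
    refine ⟨((etaR D (D.simple i) (wFold D L s) : ℤ) : F) * t', ?_⟩
    have e : nW hB F (i :: L) = nU hB (D.simple i) (one_ne_zero (α := F)) * nW hB F L := by
      simp [nW]
    rw [e]
    have : nU hB (D.simple i) (one_ne_zero (α := F)) * nW hB F L * xU hB s t *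
        (nU hB (D.simple i) (one_ne_zero (α := F)) * nW hB F L)⁻¹ =
        nU hB (D.simple i) (one_ne_zero (α := F)) * (nW hB F L * xU hB s t * (nW hB F L)⁻¹) *
          (nU hB (D.simple i) (one_ne_zero (α := F)))⁻¹ := by group
    rw [this, ht', nU_conj_xU hB (hAll i hi) (wFold_lt hB hAll hL' hs)]
    rfl

theorem nW_inv_conj (hB : BasicOK D) (hAll : ∀ i < D.rank, SimpleAll D i) {L : List ℕ}
    (hL : ∀ i ∈ L, i < D.rank) {s : ℕ} (hs : s < D.nroots) (t : F) :
    ∃ t' : F, (nW hB F L)⁻¹ * xU hB s t * nW hB F L = xU hB (wFold D L.reverse s) t' := by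
  induction L generalizing s t with
  | nil => exact ⟨t, by simp [nW, wFold]⟩
  | cons i L ih =>
    have hi := hL i List.mem_cons_self
    have hL' : ∀ j ∈ L, j < D.rank := fun j hj => hL j (List.mem_cons_of_mem _ hj)
    have hws := wR_lt hB (hAll i hi).hS.1 (hAll i hi).hR hs
    obtain ⟨t', ht'⟩ := ih hL' hws (((etaR D (D.simple i) (wR D (D.simple i) s) : ℤ) : F) * t)
    refine ⟨t', ?_⟩
    have e : nW hB F (i :: L) = nU hB (D.simple i) (one_ne_zero (α := F)) * nW hB F L := by
      simp [nW]
    rw [e]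
    have : (nU hB (D.simple i) (one_ne_zero (α := F)) * nW hB F L)⁻¹ * xU hB s t *
        (nU hB (D.simple i) (one_ne_zero (α := F)) * nW hB F L) =
        (nW hB F L)⁻¹ * ((nU hB (D.simple i) (one_ne_zero (α := F)))⁻¹ * xU hB s t *
          nU hB (D.simple i) (one_ne_zero (α := F))) * nW hB F L := by group
    rw [this, nU_inv_conj_xU hB (hAll i hi) hs, ht']
    congr 1
    simp [wFold, List.foldr_append]

/-- `n₀ U n₀⁻¹ = V` for a word passing the check -/
theorem map_conj_posUnipotent (hB : BasicOK D) (hF : FastOK D) (hn : D.nroots ≤ 256)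
    (hAll : ∀ i < D.rank, SimpleAll D i) {N : ℕ}
    (hpos : ∀ r, D.IsPosRoot r ↔ (r < D.nroots ∧ N ≤ r))
    (hneg : ∀ r, D.IsNegRoot r ↔ (r < D.nroots ∧ r < N))
    {L : List ℕ} (h : w0Chk D N L = true) :
    ∃ n ∈ D.monomialSubgroup F,
      (D.posUnipotent F).map (MulAut.conj n).toMonoidHom = D.negUnipotent F := by
  simp only [w0Chk, Bool.and_eq_true, allL_iff, allLt_iff, Nat.blt_eq] at h
  obtain ⟨hL, hchk⟩ := h
  have hLr : ∀ i ∈ L.reverse, i < D.rank := fun i hi => hL i (List.mem_reverse.1 hi)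
  refine ⟨nW hB F L, nW_mem_monomial hB hAll hL, ?_⟩
  apply le_antisymm
  · rw [Subgroup.map_le_iff_le_comap]
    unfold ChevalleyDatum.posUnipotent
    rw [Subgroup.closure_le]
    rintro g ⟨r, t, hr, hg⟩
    have hr' := (hpos r).1 hr
    have hgx : g = xU hB r t := Units.ext (by rw [hg, xU_val])
    obtain ⟨t', ht'⟩ := nW_conj (F := F) hB hAll hL hr'.1 t
    change (MulAut.conj (nW hB F L)) g ∈ D.negUnipotent F
    rw [MulAut.conj_apply, hgx, ht']
    apply Subgroup.subset_closure
    refine ⟨wFold D L r, t', ?_, rfl⟩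
    rw [hneg]
    refine ⟨wFold_lt hB hAll hL hr'.1, ?_⟩
    have := hchk r hr'.1
    rw [show Nat.ble N r = true from Nat.ble_eq ▸ hr'.2] at this
    simp only [cond_true, Nat.blt_eq] at this
    rwa [wFoldD_eq hB hF hn hAll hL hr'.1] at this
  · unfold ChevalleyDatum.negUnipotent
    rw [Subgroup.closure_le]
    rintro g ⟨r, t, hr, hg⟩
    have hr' := (hneg r).1 hr
    have hgx : g = xU hB r t := Units.ext (by rw [hg, xU_val])
    obtain ⟨t', ht'⟩ := nW_inv_conj (F := F) hB hAll hL hr'.1 t
    rw [SetLike.mem_coe, Subgroup.mem_map]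
    refine ⟨xU hB (wFold D L.reverse r) t', ?_, ?_⟩
    · apply Subgroup.subset_closure
      refine ⟨wFold D L.reverse r, t', ?_, rfl⟩
      rw [hpos]
      refine ⟨wFold_lt hB hAll hLr hr'.1, ?_⟩
      have := hchk r hr'.1
      have hble : Nat.ble N r = false := by
        cases hb : Nat.ble N r with
        | false => rfl
        | true => have := Nat.ble_eq ▸ hb; omega
      rw [hble] at this
      simp only [cond_false, Nat.ble_eq] at this
      rwa [wFoldD_eq hB hF hn hAll hLr hr'.1] at this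
    · change (MulAut.conj (nW hB F L)) _ = g
      rw [MulAut.conj_apply, ← ht', hgx]
      group

end Cfsg.Agent.Helper6
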