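import Mathlib
import Cfsg.Agent.Helper6.Chev.Orbit

set_option autoImplicit false
set_option linter.unusedSectionVars false
set_option linter.unusedSimpArgs false
set_option linter.unusedVariables false

/-!
Transport of the commutator formula along a fundamental reflection.
-/

namespace Cfsg.Agent.Helper6

open Cfsg.Lie

variable {D : ChevalleyDatum} {F : Type*} [Field F]

/-- the commutator formula for the ordered pair `(r, s)` over `F` -/
def CommF (D : ChevalleyDatum) (F : Type*) [Field F] (r s : ℕ) : Prop :=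
  ∀ t u : F, D.x F s u * D.x F r t = D.x F r t * D.x F s u * D.wordMat F (D.commWord F r s t u)

/-- the table condition under which the formula for `(r, s)` is carried to `(w r, w s)` by the
`i`-th fundamental reflection -/
def TransOK (D : ChevalleyDatum) (i r s : ℕ) : Prop :=
  (∀ c ∈ D.commTerms r s, c.1 < D.nroots) ∧
  D.commTerms (wR D (D.simple i) r) (wR D (D.simple i) s) =
    (D.commTerms r s).map fun c =>
      (wR D (D.simple i) c.1,
        etaR D (D.simple i) c.1 * etaR D (D.simple i) r ^ c.2.2.1 * etaR D (D.simple i) s ^ c.2.2.2 * c.2.1,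
        c.2.2.1, c.2.2.2)

section main

variable (hB : BasicOK D) {i : ℕ} (hA : SimpleAll D i)
include hB hA

theorem nMat_conj_x {s : ℕ} (hs : s < D.nroots) (t : F) :
    D.nMat F (D.simple i) 1 * D.x F s t * D.nMat F (D.simple i) (-1) =
      D.x F (wR D (D.simple i) s) (((etaR D (D.simple i) s : ℤ) : F) * t) := by
  rw [nMat_mul_x hB hA hs, mul_assoc, nMat_mul_neg hB _ one_ne_zero, mul_one]

theorem nMat_conj_wordMat (W : List (ℕ × F)) (hW : ∀ q ∈ W, q.1 < D.nroots) :
    D.nMat F (D.simple i) 1 * D.wordMat F W * D.nMat F (D.simple i) (-1) =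
      D.wordMat F (W.map fun q => (wR D (D.simple i) q.1, ((etaR D (D.simple i) q.1 : ℤ) : F) * q.2)) := by
  induction W with
  | nil =>
    simp only [ChevalleyDatum.wordMat, List.map_nil, List.prod_nil, mul_one]
    exact nMat_mul_neg hB _ one_ne_zero
  | cons q W ih =>
    have h1 : D.wordMat F (q :: W) = D.x F q.1 q.2 * D.wordMat F W := by
      simp [ChevalleyDatum.wordMat]
    have h2 : D.wordMat F ((q :: W).map fun q => (wR D (D.simple i) q.1, ((etaR D (D.simple i) q.1 : ℤ) : F) * q.2)) =
        D.x F (wR D (D.simple i) q.1) (((etaR D (D.simple i) q.1 : ℤ) : F) * q.2) *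
          D.wordMat F (W.map fun q => (wR D (D.simple i) q.1, ((etaR D (D.simple i) q.1 : ℤ) : F) * q.2)) := by
      simp [ChevalleyDatum.wordMat]
    rw [h1, h2, ← ih (fun q' hq' => hW q' (List.mem_cons_of_mem _ hq')),
      ← nMat_conj_x hB hA (hW q List.mem_cons_self)]
    have hnn : D.nMat F (D.simple i) (-1) * D.nMat F (D.simple i) 1 = 1 :=
      nMat_neg_mul hB _ one_ne_zero
    calc D.nMat F (D.simple i) 1 * (D.x F q.1 q.2 * D.wordMat F W) * D.nMat F (D.simple i) (-1)
        = D.nMat F (D.simple i) 1 * D.x F q.1 q.2 * (1 : Matrix D.Idx D.Idx F) * (D.wordMat F W *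
            D.nMat F (D.simple i) (-1)) := by simp only [mul_one, mul_assoc]
      _ = _ := by rw [← hnn]; simp only [mul_assoc]

/-- transport of the commutator formula -/
theorem CommF.trans {r s : ℕ} (hr : r < D.nroots) (hs : s < D.nroots) (hT : TransOK D i r s)
    (h : CommF D F r s) : CommF D F (wR D (D.simple i) r) (wR D (D.simple i) s) := by
  intro t' u'
  have hsqr := etaR_sq (F := F) hB hA hr
  have hsqs := etaR_sq (F := F) hB hA hs
  set ηr : F := ((etaR D (D.simple i) r : ℤ) : F) with hηr
  set ηs : F := ((etaR D (D.simple i) s : ℤ) : F) with hηs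
  have e1 : t' = ηr * (ηr * t') := by rw [← mul_assoc, hsqr, one_mul]
  have e2 : u' = ηs * (ηs * u') := by rw [← mul_assoc, hsqs, one_mul]
  have hnn : D.nMat F (D.simple i) (-1) * D.nMat F (D.simple i) 1 = 1 :=
    nMat_neg_mul hB _ one_ne_zero
  have hW : ∀ q ∈ D.commWord F r s (ηr * t') (ηs * u'), q.1 < D.nroots := by
    intro q hq
    unfold ChevalleyDatum.commWord at hq
    rw [List.mem_map] at hq
    obtain ⟨c, hc, rfl⟩ := hq
    exact hT.1 c hc
  have key : D.wordMat F (D.commWord F (wR D (D.simple i) r) (wR D (D.simple i) s) t' u') =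
      D.nMat F (D.simple i) 1 * D.wordMat F (D.commWord F r s (ηr * t') (ηs * u')) *
        D.nMat F (D.simple i) (-1) := by
    rw [nMat_conj_wordMat hB hA _ hW]
    congr 1
    unfold ChevalleyDatum.commWord
    rw [hT.2, List.map_map, List.map_map]
    apply List.map_congr_left
    intro c _
    simp only [Function.comp]
    congr 1
    push_cast
    rw [← hηr, ← hηs]
    have a1 : (-(ηr * t')) ^ c.2.2.1 = ηr ^ c.2.2.1 * (-t') ^ c.2.2.1 := by
      rw [← mul_pow]; congr 1; ring
    have a2 : (ηs * u') ^ c.2.2.2 = ηs ^ c.2.2.2 * u' ^ c.2.2.2 := mul_pow _ _ _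
    rw [a1, a2]; ring
  have hxr : D.x F (wR D (D.simple i) r) t' =
      D.nMat F (D.simple i) 1 * D.x F r (ηr * t') * D.nMat F (D.simple i) (-1) := by
    rw [nMat_conj_x hB hA hr, ← hηr, ← mul_assoc, hsqr, one_mul]
  have hxs : D.x F (wR D (D.simple i) s) u' =
      D.nMat F (D.simple i) 1 * D.x F s (ηs * u') * D.nMat F (D.simple i) (-1) := by
    rw [nMat_conj_x hB hA hs, ← hηs, ← mul_assoc, hsqs, one_mul]
  rw [key, hxr, hxs]
  have hcomm := h (ηr * t') (ηs * u')
  calc D.nMat F (D.simple i) 1 * D.x F s (ηs * u') * D.nMat F (D.simple i) (-1) *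
        (D.nMat F (D.simple i) 1 * D.x F r (ηr * t') * D.nMat F (D.simple i) (-1))
      = D.nMat F (D.simple i) 1 * D.x F s (ηs * u') * (D.nMat F (D.simple i) (-1) *
        D.nMat F (D.simple i) 1) * D.x F r (ηr * t') * D.nMat F (D.simple i) (-1) := by
        simp only [mul_assoc]
    _ = D.nMat F (D.simple i) 1 * (D.x F s (ηs * u') * D.x F r (ηr * t')) *
          D.nMat F (D.simple i) (-1) := by rw [hnn]; simp only [mul_one, mul_assoc]
    _ = D.nMat F (D.simple i) 1 * (D.x F r (ηr * t') * D.x F s (ηs * u') *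
          D.wordMat F (D.commWord F r s (ηr * t') (ηs * u'))) * D.nMat F (D.simple i) (-1) := by
        rw [hcomm]
    _ = D.nMat F (D.simple i) 1 * D.x F r (ηr * t') * (1 : Matrix D.Idx D.Idx F) *
          D.x F s (ηs * u') * (1 : Matrix D.Idx D.Idx F) *
          D.wordMat F (D.commWord F r s (ηr * t') (ηs * u')) * D.nMat F (D.simple i) (-1) := by
        simp only [mul_one, mul_assoc]
    _ = _ := by rw [← hnn]; simp only [mul_assoc]

end main

end Cfsg.Agent.Helper6
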