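import Mathlib
import Cfsg.Agent.Helper6.Chev.CommTrans

set_option autoImplicit false
set_option linter.unusedSectionVars false
set_option linter.unusedSimpArgs false
set_option linter.unusedVariables false

/-!
Formal vectors with coefficients in `ℤ[t, u]`, and the formal action of root elements on them.
-/

namespace Cfsg.Agent.Helper6

open Cfsg.Lie

/-- a term `c t^a u^b` times the basis vector of index `k` (coroots first, then root vectors) -/
abbrev PT := ℕ × ℤ × ℕ × ℕ

variable {D : ChevalleyDatum} {F : Type*} [Field F]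

/-- the basis vector of index `k`: `h_k` for `k < rank`, `e_{k - rank}` otherwise -/
def bv (D : ChevalleyDatum) (F : Type*) [Field F] (k : ℕ) : D.Idx → F :=
  if k < D.rank then hv D F k else ev D F (k - D.rank)

/-- the coefficient denoted by a term -/
def monoP (t u : F) (q : PT) : F := ((q.2.1 : ℤ) : F) * t ^ q.2.2.1 * u ^ q.2.2.2

/-- the vector denoted by a formal vector -/
def evalP (D : ChevalleyDatum) (t u : F) (v : List PT) : D.Idx → F :=
  (v.map fun q => monoP t u q • bv D F q.1).sum

theorem evalP_nil (t u : F) : evalP D t u [] = 0 := rfl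

theorem evalP_cons (t u : F) (q : PT) (v : List PT) :
    evalP D t u (q :: v) = monoP t u q • bv D F q.1 + evalP D t u v := by
  simp [evalP]

theorem evalP_append (t u : F) (v w : List PT) :
    evalP D t u (v ++ w) = evalP D t u v + evalP D t u w := by
  simp [evalP]

theorem bv_of_lt {k : ℕ} (h : k < D.rank) : bv D F k = hv D F k := by
  unfold bv; rw [if_pos h]

theorem bv_add (a : ℕ) : bv D F (D.rank + a) = ev D F a := by
  unfold bv; rw [if_neg (by omega)]; congr 1; omega

theorem bv_of_ge {k : ℕ} (h : ¬ k < D.rank) : bv D F k = ev D F (k - D.rank) := by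
  unfold bv; rw [if_neg h]

section gen

variable (D) (ce : ℕ → ℕ → List (ℕ × ℤ)) (ng : ℕ → ℕ) (ca : ℕ → ℕ → ℤ)

/-- formal image of a term under `x_a(C t^α u^β)` -/
def expT (a : ℕ) (C : ℤ) (α β : ℕ) (q : PT) : List PT :=
  bif Nat.blt q.1 D.rank then
    [q, (D.rank + a, -(q.2.1 * ca q.1 a * C), q.2.2.1 + α, q.2.2.2 + β)]
  else bif Nat.beq (q.1 - D.rank) a then [q]
  else bif Nat.beq (q.1 - D.rank) (ng a) then
    q :: (D.rank + a, -(q.2.1 * C ^ 2), q.2.2.1 + 2 * α, q.2.2.2 + 2 * β) ::
      (List.range D.rank).map fun m => (m, q.2.1 * C * corootC D a m, q.2.2.1 + α, q.2.2.2 + β)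
  else
    q :: (ce a (q.1 - D.rank)).zipIdx.map fun e =>
      (D.rank + e.1.1, q.2.1 * e.1.2 * C ^ (e.2 + 1), q.2.2.1 + (e.2 + 1) * α,
        q.2.2.2 + (e.2 + 1) * β)

/-- formal image of a formal vector under `x_a(C t^α u^β)` -/
def stepP (a : ℕ) (C : ℤ) (α β : ℕ) (v : List PT) : List PT :=
  v.flatMap (expT D ce ng ca a C α β)

end gen

theorem stepP_cons (ce : ℕ → ℕ → List (ℕ × ℤ)) (ng : ℕ → ℕ) (ca : ℕ → ℕ → ℤ)
    (a : ℕ) (C : ℤ) (α β : ℕ) (q : PT) (v : List PT) :
    stepP D ce ng ca a C α β (q :: v) = expT D ce ng ca a C α β q ++ stepP D ce ng ca a C α β v := by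
  simp [stepP]

theorem sum_map_range {M : Type*} [AddCommMonoid M] (n : ℕ) (f : ℕ → M) :
    ((List.range n).map f).sum = ∑ m ∈ Finset.range n, f m := by
  induction n with
  | zero => simp
  | succ n ih => rw [List.range_succ, List.map_append, List.sum_append, ih, Finset.sum_range_succ]; simp

theorem smul_chainVec_eq_evalP (t u : F) (c C : ℤ) (ea eb α β : ℕ) (k0 : ℕ) (L : List (ℕ × ℤ)) :
    (((c : ℤ) : F) * t ^ ea * u ^ eb) • chainVec D F (((C : ℤ) : F) * t ^ α * u ^ β) k0 L =
      evalP D t u ((L.zipIdx k0).map fun e =>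
        (D.rank + e.1.1, c * e.1.2 * C ^ (e.2 + 1), ea + (e.2 + 1) * α, eb + (e.2 + 1) * β)) := by
  induction L generalizing k0 with
  | nil => simp [chainVec, evalP_nil]
  | cons q L ih =>
    rw [List.zipIdx_cons, List.map_cons, evalP_cons, ← ih (k0 + 1)]
    simp only [chainVec, smul_add, smul_smul, bv_add, monoP]
    congr 2
    push_cast
    ring

/-- correctness of the formal image of a term -/
theorem evalP_expT (hB : BasicOK D) {a : ℕ} (ha : a < D.nroots) (C : ℤ) (α β : ℕ) (t u : F)
    (q : PT) (hq : q.1 < D.rank + D.nroots) :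
    (D.x F a (((C : ℤ) : F) * t ^ α * u ^ β)).mulVec (monoP t u q • bv D F q.1) =
      evalP D t u (expT D D.chainEntry D.neg D.cartan a C α β q) := by
  rw [Matrix.mulVec_smul]
  unfold expT
  by_cases h1 : q.1 < D.rank
  · have : Nat.blt q.1 D.rank = true := by rw [Nat.blt_eq]; exact h1
    rw [this, cond_true, bv_of_lt h1, x_mulVec_hv hB ha _ h1, evalP_cons, evalP_cons, evalP_nil,
      bv_of_lt h1, bv_add]
    simp only [monoP]
    push_cast
    module
  · have : Nat.blt q.1 D.rank = false := by
      cases h : Nat.blt q.1 D.rank with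
      | false => rfl
      | true => rw [Nat.blt_eq] at h; exact absurd h h1
    rw [this, cond_false, bv_of_ge h1]
    have hs : q.1 - D.rank < D.nroots := by omega
    by_cases h2 : q.1 - D.rank = a
    · have : Nat.beq (q.1 - D.rank) a = true := by rw [Nat.beq_eq]; exact h2
      rw [this, cond_true, h2, x_mulVec_ev_self hB ha, evalP_cons, evalP_nil, bv_of_ge h1, h2, add_zero]
    · have : Nat.beq (q.1 - D.rank) a = false := by
        cases h : Nat.beq (q.1 - D.rank) a with
        | false => rfl
        | true => rw [Nat.beq_eq] at h; exact absurd h h2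
      rw [this, cond_false]
      by_cases h3 : q.1 - D.rank = D.neg a
      · have : Nat.beq (q.1 - D.rank) (D.neg a) = true := by rw [Nat.beq_eq]; exact h3
        rw [this, cond_true, h3, x_mulVec_ev_neg hB ha, evalP_cons, evalP_cons, bv_of_ge h1, h3,
          bv_add]
        have hsum : evalP D t u ((List.range D.rank).map fun m =>
            ((m, q.2.1 * C * corootC D a m, q.2.2.1 + α, q.2.2.2 + β) : PT)) =
            (monoP t u q * (((C : ℤ) : F) * t ^ α * u ^ β)) • hr D F a := by
          unfold evalP hr
          rw [List.map_map, sum_map_range, Finset.smul_sum]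
          apply Finset.sum_congr rfl
          intro m hm
          simp only [Function.comp, monoP, bv_of_lt (Finset.mem_range.1 hm)]
          push_cast
          rw [smul_smul]
          congr 1
          ring
        rw [hsum]
        simp only [monoP]
        push_cast
        module
      · have : Nat.beq (q.1 - D.rank) (D.neg a) = false := by
          cases h : Nat.beq (q.1 - D.rank) (D.neg a) with
          | false => rfl
          | true => rw [Nat.beq_eq] at h; exact absurd h h3
        rw [this, cond_false, x_of_lt ha, x_mulVec_ev' hB.keys ⟨a, ha⟩ _ ⟨hs, h2, h3⟩, evalP_cons,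
          bv_of_ge h1, smul_add]
        congr 1
        have := smul_chainVec_eq_evalP (D := D) t u q.2.1 C q.2.2.1 q.2.2.2 α β 0
          (D.chainEntry a (q.1 - D.rank))
        simp only [monoP]
        rw [this]

/-- correctness of the formal step -/
theorem evalP_stepP (hB : BasicOK D) {a : ℕ} (ha : a < D.nroots) (C : ℤ) (α β : ℕ) (t u : F)
    (v : List PT) (hv : ∀ q ∈ v, q.1 < D.rank + D.nroots) :
    (D.x F a (((C : ℤ) : F) * t ^ α * u ^ β)).mulVec (evalP D t u v) =
      evalP D t u (stepP D D.chainEntry D.neg D.cartan a C α β v) := by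
  induction v with
  | nil => simp [evalP_nil, stepP]
  | cons q v ih =>
    rw [evalP_cons, Matrix.mulVec_add, stepP_cons, evalP_append,
      ih (fun q' hq' => hv q' (List.mem_cons_of_mem _ hq')),
      evalP_expT hB ha C α β t u q (hv q List.mem_cons_self)]

/-! ### normal forms -/

/-- same monomial and basis vector -/
def keyEq (q p : PT) : Bool := Nat.beq q.1 p.1 && Nat.beq q.2.2.1 p.2.2.1 && Nat.beq q.2.2.2 p.2.2.2

/-- lexicographic order on (index, exponents) -/
def keyLt (q p : PT) : Bool :=
  Nat.blt q.1 p.1 || (Nat.beq q.1 p.1 && (Nat.blt q.2.2.1 p.2.2.1 ||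
    (Nat.beq q.2.2.1 p.2.2.1 && Nat.blt q.2.2.2 p.2.2.2)))

/-- insertion into a sorted formal vector, adding up the coefficients of equal keys -/
def insT (q : PT) : List PT → List PT
  | [] => [q]
  | p :: l =>
    bif keyEq q p then (p.1, p.2.1 + q.2.1, p.2.2.1, p.2.2.2) :: l
    else bif keyLt q p then q :: p :: l else p :: insT q l

theorem evalP_insT (t u : F) (q : PT) (l : List PT) :
    evalP D t u (insT q l) = evalP D t u (q :: l) := by
  induction l with
  | nil => rfl
  | cons p l ih =>
    unfold insT
    cases h1 : keyEq q p with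
    | true =>
      rw [cond_true]
      simp only [keyEq, Bool.and_eq_true, Nat.beq_eq] at h1
      obtain ⟨⟨e1, e2⟩, e3⟩ := h1
      rw [evalP_cons, evalP_cons, evalP_cons, ← add_assoc, ← e1]
      congr 1
      simp only [monoP, e1, e2, e3]
      push_cast
      module
    | false =>
      rw [cond_false]
      cases h2 : keyLt q p with
      | true => rfl
      | false =>
        rw [cond_false, evalP_cons, ih, evalP_cons, evalP_cons, evalP_cons]
        abel

/-- the sorted normal form, zero coefficients removed -/
def normP (v : List PT) : List PT := (v.foldr insT []).filter fun q => !decide (q.2.1 = 0)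

theorem evalP_foldr_insT (t u : F) (v : List PT) : evalP D t u (v.foldr insT []) = evalP D t u v := by
  induction v with
  | nil => rfl
  | cons q v ih => rw [List.foldr_cons, evalP_insT, evalP_cons, evalP_cons, ih]

theorem evalP_filter (t u : F) (v : List PT) :
    evalP D t u (v.filter fun q => !decide (q.2.1 = 0)) = evalP D t u v := by
  induction v with
  | nil => rfl
  | cons q v ih =>
    by_cases h : q.2.1 = 0
    · rw [List.filter_cons_of_neg (by simp [h]), ih, evalP_cons]
      simp [monoP, h]
    · rw [List.filter_cons_of_pos (by simp [h]), evalP_cons, evalP_cons, ih]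

theorem evalP_normP (t u : F) (v : List PT) : evalP D t u (normP v) = evalP D t u v := by
  unfold normP; rw [evalP_filter, evalP_foldr_insT]

theorem evalP_eq_of_normP_eq (t u : F) {v w : List PT} (h : normP v = normP w) :
    evalP D t u v = evalP D t u w := by
  rw [← evalP_normP t u v, ← evalP_normP t u w, h]

end Cfsg.Agent.Helper6
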