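import Mathlib
import Cfsg.Agent.Helper6.Chev.CommPoly

set_option autoImplicit false
set_option linter.unusedSectionVars false
set_option linter.unusedSimpArgs false
set_option linter.unusedVariables false

/-!
Verification of the commutator formula for a single pair of roots by a formal computation.
-/

namespace Cfsg.Agent.Helper6

open Cfsg.Lie

variable {D : ChevalleyDatum} {F : Type*} [Field F]

section gen

variable (ce : ℕ → ℕ → List (ℕ × ℤ))

def chainRootG (r s i : ℕ) : Option ℕ := ((ce r s)[i - 1]?).map Prod.fst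

def chainMG (r s i : ℕ) : ℤ := (((ce r s)[i - 1]?).map Prod.snd).getD 0

/-- `commTerms` with the chain table access as a parameter -/
def commTermsG (r s : ℕ) : List (ℕ × ℤ × ℕ × ℕ) :=
  let rs := chainRootG ce r s 1
  let cands : List (Option ℕ × ℤ × ℕ × ℕ) :=
    [ (chainRootG ce r s 1, chainMG ce r s 1, 1, 1),
      (chainRootG ce r s 2, chainMG ce r s 2, 2, 1),
      (chainRootG ce s r 2, chainMG ce s r 2, 1, 2),
      (chainRootG ce r s 3, chainMG ce r s 3, 3, 1),
      (chainRootG ce s r 3, - chainMG ce s r 3, 1, 3),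
      ((chainRootG ce r s 3).bind fun k => chainRootG ce k s 1, (rs.map fun k => chainMG ce k r 2 / 3).getD 0, 3, 2),
      ((chainRootG ce s r 3).bind fun k => chainRootG ce k r 1, (rs.map fun k => -2 * chainMG ce k s 2 / 3).getD 0, 2, 3) ]
  cands.filterMap fun c => c.1.map fun k => (k, c.2)

end gen

theorem commTermsG_eq (D : ChevalleyDatum) : commTermsG D.chainEntry = D.commTerms := rfl

section gen2

variable (D) (ce : ℕ → ℕ → List (ℕ × ℤ)) (ng : ℕ → ℕ) (ca : ℕ → ℕ → ℤ)

/-- formal action of the word of the commutator formula -/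
def stepW (terms : List (ℕ × ℤ × ℕ × ℕ)) (v : List PT) : List PT :=
  terms.foldr (fun c acc => stepP D ce ng ca c.1 (c.2.1 * (-1) ^ c.2.2.1) c.2.2.1 c.2.2.2 acc) v

/-- the formal check of the commutator formula for `(r, s)` with the terms `terms` -/
def baseChk (terms : List (ℕ × ℤ × ℕ × ℕ)) (r s : ℕ) : Bool :=
  allL terms (fun c => Nat.blt c.1 D.nroots) &&
  allLt (D.rank + D.nroots) fun k =>
    decide (normP (stepP D ce ng ca s 1 0 1 (stepP D ce ng ca r 1 1 0 [(k, 1, 0, 0)])) =
      normP (stepP D ce ng ca r 1 1 0 (stepP D ce ng ca s 1 0 1 (stepW D ce ng ca terms [(k, 1, 0, 0)]))))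

end gen2

theorem expT_lt (hB : BasicOK D) {a : ℕ} (ha : a < D.nroots) (C : ℤ) (α β : ℕ) (q : PT)
    (hq : q.1 < D.rank + D.nroots) :
    ∀ p ∈ expT D D.chainEntry D.neg D.cartan a C α β q, p.1 < D.rank + D.nroots := by
  intro p hp
  unfold expT at hp
  cases h1 : Nat.blt q.1 D.rank with
  | true =>
    rw [h1, cond_true] at hp
    simp only [List.mem_cons, List.not_mem_nil, or_false] at hp
    rcases hp with rfl | rfl
    · exact hq
    · simp only; omega
  | false =>
    rw [h1, cond_false] at hp
    cases h2 : Nat.beq (q.1 - D.rank) a with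
    | true =>
      rw [h2, cond_true] at hp
      simp only [List.mem_cons, List.not_mem_nil, or_false] at hp
      rw [hp]; exact hq
    | false =>
      rw [h2, cond_false] at hp
      cases h3 : Nat.beq (q.1 - D.rank) (D.neg a) with
      | true =>
        rw [h3, cond_true] at hp
        simp only [List.mem_cons, List.mem_map, List.mem_range] at hp
        rcases hp with rfl | rfl | ⟨m, hm, rfl⟩
        · exact hq
        · simp only; omega
        · simp only; omega
      | false =>
        rw [h3, cond_false] at hp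
        simp only [List.mem_cons, List.mem_map] at hp
        rcases hp with rfl | ⟨e, he, rfl⟩
        · exact hq
        · simp only
          have hmem : e.1 ∈ D.chainEntry a (q.1 - D.rank) := by
            rcases e with ⟨e1, e2⟩
            exact (List.mem_zipIdx he).2.2 ▸ List.getElem_mem _
          have := (chainRel_mem (chainRel_chainEntry hB.chain ha (q.1 - D.rank)) e.1 hmem).1
          omega

theorem stepP_lt (hB : BasicOK D) {a : ℕ} (ha : a < D.nroots) (C : ℤ) (α β : ℕ) (v : List PT)
    (hv : ∀ q ∈ v, q.1 < D.rank + D.nroots) :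
    ∀ p ∈ stepP D D.chainEntry D.neg D.cartan a C α β v, p.1 < D.rank + D.nroots := by
  intro p hp
  unfold stepP at hp
  rw [List.mem_flatMap] at hp
  obtain ⟨q, hq, hpq⟩ := hp
  exact expT_lt hB ha C α β q (hv q hq) p hpq

theorem x_mulVec_evalP (hB : BasicOK D) {a : ℕ} (ha : a < D.nroots) (c : F) (C : ℤ) (α β : ℕ) (t u : F)
    (hc : c = ((C : ℤ) : F) * t ^ α * u ^ β)
    (v : List PT) (hv : ∀ q ∈ v, q.1 < D.rank + D.nroots) :
    (D.x F a c).mulVec (evalP D t u v) =
      evalP D t u (stepP D D.chainEntry D.neg D.cartan a C α β v) := by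
  rw [hc]; exact evalP_stepP hB ha C α β t u v hv

theorem wordMat_cons (q : ℕ × F) (W : List (ℕ × F)) :
    D.wordMat F (q :: W) = D.x F q.1 q.2 * D.wordMat F W := by
  simp [ChevalleyDatum.wordMat]

/-- the word of the commutator formula acts as `stepW` -/
theorem wordMat_mulVec_evalP (hB : BasicOK D) (t u : F) (terms : List (ℕ × ℤ × ℕ × ℕ))
    (hterms : ∀ c ∈ terms, c.1 < D.nroots) (v : List PT) (hv : ∀ q ∈ v, q.1 < D.rank + D.nroots) :
    (D.wordMat F (terms.map fun c => (c.1, ((c.2.1 : ℤ) : F) * (-t) ^ c.2.2.1 * u ^ c.2.2.2))).mulVec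
        (evalP D t u v) =
      evalP D t u (stepW D D.chainEntry D.neg D.cartan terms v) ∧
    ∀ p ∈ stepW D D.chainEntry D.neg D.cartan terms v, p.1 < D.rank + D.nroots := by
  induction terms with
  | nil =>
    refine ⟨?_, hv⟩
    simp [ChevalleyDatum.wordMat, stepW]
  | cons c terms ih =>
    obtain ⟨ih1, ih2⟩ := ih (fun c' hc' => hterms c' (List.mem_cons_of_mem _ hc'))
    have hc := hterms c List.mem_cons_self
    refine ⟨?_, ?_⟩
    · rw [List.map_cons, wordMat_cons, ← Matrix.mulVec_mulVec, ih1]
      have : stepW D D.chainEntry D.neg D.cartan (c :: terms) v =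
          stepP D D.chainEntry D.neg D.cartan c.1 (c.2.1 * (-1) ^ c.2.2.1) c.2.2.1 c.2.2.2
            (stepW D D.chainEntry D.neg D.cartan terms v) := rfl
      rw [this]
      apply x_mulVec_evalP hB hc _ _ _ _ _ _ _ _ ih2
      push_cast
      rw [neg_pow]
      ring
    · exact stepP_lt hB hc _ _ _ _ ih2

/-- a successful formal check proves the commutator formula for the pair -/
theorem commF_of_baseChk (hB : BasicOK D) {r s : ℕ} (hr : r < D.nroots) (hs : s < D.nroots)
    (h : baseChk D D.chainEntry D.neg D.cartan (D.commTerms r s) r s = true) : CommF D F r s := by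
  simp only [baseChk, Bool.and_eq_true, allL_iff, allLt_iff, Nat.blt_eq, decide_eq_true_eq] at h
  obtain ⟨hterms, hk⟩ := h
  intro t u
  have key : ∀ k < D.rank + D.nroots,
      (D.x F s u * D.x F r t).mulVec (bv D F k) =
        (D.x F r t * D.x F s u * D.wordMat F (D.commWord F r s t u)).mulVec (bv D F k) := by
    intro k hk'
    have hv0 : ∀ q ∈ ([(k, 1, 0, 0)] : List PT), q.1 < D.rank + D.nroots := by
      intro q hq; simp only [List.mem_singleton] at hq; rw [hq]; exact hk'
    have e0 : bv D F k = evalP D t u [(k, 1, 0, 0)] := by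
      rw [evalP_cons, evalP_nil]; simp [monoP]
    rw [e0, ← Matrix.mulVec_mulVec, ← Matrix.mulVec_mulVec, ← Matrix.mulVec_mulVec]
    obtain ⟨w1, w2⟩ := wordMat_mulVec_evalP hB t u (D.commTerms r s) hterms _ hv0
    unfold ChevalleyDatum.commWord
    rw [w1, x_mulVec_evalP hB hr t 1 1 0 t u (by simp) _ hv0,
      x_mulVec_evalP hB hs u 1 0 1 t u (by simp) _ (stepP_lt hB hr _ _ _ _ hv0),
      x_mulVec_evalP hB hs u 1 0 1 t u (by simp) _ w2,
      x_mulVec_evalP hB hr t 1 1 0 t u (by simp) _ (stepP_lt hB hs _ _ _ _ w2)]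
    exact evalP_eq_of_normP_eq t u (hk k hk')
  apply matrix_ext_basis
  · intro i hi
    have := key i (by omega)
    rwa [bv_of_lt hi] at this
  · intro v hv
    have := key (D.rank + v) (by omega)
    rwa [bv_add] at this

end Cfsg.Agent.Helper6
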