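import Mathlib
import Cfsg.Agent.Helper6.Chev.CommBase
import Cfsg.Agent.Helper6.Chev.Reach

set_option autoImplicit false
set_option linter.unusedSectionVars false
set_option linter.unusedSimpArgs false
set_option linter.unusedVariables false

/-!
Every pair of independent roots is carried to a base pair by fundamental reflections, compatibly
with the constants of the commutator formula.
-/

namespace Cfsg.Agent.Helper6

open Cfsg.Lie

variable {D : ChevalleyDatum} {F : Type*} [Field F]

/-- Boolean form of `TransOK`, with the table access functions as parameters -/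
def transChkG (ct : ℕ → ℕ → List (ℕ × ℤ × ℕ × ℕ)) (w : ℕ → ℕ) (η : ℕ → ℤ) (n r s : ℕ) : Bool :=
  allL (ct r s) (fun c => Nat.blt c.1 n) &&
  decide (ct (w r) (w s) = (ct r s).map fun c =>
    (w c.1, η c.1 * η r ^ c.2.2.1 * η s ^ c.2.2.2 * c.2.1, c.2.2.1, c.2.2.2))

theorem transOK_of_chk {i r s : ℕ} (hr : r < D.nroots) (hs : s < D.nroots)
    {w : ℕ → ℕ} {η : ℕ → ℤ} (hw : ∀ k < D.nroots, w k = wR D (D.simple i) k)
    (hη : ∀ k < D.nroots, η k = etaR D (D.simple i) k)
    (h : transChkG D.commTerms w η D.nroots r s = true) : TransOK D i r s := by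
  simp only [transChkG, Bool.and_eq_true, allL_iff, Nat.blt_eq, decide_eq_true_eq] at h
  obtain ⟨h1, h2⟩ := h
  refine ⟨h1, ?_⟩
  rw [← hw r hr, ← hw s hs, h2]
  apply List.map_congr_left
  intro c hc
  rw [hw c.1 (h1 c hc), hη c.1 (h1 c hc), hη r hr, hη s hs]

/-- the certificate for the pairs `(r, s)`, `s ≠ ±r`, with `r` fixed: a pair of depth `0` is a base
pair, and every other one is carried to a pair of smaller depth by a fundamental reflection for
which the transport condition holds; the table access functions are parameters -/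
def rowChkG (D : ChevalleyDatum) (ce : ℕ → ℕ → List (ℕ × ℤ)) (w : ℕ → ℕ → ℕ) (η : ℕ → ℕ → ℤ)
    (dep : ℕ → ℕ → ℕ) (bases : List (ℕ × ℕ)) (r : ℕ) : Bool :=
  allLt D.nroots fun s =>
    Nat.beq s r || Nat.beq s (negF D r) ||
    (bif Nat.beq (dep r s) 0 then
      bases.any (fun b => Nat.beq b.1 r && Nat.beq b.2 s)
    else anyLt D.rank fun i =>
      Nat.blt (dep (w i r) (w i s)) (dep r s) &&
      transChkG (commTermsG ce) (w i) (η i) D.nroots (w i r) (w i s))

/-- the certificate for the pairs with `lo ≤ r < lo + len` -/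
def reach2ChkR (D : ChevalleyDatum) (ce : ℕ → ℕ → List (ℕ × ℤ)) (w : ℕ → ℕ → ℕ) (η : ℕ → ℕ → ℤ)
    (dep : ℕ → ℕ → ℕ) (bases : List (ℕ × ℕ)) (lo len : ℕ) : Bool :=
  allLt len fun r' => Nat.ble D.nroots (lo + r') || rowChkG D ce w η dep bases (lo + r')

theorem rowChk_of_chunks {D : ChevalleyDatum} {ce : ℕ → ℕ → List (ℕ × ℤ)} {w : ℕ → ℕ → ℕ}
    {η : ℕ → ℕ → ℤ} {dep : ℕ → ℕ → ℕ} {bases : List (ℕ × ℕ)} (len m : ℕ)
    (hm : D.nroots ≤ len * m)
    (h : ∀ j < m, reach2ChkR D ce w η dep bases (len * j) len = true) :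
    ∀ r < D.nroots, rowChkG D ce w η dep bases r = true := by
  intro r hr
  have hlen : 0 < len := by
    rcases Nat.eq_zero_or_pos len with h0 | h0
    · rw [h0] at hm; omega
    · exact h0
  have hj : r / len < m := by
    rw [Nat.div_lt_iff_lt_mul hlen]
    calc r < D.nroots := hr
      _ ≤ len * m := hm
      _ = m * len := Nat.mul_comm _ _
  have := h (r / len) hj
  simp only [reach2ChkR, allLt_iff, Bool.or_eq_true, Nat.ble_eq] at this
  have h2 := this (r % len) (Nat.mod_lt _ hlen)
  rw [Nat.div_add_mod] at h2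
  rcases h2 with h2 | h2
  · omega
  · exact h2

theorem commF_of_reach2Chk (hB : BasicOK D) (hF : FastOK D)
    (hA : ∀ i < D.rank, SimpleAll D i) {ce : ℕ → ℕ → List (ℕ × ℤ)} {w : ℕ → ℕ → ℕ}
    {η : ℕ → ℕ → ℤ} (hce : ce = D.chainEntry)
    (hw : ∀ i < D.rank, ∀ s < D.nroots, w i s = wR D (D.simple i) s)
    (hη : ∀ i < D.rank, ∀ s < D.nroots, η i s = etaR D (D.simple i) s)
    {dep : ℕ → ℕ → ℕ} {bases : List (ℕ × ℕ)}
    (h : ∀ r < D.nroots, rowChkG D ce w η dep bases r = true) (hbase : ∀ b ∈ bases, CommF D F b.1 b.2) :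
    ∀ r < D.nroots, ∀ s < D.nroots, s ≠ r → s ≠ D.neg r → CommF D F r s := by
  simp only [rowChkG, allLt_iff, Bool.or_eq_true, Nat.beq_eq] at h
  have main : ∀ d r s, dep r s = d → r < D.nroots → s < D.nroots → s ≠ r →
      s ≠ D.neg r → CommF D F r s := by
    intro d
    induction d using Nat.strong_induction_on with
    | _ d ih =>
      intro r s hd hr hs h1 h2
      rcases h r hr s hs with (h3 | h3) | h3
      · exact absurd h3 h1
      · rw [negF_eq hF.chk] at h3; exact absurd h3 h2
      · cases hz : Nat.beq (dep r s) 0 with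
        | true =>
          rw [hz, cond_true, List.any_eq_true] at h3
          obtain ⟨b, hb, hb2⟩ := h3
          simp only [Bool.and_eq_true, Nat.beq_eq] at hb2
          have := hbase b hb
          rwa [hb2.1, hb2.2] at this
        | false =>
          rw [hz, cond_false, anyLt_iff] at h3
          obtain ⟨i, hi, h4⟩ := h3
          simp only [Bool.and_eq_true, Nat.blt_eq] at h4
          obtain ⟨h5, h6⟩ := h4
          have hAi := hA i hi
          rw [hw i hi r hr, hw i hi s hs] at h5 h6
          have hwr := wR_lt hB hAi.hS.1 hAi.hR hr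
          have hws := wR_lt hB hAi.hS.1 hAi.hR hs
          have hne1 : wR D (D.simple i) s ≠ wR D (D.simple i) r := fun e =>
            h1 (wR_inj hB hAi hs hr e)
          have hne2 : wR D (D.simple i) s ≠ D.neg (wR D (D.simple i) r) := by
            intro e
            rw [← hAi.hC.negw r hr] at e
            exact h2 (wR_inj hB hAi hs (hB.neg r hr).1 e)
          have hc := ih _ (by rw [← hd]; exact h5) _ _ rfl hwr hws hne1 hne2
          have hct : commTermsG ce = D.commTerms := by
            rw [hce]; rfl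
          rw [hct] at h6
          have hT := transOK_of_chk hwr hws (hw i hi) (hη i hi) h6
          have := CommF.trans hB hAi hwr hws hT hc
          rwa [wR_wR hB hAi hr, wR_wR hB hAi hs] at this
  intro r hr s hs h1 h2
  exact main _ r s rfl hr hs h1 h2

/-! ### tables as literals -/

/-- chain table access through a function giving the packed rows -/
def ceLit (D : ChevalleyDatum) (row : ℕ → ℕ) (r s : ℕ) : List (ℕ × ℤ) :=
  bif Nat.blt r D.nroots && Nat.blt s D.nroots then
    toZ (ceDecodeN (Nat.mod (Nat.shiftRight (row r) (Nat.mul 36 s)) 68719476736))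
  else D.chainEntry r s

/-- depth table access through a function giving the packed rows -/
def depLit (row : ℕ → ℕ) (r s : ℕ) : ℕ := Nat.mod (Nat.shiftRight (row r) (Nat.mul 7 s)) 128

/-- reflection table access through one packed literal -/
def wLit (W n i s : ℕ) : ℕ := Nat.mod (Nat.shiftRight W (Nat.mul 8 (Nat.add (Nat.mul i n) s))) 256

/-- sign table access through one packed literal -/
def eLit (E n i s : ℕ) : ℤ :=
  bif Nat.beq (Nat.mod (Nat.shiftRight E (Nat.add (Nat.mul i n) s)) 2) 0 then 1 else -1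

/-- the chain literal agrees with the chain table -/
def litChkC (D : ChevalleyDatum) (P : ℕ → ℕ) : Bool :=
  allLt D.nroots fun r => walkCe (ceLit D P r) D.nroots 0 (D.chain.getD r #[]).toList

/-- the reflection and sign literals agree with the tables, for the `i`-th fundamental reflection -/
def litChkW (D : ChevalleyDatum) (W E i : ℕ) : Bool :=
  allLt D.nroots fun s =>
    Nat.beq (wLit W D.nroots i s) (wD D i s) && decide (eLit E D.nroots i s = etaD D i s)

theorem ceLit_eq {D : ChevalleyDatum} (hK : KeysSorted D) {P : ℕ → ℕ} (h : litChkC D P = true) :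
    ceLit D P = D.chainEntry := by
  simp only [litChkC, allLt_iff] at h
  funext r s
  by_cases hc : r < D.nroots ∧ s < D.nroots
  · have hk := hK r hc.1
    rw [List.isChain_iff_pairwise] at hk
    exact walkCe_sound (ceLit D P r) D.nroots 0 _ (h r hc.1) hk (by intro e _; omega) s
      (Nat.zero_le _) (by omega)
  · unfold ceLit
    have : (Nat.blt r D.nroots && Nat.blt s D.nroots) = false := by
      cases h1 : (Nat.blt r D.nroots && Nat.blt s D.nroots) with
      | false => rfl
      | true =>
        exfalso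
        apply hc
        simp only [Bool.and_eq_true, Nat.blt_eq] at h1
        exact h1
    rw [this]; rfl

theorem wLit_eq {D : ChevalleyDatum} {W E : ℕ} (h : ∀ i < D.rank, litChkW D W E i = true) :
    ∀ i < D.rank, ∀ s < D.nroots, wLit W D.nroots i s = wD D i s ∧ eLit E D.nroots i s = etaD D i s := by
  intro i hi s hs
  have := h i hi
  simp only [litChkW, Bool.and_eq_true, allLt_iff, Nat.beq_eq, decide_eq_true_eq] at this
  exact this s hs

theorem commF_of_litChk (hB : BasicOK D) (hF : FastOK D) (hn : D.nroots ≤ 256)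
    (hA : ∀ i < D.rank, SimpleAll D i) {P : ℕ → ℕ} {W E : ℕ} {dep : ℕ → ℕ → ℕ} {bases : List (ℕ × ℕ)}
    (hL : litChkC D P = true) (hL2 : ∀ i < D.rank, litChkW D W E i = true)
    (h : ∀ r < D.nroots, rowChkG D (ceLit D P) (wLit W D.nroots) (eLit E D.nroots) dep bases r = true)
    (hbase : ∀ b ∈ bases, CommF D F b.1 b.2) :
    ∀ r < D.nroots, ∀ s < D.nroots, s ≠ r → s ≠ D.neg r → CommF D F r s := by
  have hw : ∀ i < D.rank, ∀ s < D.nroots, wD D i s = wR D (D.simple i) s := fun i hi s hs =>
    wD_eq hF hn (fun s hs => wR_lt hB (hA i hi).hS.1 (hA i hi).hR hs) hs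
  have hη : ∀ i < D.rank, ∀ s < D.nroots, etaD D i s = etaR D (D.simple i) s := fun i hi s hs =>
    etaD_eq hF (fun s hs => ((hA i hi).hE.2 s hs).1) hs
  exact commF_of_reach2Chk hB hF hA (ceLit_eq hF.keys hL)
    (fun i hi s hs => by rw [(wLit_eq hL2 i hi s hs).1, hw i hi s hs])
    (fun i hi s hs => by rw [(wLit_eq hL2 i hi s hs).2, hη i hi s hs]) h hbase

/-- Boolean form of the base checks, on the packed tables -/
def basesChk (D : ChevalleyDatum) (bases : List (ℕ × ℕ)) : Bool :=
  allL bases fun b =>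
    Nat.blt b.1 D.nroots && Nat.blt b.2 D.nroots &&
    baseChk D (ceF D) (negF D) (cartanF D) (commTermsG (ceF D) b.1 b.2) b.1 b.2

theorem commF_of_basesChk (hB : BasicOK D) (hF : FastOK D) {bases : List (ℕ × ℕ)}
    (h : basesChk D bases = true) : ∀ b ∈ bases, CommF D F b.1 b.2 := by
  simp only [basesChk, allL_iff, Bool.and_eq_true, Nat.blt_eq] at h
  intro b hb
  obtain ⟨⟨h1, h2⟩, h3⟩ := h b hb
  rw [ceF_eq hF.keys hF.chk, negF_eq hF.chk, cartanF_eq hF.chk, commTermsG_eq] at h3
  exact commF_of_baseChk hB h1 h2 h3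

end Cfsg.Agent.Helper6
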