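import Mathlib
import Cfsg.Agent.Helper6.ChevUnitri
import Cfsg.Agent.Helper6.Chev.Fast

set_option autoImplicit false
set_option linter.unusedSectionVars false
set_option linter.unusedSimpArgs false
set_option linter.unusedVariables false

/-!
A level function on the Chevalley basis that is additive along root chains: the root element
`x_s(t)`, `s` positive, raises levels by at least the height `lam s - Λ` of `s`.
-/

open Cfsg Cfsg.Lie

namespace Cfsg.Agent.Helper6.Chev

open Matrix

/-- the level of a basis vector: `Λ` for the coroots, `lam s` for `e_s` -/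
def levelL (D : ChevalleyDatum) (lam : ℕ → ℕ) (Λ : ℕ) : D.Idx → ℕ
  | Sum.inl _ => Λ
  | Sum.inr s => lam s.val

/-- Boolean check: for every root `s` in the upper half, `lam` is above `Λ`, symmetric under `-`,
increasing, and additive along the `s`-chains -/
def ordChk (D : ChevalleyDatum) (lam : ℕ → ℕ) (Λ N : ℕ) : Bool :=
  allLt D.nroots fun s => Nat.blt s N ||
    (Nat.blt Λ (lam s) && Nat.beq (Nat.add (lam (D.negIdx.getD s 0)) (lam s)) (Nat.mul 2 Λ) &&
      (Nat.ble D.nroots (Nat.add s 1) || Nat.blt (lam s) (lam (Nat.add s 1))) &&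
      allL (D.chain.getD s #[]).toList fun e => allL e.2.toList fun q =>
        Nat.ble (Nat.add (lam e.1) (Nat.sub (lam s) Λ)) (lam q.1))

theorem ordChk_spec {D : ChevalleyDatum} {lam : ℕ → ℕ} {Λ N : ℕ} (h : ordChk D lam Λ N = true)
    {s : ℕ} (hs : s < D.nroots) (hN : N ≤ s) :
    Λ < lam s ∧ lam (D.negIdx.getD s 0) + lam s = 2 * Λ ∧
      (s + 1 < D.nroots → lam s < lam (s + 1)) ∧
      ∀ e ∈ (D.chain.getD s #[]).toList, ∀ q ∈ e.2.toList, lam e.1 + (lam s - Λ) ≤ lam q.1 := by
  simp only [ordChk, allLt_iff, Bool.or_eq_true, Bool.and_eq_true, Nat.blt_eq, Nat.beq_eq,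
    Nat.ble_eq, allL_iff] at h
  rcases h s hs with h1 | ⟨⟨⟨h1, h2⟩, h3⟩, h4⟩
  · omega
  · refine ⟨h1, h2, ?_, h4⟩
    intro h5
    rcases h3 with h3 | h3
    · have : D.nroots ≤ s + 1 := h3
      omega
    · exact h3

variable {F : Type*} [Field F]

theorem raises_x_ord (D : ChevalleyDatum) {lam : ℕ → ℕ} {Λ N : ℕ} (h : ordChk D lam Λ N = true)
    {r : ℕ} (hrn : r < D.nroots) (hN : N ≤ r) (t : F) :
    Raises (levelL D lam Λ) (lam r - Λ) (D.x F r t - 1) := by
  obtain ⟨h1, h2, -, h3⟩ := ordChk_spec h hrn hN
  unfold ChevalleyDatum.x
  rw [dif_pos hrn]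
  intro i j hij
  rw [Matrix.sub_apply] at hij
  rcases j with c | s
  · rcases i with c' | u
    · exfalso; apply hij
      simp only [ChevalleyDatum.xMat, Matrix.of_apply, Matrix.one_apply, Sum.inl.injEq]
      simp
    · simp only [ChevalleyDatum.xMat, Matrix.of_apply, Matrix.one_apply] at hij
      by_cases hur : u = ⟨r, hrn⟩
      · subst hur
        simp only [levelL]
        omega
      · exfalso; apply hij; simp [hur]
  · by_cases hsr : s = ⟨r, hrn⟩
    · exfalso; apply hij
      subst hsr
      rcases i with c' | u
      · simp [ChevalleyDatum.xMat, Matrix.of_apply]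
      · simp only [ChevalleyDatum.xMat, Matrix.of_apply, Matrix.one_apply, if_true, Sum.inr.injEq]
        simp
    · by_cases hsn : s.val = D.negIdx.getD r 0
      · rcases i with c' | u
        · simp only [levelL]
          rw [hsn]
          omega
        · simp only [ChevalleyDatum.xMat, Matrix.of_apply, Matrix.one_apply, hsr, if_false,
            hsn, if_true, Sum.inr.injEq] at hij
          by_cases hus : u = s
          · exfalso; apply hij; simp [hus]
          · by_cases hur : u = ⟨r, hrn⟩
            · subst hur
              simp only [levelL]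
              rw [hsn]
              omega
            · exfalso; apply hij; simp [hus, hur]
      · rcases i with c' | u
        · exfalso; apply hij
          simp only [ChevalleyDatum.xMat, Matrix.of_apply, hsr, if_false, hsn]
          simp
        · simp only [ChevalleyDatum.xMat, Matrix.of_apply, Matrix.one_apply, hsr, if_false,
            hsn, Sum.inr.injEq] at hij
          have hne : D.chainCoeff r s.val u.val ≠ [] := by
            intro hnil
            apply hij
            rw [hnil]
            simp
          obtain ⟨e, he, hes, q, hq, hqu⟩ := chainCoeff_ne_nil hne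
          have := h3 e he q hq
          simp only [levelL]
          rw [← hes, ← hqu]
          omega

/-- monotonicity of `lam` on the upper half -/
theorem lam_strictMono {D : ChevalleyDatum} {lam : ℕ → ℕ} {Λ N : ℕ} (h : ordChk D lam Λ N = true)
    {k s : ℕ} (hk : N ≤ k) (hks : k < s) (hs : s < D.nroots) : lam k < lam s := by
  induction s with
  | zero => omega
  | succ s ih =>
    rcases Nat.lt_succ_iff_lt_or_eq.1 hks with h1 | rfl
    · have := ih h1 (by omega)
      have := (ordChk_spec h (show s < D.nroots by omega) (by omega)).2.2.1 hs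
      omega
    · exact (ordChk_spec h (show k < D.nroots by omega) hk).2.2.1 hs

end Cfsg.Agent.Helper6.Chev
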