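import Mathlib
import Cfsg.Agent.Helper6.Chev.CommReach
import Cfsg.Agent.Helper6.Chev.Ord
import Cfsg.Agent.Helper6.Chev.GLvl

set_option autoImplicit false
set_option linter.unusedSectionVars false
set_option linter.unusedSimpArgs false
set_option linter.unusedVariables false

/-!
The subgroups `U_k = ⟨X_r : k ≤ r⟩` of `U` and the unique expression of the elements of `U` as
products of root elements in increasing order.
-/

namespace Cfsg.Agent.Helper6

open Cfsg.Lie

variable {D : ChevalleyDatum} {F : Type*} [Field F]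

/-- the subgroup generated by the root elements `x_r(t)`, `k ≤ r` -/
def Uge (D : ChevalleyDatum) (F : Type*) [Field F] (k : ℕ) : Subgroup (GL D.Idx F) :=
  Subgroup.closure {g | ∃ (r : ℕ) (t : F), k ≤ r ∧ r < D.nroots ∧
    (g : Matrix D.Idx D.Idx F) = D.x F r t}

/-- all commutator terms of two roots in the upper half lie above the smaller one -/
def posOrdChk (D : ChevalleyDatum) (N : ℕ) : Bool :=
  allLt D.nroots fun k => Nat.blt k N || allLt D.nroots fun s => Nat.ble s k ||
    allL (commTermsG (ceF D) k s) fun c => Nat.blt k c.1 && Nat.blt c.1 D.nroots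

theorem xU_mem_Uge (hB : BasicOK D) {k r : ℕ} (hkr : k ≤ r) (hr : r < D.nroots) (t : F) :
    xU hB r t ∈ Uge D F k :=
  Subgroup.subset_closure ⟨r, t, hkr, hr, rfl⟩

theorem Uge_mono {k l : ℕ} (h : k ≤ l) : Uge D F l ≤ Uge D F k := by
  unfold Uge
  apply Subgroup.closure_mono
  rintro g ⟨r, t, h1, h2, h3⟩
  exact ⟨r, t, le_trans h h1, h2, h3⟩

theorem wordU_mem_Uge (hB : BasicOK D) {k : ℕ} (w : List (ℕ × F))
    (hw : ∀ p ∈ w, k ≤ p.1 ∧ p.1 < D.nroots) : wordU hB w ∈ Uge D F k := by
  unfold wordU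
  apply Subgroup.list_prod_mem
  intro g hg
  simp only [List.mem_map] at hg
  obtain ⟨p, hp, rfl⟩ := hg
  exact xU_mem_Uge hB (hw p hp).1 (hw p hp).2 p.2

theorem xU_inv (hB : BasicOK D) (r : ℕ) (t : F) : (xU hB r t)⁻¹ = xU hB r (-t) := by
  apply Units.ext
  rfl

theorem xU_mul (hB : BasicOK D) (r : ℕ) (t u : F) : xU hB r t * xU hB r u = xU hB r (t + u) := by
  apply Units.ext
  rw [Units.val_mul, xU_val, xU_val, xU_val, x_add hB.neg hB.keys hB.chain hB.coroot]

theorem xU_zero (hB : BasicOK D) (r : ℕ) : xU hB r (0 : F) = 1 := by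
  apply Units.ext
  rw [xU_val, x_zero, Units.val_one]

section main

variable (hB : BasicOK D) (hF : FastOK D) {N : ℕ} (hP : posOrdChk D N = true)
  (hC : ∀ r < D.nroots, ∀ s < D.nroots, s ≠ r → s ≠ D.neg r → CommF D F r s)
  (hneg : ∀ r < D.nroots, N ≤ r → D.neg r < N)
include hB hF hP hC hneg

/-- conjugation of a higher root element by `x_k(t)` stays in `U_{k+1}` -/
theorem conj_xU_mem_Uge {k s : ℕ} (hk : N ≤ k) (hks : k < s) (hs : s < D.nroots) (t u : F) :
    xU hB k t * xU hB s u * (xU hB k t)⁻¹ ∈ Uge D F (k + 1) := by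
  have hk' : k < D.nroots := lt_trans hks hs
  have hterms : ∀ c ∈ D.commTerms k s, k < c.1 ∧ c.1 < D.nroots := by
    simp only [posOrdChk, allLt_iff, Bool.or_eq_true, Nat.blt_eq, Nat.ble_eq, allL_iff,
      Bool.and_eq_true] at hP
    rcases hP k hk' with h1 | h1
    · omega
    · rcases h1 s hs with h2 | h2
      · omega
      · rw [ceF_eq hF.keys hF.chk, commTermsG_eq] at h2
        exact h2
  have hne1 : s ≠ k := by omega
  have hne2 : s ≠ D.neg k := by have := hneg k hk' hk; omega
  have hcomm := hC k hk' s hs hne1 hne2 (-t) u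
  have e : xU hB k t * xU hB s u * (xU hB k t)⁻¹ =
      xU hB s u * wordU hB (D.commWord F k s (-t) u) := by
    rw [xU_inv]
    apply Units.ext
    simp only [Units.val_mul, xU_val, wordU_val]
    rw [mul_assoc, hcomm, ← mul_assoc, ← mul_assoc, x_mul_neg hB, one_mul]
  rw [e]
  apply Subgroup.mul_mem _ (xU_mem_Uge hB (by omega) hs u)
  apply wordU_mem_Uge hB
  intro p hp
  unfold ChevalleyDatum.commWord at hp
  rw [List.mem_map] at hp
  obtain ⟨c, hc, rfl⟩ := hp
  have := hterms c hc
  exact ⟨by simp only; omega, this.2⟩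

/-- `x_k(t)` conjugates `U_{k+1}` into itself -/
theorem conj_mem_Uge {k : ℕ} (hk : N ≤ k) (t : F) {g : GL D.Idx F} (hg : g ∈ Uge D F (k + 1)) :
    xU hB k t * g * (xU hB k t)⁻¹ ∈ Uge D F (k + 1) := by
  unfold Uge at hg
  induction hg using Subgroup.closure_induction with
  | mem g hg =>
    obtain ⟨s, u, h1, h2, h3⟩ := hg
    have : g = xU hB s u := Units.ext (by rw [h3, xU_val])
    rw [this]
    exact conj_xU_mem_Uge hB hF hP hC hneg hk (by omega) h2 t u
  | one => simp
  | mul g₁ g₂ _ _ ih₁ ih₂ =>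
    have : xU hB k t * (g₁ * g₂) * (xU hB k t)⁻¹ =
        (xU hB k t * g₁ * (xU hB k t)⁻¹) * (xU hB k t * g₂ * (xU hB k t)⁻¹) := by group
    rw [this]
    exact Subgroup.mul_mem _ ih₁ ih₂
  | inv g _ ih =>
    have : xU hB k t * g⁻¹ * (xU hB k t)⁻¹ = (xU hB k t * g * (xU hB k t)⁻¹)⁻¹ := by group
    rw [this]
    exact Subgroup.inv_mem _ ih

/-- every element of `U_k` is `x_k(a)` times an element of `U_{k+1}` -/
theorem exists_mul_of_mem_Uge {k : ℕ} (hk : N ≤ k) {g : GL D.Idx F} (hg : g ∈ Uge D F k) :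
    ∃ a : F, ∃ g' ∈ Uge D F (k + 1), g = xU hB k a * g' := by
  unfold Uge at hg
  induction hg using Subgroup.closure_induction with
  | mem g hg =>
    obtain ⟨s, u, h1, h2, h3⟩ := hg
    have hgs : g = xU hB s u := Units.ext (by rw [h3, xU_val])
    rcases Nat.eq_or_lt_of_le h1 with rfl | h1'
    · exact ⟨u, 1, Subgroup.one_mem _, by rw [hgs, mul_one]⟩
    · refine ⟨0, g, ?_, by rw [xU_zero, one_mul]⟩
      rw [hgs]
      exact xU_mem_Uge hB (by omega) h2 u
  | one => exact ⟨0, 1, Subgroup.one_mem _, by rw [xU_zero, one_mul]⟩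
  | mul g₁ g₂ _ _ ih₁ ih₂ =>
    obtain ⟨a₁, g₁', h1, rfl⟩ := ih₁
    obtain ⟨a₂, g₂', h2, rfl⟩ := ih₂
    refine ⟨a₁ + a₂, (xU hB k (-a₂) * g₁' * (xU hB k (-a₂))⁻¹) * g₂', ?_, ?_⟩
    · exact Subgroup.mul_mem _ (conj_mem_Uge hB hF hP hC hneg hk _ h1) h2
    · rw [← xU_mul, xU_inv hB k (-a₂), neg_neg]
      have e : xU hB k a₂ * xU hB k (-a₂) = 1 := by rw [xU_mul, add_neg_cancel, xU_zero]
      calc xU hB k a₁ * g₁' * (xU hB k a₂ * g₂')
          = xU hB k a₁ * (1 : GL D.Idx F) * g₁' * xU hB k a₂ * g₂' := by group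
        _ = xU hB k a₁ * xU hB k a₂ * (xU hB k (-a₂) * g₁' * xU hB k a₂ * g₂') := by
            rw [← e]; group
        _ = _ := by group
  | inv g _ ih =>
    obtain ⟨a, g', h1, rfl⟩ := ih
    refine ⟨-a, xU hB k a * g'⁻¹ * (xU hB k a)⁻¹, ?_, ?_⟩
    · exact conj_mem_Uge hB hF hP hC hneg hk _ (Subgroup.inv_mem _ h1)
    · rw [← xU_inv]; group

/-- existence of the ordered product expression -/
theorem exists_word_of_mem_Uge (m : ℕ) : ∀ k, N ≤ k → k + m = D.nroots → ∀ g ∈ Uge D F k,
    ∃ t : ℕ → F, g = wordU hB ((List.range' k m).map fun r => (r, t r)) := by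
  induction m with
  | zero =>
    intro k _ hkm g hg
    refine ⟨fun _ => 0, ?_⟩
    have : Uge D F k = ⊥ := by
      unfold Uge
      rw [Subgroup.closure_eq_bot_iff]
      rintro g ⟨r, t, h1, h2, _⟩
      omega
    rw [this, Subgroup.mem_bot] at hg
    rw [hg]; rfl
  | succ m ih =>
    intro k hk hkm g hg
    obtain ⟨a, g', hg', rfl⟩ := exists_mul_of_mem_Uge hB hF hP hC hneg hk hg
    obtain ⟨t', ht'⟩ := ih (k + 1) (by omega) (by omega) g' hg'
    refine ⟨Function.update t' k a, ?_⟩
    rw [List.range'_succ, List.map_cons]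
    have e : (List.range' (k + 1) m).map (fun r => (r, Function.update t' k a r)) =
        (List.range' (k + 1) m).map (fun r => (r, t' r)) := by
      apply List.map_congr_left
      intro r hr
      rw [List.mem_range'_1] at hr
      rw [Function.update_of_ne (by omega)]
    rw [e, Function.update_self]
    unfold wordU
    rw [List.map_cons, List.prod_cons]
    unfold wordU at ht'
    rw [ht']

end main

end Cfsg.Agent.Helper6

namespace Cfsg.Agent.Helper6

open Cfsg.Lie

variable {D : ChevalleyDatum} {F : Type*} [Field F]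

/-- bound on the level function -/
def bndChk (D : ChevalleyDatum) (lam : ℕ → ℕ) (M : ℕ) : Bool :=
  allLt D.nroots fun v => Nat.blt (lam v) M

/-- for every root `k` in the upper half there is a root `v` such that the first member of the
`k`-chain through `v` has coefficient `±1` and is not repeated, and lies exactly one step above -/
def witChk (D : ChevalleyDatum) (lam : ℕ → ℕ) (Λ N : ℕ) : Bool :=
  allLt D.nroots fun k => Nat.blt k N || anyLt D.nroots fun v =>
    !Nat.beq v k && !Nat.beq v (negF D k) &&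
    (match ceF D k v with
      | [] => false
      | q :: rest => (decide (q.2 = 1) || decide (q.2 = -1)) && Nat.blt q.1 D.nroots &&
          !Nat.beq q.1 v && Nat.blt (lam q.1) (Nat.add (Nat.add (lam v) (Nat.sub (lam k) Λ)) 1) &&
          allL rest fun q' => !Nat.beq q'.1 q.1)

section uniq

variable (hB : BasicOK D) (hF : FastOK D) {lam : ℕ → ℕ} {Λ N M : ℕ}
  (hO : Chev.ordChk D lam Λ N = true) (hBd : bndChk D lam M = true) (hΛ : Λ < M)
  (hW : witChk D lam Λ N = true)
include hB hF hO hBd hΛ hW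

theorem levelL_lt (i : D.Idx) : Chev.levelL D lam Λ i < M := by
  rcases i with i | v
  · exact hΛ
  · simp only [bndChk, allLt_iff, Nat.blt_eq] at hBd
    exact hBd v.val v.isLt

theorem Uge_le_UT {k : ℕ} (hk : N ≤ k) :
    Uge D F (k + 1) ≤ (Chev.UT (Chev.levelL D lam Λ) (lam k - Λ + 1) : Subgroup (GL D.Idx F)) := by
  unfold Uge
  rw [Subgroup.closure_le]
  rintro g ⟨s, u, h1, h2, h3⟩
  apply Chev.mem_UT_of_raises (levelL_lt hB hF hO hBd hΛ hW) (by omega)
  rw [h3]
  apply (Chev.raises_x_ord D hO h2 (by omega) u).mono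
  have := Chev.lam_strictMono hO hk (show k < s by omega) h2
  have := (Chev.ordChk_spec hO h2 (show N ≤ s by omega)).1
  omega

/-- `x_k(c) ∈ U_{k+1}` only for `c = 0` -/
theorem eq_zero_of_xU_mem_Uge {k : ℕ} (hk : N ≤ k) (hk' : k < D.nroots) {c : F}
    (h : xU hB k c ∈ Uge D F (k + 1)) : c = 0 := by
  obtain ⟨h1, -⟩ := Chev.mem_UT.1 (Uge_le_UT hB hF hO hBd hΛ hW hk h)
  simp only [witChk, allLt_iff, Bool.or_eq_true, Nat.blt_eq, anyLt_iff] at hW
  rcases hW k hk' with h2 | ⟨v, hv, h2⟩
  · omega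
  · rw [ceF_eq hF.keys hF.chk] at h2
    cases hL : D.chainEntry k v with
    | nil => rw [hL] at h2; simp at h2
    | cons q rest =>
      rw [hL] at h2
      simp only [Bool.and_eq_true, Bool.not_eq_true', Bool.or_eq_true, decide_eq_true_eq,
        Nat.blt_eq, allL_iff] at h2
      obtain ⟨⟨hvk, hvn⟩, ⟨⟨⟨⟨hq2, hqlt⟩, hqv⟩, hlam⟩, hrest⟩⟩ := h2
      have hlam' : lam q.1 < lam v + (lam k - Λ) + 1 := hlam
      have hvk' : v ≠ k := Nat.ne_of_beq_eq_false hvk
      have hvn' : v ≠ D.neg k := by
        rw [negF_eq hF.chk] at hvn; exact Nat.ne_of_beq_eq_false hvn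
      have hqv' : q.1 ≠ v := Nat.ne_of_beq_eq_false hqv
      -- the entry of `x_k(c) - 1` at `(e_{q.1}, e_v)`
      have hentry : ((xU hB k c : GL D.Idx F).val - 1) (Sum.inr ⟨q.1, hqlt⟩) (Sum.inr ⟨v, hv⟩) =
          ((q.2 : ℤ) : F) * c := by
        rw [Matrix.sub_apply, xU_val, x_of_lt hk']
        have hcol := x_mulVec_ev' (F := F) hB.keys ⟨k, hk'⟩ c ⟨hv, hvk', hvn'⟩
        rw [mulVec_ev _ hv] at hcol
        have := congrFun hcol (Sum.inr ⟨q.1, hqlt⟩)
        simp only [] at this
        rw [this, Pi.add_apply, ev_apply_inr, if_neg hqv', zero_add, chainVec_apply_inr, hL,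
          List.zipIdx_cons, List.filter_cons_of_pos (by simp), Matrix.one_apply_ne (by
            intro e; simp only [Sum.inr.injEq, Fin.mk.injEq] at e; exact hqv' e)]
        have hnil : (rest.zipIdx (0 + 1)).filter (fun p => decide (p.1.1 = q.1)) = [] := by
          rw [List.filter_eq_nil_iff]
          intro p hp
          have hmem : p.1 ∈ rest := by
            rcases p with ⟨p1, p2⟩
            exact (List.mem_zipIdx hp).2.2 ▸ List.getElem_mem _
          have := Nat.ne_of_beq_eq_false (hrest p.1 hmem)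
          simp only [decide_eq_true_eq]
          exact this
        simp only [hnil, List.map_cons, List.map_nil, List.sum_cons, List.sum_nil]
        ring
      have hz : ((q.2 : ℤ) : F) * c = 0 := by
        by_contra hne
        rw [← hentry] at hne
        have := h1 _ _ hne
        simp only [Chev.levelL] at this
        omega
      rcases hq2 with e | e
      · rw [e] at hz; simpa using hz
      · rw [e] at hz; simpa using hz

/-- uniqueness of the ordered product expression -/
theorem word_unique (m : ℕ) : ∀ k, N ≤ k → k + m = D.nroots → ∀ t t' : ℕ → F,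
    wordU hB ((List.range' k m).map fun r => (r, t r)) =
      wordU hB ((List.range' k m).map fun r => (r, t' r)) →
    ∀ r, k ≤ r → r < D.nroots → t r = t' r := by
  induction m with
  | zero => intro k _ hkm t t' _ r h1 h2; omega
  | succ m ih =>
    intro k hk hkm t t' h r h1 h2
    rw [List.range'_succ, List.map_cons, List.map_cons] at h
    have hw : ∀ (t : ℕ → F), wordU hB ((k, t k) :: (List.range' (k + 1) m).map fun r => (r, t r)) =
        xU hB k (t k) * wordU hB ((List.range' (k + 1) m).map fun r => (r, t r)) := by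
      intro t; unfold wordU; rw [List.map_cons, List.prod_cons]
    rw [hw t, hw t'] at h
    have hmem : ∀ (t : ℕ → F), wordU hB ((List.range' (k + 1) m).map fun r => (r, t r)) ∈
        Uge D F (k + 1) := by
      intro t
      apply wordU_mem_Uge hB
      intro p hp
      rw [List.mem_map] at hp
      obtain ⟨r, hr, rfl⟩ := hp
      rw [List.mem_range'_1] at hr
      exact ⟨hr.1, by simp only; omega⟩
    have hx : xU hB k (t k - t' k) ∈ Uge D F (k + 1) := by
      have e : xU hB k (t k - t' k) =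
          wordU hB ((List.range' (k + 1) m).map fun r => (r, t' r)) *
            (wordU hB ((List.range' (k + 1) m).map fun r => (r, t r)))⁻¹ := by
        rw [eq_mul_inv_iff_mul_eq, sub_eq_neg_add, ← xU_mul, mul_assoc, h, ← mul_assoc, xU_mul,
          neg_add_cancel, xU_zero, one_mul]
      rw [e]
      exact Subgroup.mul_mem _ (hmem t') (Subgroup.inv_mem _ (hmem t))
    have hk0 := eq_zero_of_xU_mem_Uge hB hF hO hBd hΛ hW hk (by omega) hx
    have hkk : t k = t' k := sub_eq_zero.1 hk0
    rcases Nat.eq_or_lt_of_le h1 with rfl | h1'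
    · exact hkk
    · rw [hkk] at h
      exact ih (k + 1) (by omega) (by omega) t t' (mul_left_cancel h) r h1' h2

end uniq

end Cfsg.Agent.Helper6
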