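import Cfsg.Agent.Helper6.Chev.Cols

set_option autoImplicit false

namespace Cfsg.Agent.Helper6

open Cfsg.Lie

set_option maxRecDepth 100000 in
theorem keysSorted_of_tabulated {D : ChevalleyDatum} (hD : IsTabulated D) : KeysSorted D := by
  simp only [IsTabulated, List.mem_cons, List.not_mem_nil, or_false] at hD
  rcases hD with rfl | rfl | rfl | rfl | rfl | rfl | rfl <;> decide +kernel

theorem keysOK_of_tabulated {D : ChevalleyDatum} (hD : IsTabulated D) : KeysOK D :=
  (keysSorted_of_tabulated hD).keysOK

end Cfsg.Agent.Helper6
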