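import Cfsg.Agent.Helper6.Chev.AddSL
import Cfsg.Agent.Helper6.Chev.TablesKeys

set_option autoImplicit false

namespace Cfsg.Agent.Helper6

open Cfsg.Lie

set_option maxRecDepth 100000 in
theorem corootOK_of_tabulated {D : ChevalleyDatum} (hD : IsTabulated D) : CorootOK D := by
  simp only [IsTabulated, List.mem_cons, List.not_mem_nil, or_false] at hD
  rcases hD with rfl | rfl | rfl | rfl | rfl | rfl | rfl <;> decide +kernel

set_option maxRecDepth 100000 in
theorem chainOK_G2 : ChainOK chevG2 := by decide +kernel

set_option maxRecDepth 100000 in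
theorem chainOK_B2 : ChainOK chevB2 := by decide +kernel

set_option maxRecDepth 100000 in
theorem chainOK_F4 : ChainOK chevF4 := by decide +kernel

set_option maxRecDepth 100000 in
theorem slChain_D4 : ∀ r < chevD4.nroots, SLChainAt chevD4 r := by decide +kernel

set_option maxRecDepth 100000 in
theorem slChain_E6 : ∀ r < chevE6.nroots, SLChainAt chevE6 r := by decide +kernel

set_option maxRecDepth 100000 in
theorem slChain_E7_0 : ∀ r < 63, SLChainAt chevE7 r := by decide +kernel
set_option maxRecDepth 100000 in
theorem slChain_E7_1 : ∀ r < 63, SLChainAt chevE7 (r + 63) := by decide +kernel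

set_option maxRecDepth 100000 in
theorem slChain_E8_0 : ∀ r < 60, SLChainAt chevE8 r := by decide +kernel
set_option maxRecDepth 100000 in
theorem slChain_E8_1 : ∀ r < 60, SLChainAt chevE8 (r + 60) := by decide +kernel
set_option maxRecDepth 100000 in
theorem slChain_E8_2 : ∀ r < 60, SLChainAt chevE8 (r + 120) := by decide +kernel
set_option maxRecDepth 100000 in
theorem slChain_E8_3 : ∀ r < 60, SLChainAt chevE8 (r + 180) := by decide +kernel

theorem chainOK_of_tabulated {D : ChevalleyDatum} (hD : IsTabulated D) : ChainOK D := by
  have hK := keysSorted_of_tabulated hD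
  simp only [IsTabulated, List.mem_cons, List.not_mem_nil, or_false] at hD
  rcases hD with rfl | rfl | rfl | rfl | rfl | rfl | rfl
  · exact chainOK_G2
  · exact chainOK_B2
  · exact chainOK_of_SL hK slChain_D4
  · exact chainOK_F4
  · exact chainOK_of_SL hK slChain_E6
  · exact chainOK_of_SL hK (forall_lt_126 slChain_E7_0 slChain_E7_1)
  · exact chainOK_of_SL hK (forall_lt_240 slChain_E8_0 slChain_E8_1 slChain_E8_2 slChain_E8_3)

end Cfsg.Agent.Helper6
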