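import Cfsg.Agent.Helper6.Chev.NSimple
import Cfsg.Agent.Helper6.Chev.TablesAdd

set_option autoImplicit false

namespace Cfsg.Agent.Helper6

open Cfsg.Lie

set_option maxRecDepth 100000 in
theorem negTabOK_of_tabulated {D : ChevalleyDatum} (hD : IsTabulated D) : NegTabOK D := by
  simp only [IsTabulated, List.mem_cons, List.not_mem_nil, or_false] at hD
  rcases hD with rfl | rfl | rfl | rfl | rfl | rfl | rfl <;> decide +kernel

theorem basicOK_of_tabulated {D : ChevalleyDatum} (hD : IsTabulated D) : BasicOK D :=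
  ⟨negOK_of_tabulated hD, keysOK_of_tabulated hD, chainOK_of_tabulated hD,
    corootOK_of_tabulated hD, negTabOK_of_tabulated hD⟩

/-- the checks at the `i`-th fundamental root -/
def NSimpleOK (D : ChevalleyDatum) (i : ℕ) : Prop := NRootOK D (D.simple i) ∧ SimpleOK D i

instance (D : ChevalleyDatum) (i : ℕ) : Decidable (NSimpleOK D i) := by
  unfold NSimpleOK; infer_instance

set_option maxRecDepth 100000 in
theorem nSimpleOK_G2 : ∀ i < chevG2.rank, NSimpleOK chevG2 i := by decide +kernel
set_option maxRecDepth 100000 in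
theorem nSimpleOK_B2 : ∀ i < chevB2.rank, NSimpleOK chevB2 i := by decide +kernel
set_option maxRecDepth 100000 in
theorem nSimpleOK_D4 : ∀ i < chevD4.rank, NSimpleOK chevD4 i := by decide +kernel
set_option maxRecDepth 100000 in
theorem nSimpleOK_F4 : ∀ i < chevF4.rank, NSimpleOK chevF4 i := by decide +kernel
set_option maxRecDepth 100000 in
theorem nSimpleOK_E6 : ∀ i < chevE6.rank, NSimpleOK chevE6 i := by decide +kernel
set_option maxRecDepth 100000 in
theorem nSimpleOK_E7 : ∀ i < chevE7.rank, NSimpleOK chevE7 i := by decide +kernel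
set_option maxRecDepth 100000 in
theorem nSimpleOK_E8_0 : ∀ i < 4, NSimpleOK chevE8 i := by decide +kernel
set_option maxRecDepth 100000 in
theorem nSimpleOK_E8_1 : ∀ i < 4, NSimpleOK chevE8 (i + 4) := by decide +kernel

theorem nSimpleOK_of_tabulated {D : ChevalleyDatum} (hD : IsTabulated D) :
    ∀ i < D.rank, NSimpleOK D i := by
  simp only [IsTabulated, List.mem_cons, List.not_mem_nil, or_false] at hD
  rcases hD with rfl | rfl | rfl | rfl | rfl | rfl | rfl
  · exact nSimpleOK_G2
  · exact nSimpleOK_B2
  · exact nSimpleOK_D4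
  · exact nSimpleOK_F4
  · exact nSimpleOK_E6
  · exact nSimpleOK_E7
  · intro i hi
    by_cases h : i < 4
    · exact nSimpleOK_E8_0 i h
    · have := nSimpleOK_E8_1 (i - 4) (by change i < 8 at hi; omega)
      rwa [Nat.sub_add_cancel (by omega)] at this

end Cfsg.Agent.Helper6
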