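import Cfsg.Agent.Helper6.Chev.EtaChk
import Cfsg.Agent.Helper6.Chev.TablesN

set_option autoImplicit false

namespace Cfsg.Agent.Helper6

open Cfsg.Lie

set_option maxRecDepth 100000 in
theorem fastCheck_G2 : fastCheck chevG2 = true := by decide +kernel
set_option maxRecDepth 100000 in
theorem fastCheck_B2 : fastCheck chevB2 = true := by decide +kernel
set_option maxRecDepth 100000 in
theorem fastCheck_D4 : fastCheck chevD4 = true := by decide +kernel
set_option maxRecDepth 100000 in
theorem fastCheck_F4 : fastCheck chevF4 = true := by decide +kernel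
set_option maxRecDepth 100000 in
theorem fastCheck_E6 : fastCheck chevE6 = true := by decide +kernel
set_option maxRecDepth 100000 in
theorem fastCheck_E7 : fastCheck chevE7 = true := by decide +kernel
set_option maxRecDepth 100000 in
theorem fastCheck_E8 : fastCheck chevE8 = true := by decide +kernel

theorem fastOK_of_tabulated {D : ChevalleyDatum} (hD : IsTabulated D) : FastOK D := by
  refine ⟨keysSorted_of_tabulated hD, ?_⟩
  simp only [IsTabulated, List.mem_cons, List.not_mem_nil, or_false] at hD
  rcases hD with rfl | rfl | rfl | rfl | rfl | rfl | rfl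
  · exact fastCheck_G2
  · exact fastCheck_B2
  · exact fastCheck_D4
  · exact fastCheck_F4
  · exact fastCheck_E6
  · exact fastCheck_E7
  · exact fastCheck_E8

theorem nroots_le_of_tabulated {D : ChevalleyDatum} (hD : IsTabulated D) : D.nroots ≤ 256 := by
  simp only [IsTabulated, List.mem_cons, List.not_mem_nil, or_false] at hD
  rcases hD with rfl | rfl | rfl | rfl | rfl | rfl | rfl <;> decide

/-- the Boolean checks at the `i`-th fundamental root -/
def simpleChk (D : ChevalleyDatum) (i : ℕ) : Bool := etaChk D i && conjChk D i

theorem simpleAll_of_chk {D : ChevalleyDatum} (hD : IsTabulated D) {i : ℕ} (hi : i < D.rank)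
    (h : simpleChk D i = true) : SimpleAll D i := by
  have hB := basicOK_of_tabulated hD
  have hF := fastOK_of_tabulated hD
  have hn := nroots_le_of_tabulated hD
  obtain ⟨hR, hS⟩ := nSimpleOK_of_tabulated hD i hi
  simp only [simpleChk, Bool.and_eq_true] at h
  have hE := etaOK_of_chk hB hF hn hS hR h.1
  exact ⟨hi, hS, hR, hE, conjOK_of_chk hB hF hn hS hR hE h.2⟩

end Cfsg.Agent.Helper6
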