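import Cfsg.Agent.Helper6.Chev.HConj
import Cfsg.Agent.Helper6.Chev.TablesFast

set_option autoImplicit false

namespace Cfsg.Agent.Helper6

open Cfsg.Lie

set_option maxRecDepth 100000 in
theorem addChk_G2 : (allLt chevG2.rank fun i => addChk chevG2 i) = true := by decide +kernel
set_option maxRecDepth 100000 in
theorem addChk_B2 : (allLt chevB2.rank fun i => addChk chevB2 i) = true := by decide +kernel
set_option maxRecDepth 100000 in
theorem addChk_D4 : (allLt chevD4.rank fun i => addChk chevD4 i) = true := by decide +kernel
set_option maxRecDepth 100000 in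
theorem addChk_F4 : (allLt chevF4.rank fun i => addChk chevF4 i) = true := by decide +kernel
set_option maxRecDepth 100000 in
theorem addChk_E6 : (allLt chevE6.rank fun i => addChk chevE6 i) = true := by decide +kernel
set_option maxRecDepth 100000 in
theorem addChk_E7 : (allLt chevE7.rank fun i => addChk chevE7 i) = true := by decide +kernel
set_option maxRecDepth 100000 in
theorem addChk_E8 : (allLt chevE8.rank fun i => addChk chevE8 i) = true := by decide +kernel

theorem addOK_of_tabulated {D : ChevalleyDatum} (hD : IsTabulated D) {i : ℕ} (hi : i < D.rank) :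
    AddOK D i := by
  refine addOK_of_chk (basicOK_of_tabulated hD) (fastOK_of_tabulated hD) hi ?_
  simp only [IsTabulated, List.mem_cons, List.not_mem_nil, or_false] at hD
  rcases hD with rfl | rfl | rfl | rfl | rfl | rfl | rfl
  · exact allLt_iff.1 addChk_G2 i hi
  · exact allLt_iff.1 addChk_B2 i hi
  · exact allLt_iff.1 addChk_D4 i hi
  · exact allLt_iff.1 addChk_F4 i hi
  · exact allLt_iff.1 addChk_E6 i hi
  · exact allLt_iff.1 addChk_E7 i hi
  · exact allLt_iff.1 addChk_E8 i hi

end Cfsg.Agent.Helper6
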