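import Cfsg.Agent.Helper6.Chev.TablesCommB2

set_option autoImplicit false

namespace Cfsg.Agent.Helper6

open Cfsg.Lie

set_option maxRecDepth 100000 in
theorem reach2ChkR_B2_0 : reach2ChkR chevB2 (ceLit chevB2 commPRow_B2) (wLit commW_B2 chevB2.nroots)
    (eLit commE_B2 chevB2.nroots) (depLit commDepRow_B2) commBases_B2 (8 * 0) 8 = true := by
  decide +kernel

end Cfsg.Agent.Helper6
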