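import Cfsg.Agent.Helper6.Chev.TablesCommB2

set_option autoImplicit false

namespace Cfsg.Agent.Helper6

open Cfsg.Lie

set_option maxRecDepth 100000 in
theorem litChkW_B2_0 : litChkW chevB2 commW_B2 commE_B2 0 = true := by decide +kernel

set_option maxRecDepth 100000 in
theorem litChkW_B2_1 : litChkW chevB2 commW_B2 commE_B2 1 = true := by decide +kernel

theorem litChkW_B2 : ∀ i < chevB2.rank, litChkW chevB2 commW_B2 commE_B2 i = true := by
  intro i hi
  change i < 2 at hi
  interval_cases i
  · exact litChkW_B2_0
  · exact litChkW_B2_1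

end Cfsg.Agent.Helper6
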