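import Cfsg.Agent.Helper6.Chev.TablesCommD4

set_option autoImplicit false

namespace Cfsg.Agent.Helper6

open Cfsg.Lie

set_option maxRecDepth 100000 in
theorem reach2ChkR_D4_0 : reach2ChkR chevD4 (ceLit chevD4 commPRow_D4) (wLit commW_D4 chevD4.nroots)
    (eLit commE_D4 chevD4.nroots) (depLit commDepRow_D4) commBases_D4 (24 * 0) 24 = true := by
  decide +kernel

end Cfsg.Agent.Helper6
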