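import Cfsg.Agent.Helper6.Chev.TablesCommE6

set_option autoImplicit false

namespace Cfsg.Agent.Helper6

open Cfsg.Lie

set_option maxRecDepth 100000 in
theorem reach2ChkR_E6_0 : reach2ChkR chevE6 (ceLit chevE6 commPRow_E6) (wLit commW_E6 chevE6.nroots)
    (eLit commE_E6 chevE6.nroots) (depLit commDepRow_E6) commBases_E6 (36 * 0) 36 = true := by
  decide +kernel

set_option maxRecDepth 100000 in
theorem reach2ChkR_E6_1 : reach2ChkR chevE6 (ceLit chevE6 commPRow_E6) (wLit commW_E6 chevE6.nroots)
    (eLit commE_E6 chevE6.nroots) (depLit commDepRow_E6) commBases_E6 (36 * 1) 36 = true := by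
  decide +kernel

end Cfsg.Agent.Helper6
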