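import Cfsg.Agent.Helper6.Chev.TablesCommE6

set_option autoImplicit false

namespace Cfsg.Agent.Helper6

open Cfsg.Lie

set_option maxRecDepth 100000 in
theorem litChkW_E6_0 : litChkW chevE6 commW_E6 commE_E6 0 = true := by decide +kernel

set_option maxRecDepth 100000 in
theorem litChkW_E6_1 : litChkW chevE6 commW_E6 commE_E6 1 = true := by decide +kernel

set_option maxRecDepth 100000 in
theorem litChkW_E6_2 : litChkW chevE6 commW_E6 commE_E6 2 = true := by decide +kernel

set_option maxRecDepth 100000 in
theorem litChkW_E6_3 : litChkW chevE6 commW_E6 commE_E6 3 = true := by decide +kernel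

set_option maxRecDepth 100000 in
theorem litChkW_E6_4 : litChkW chevE6 commW_E6 commE_E6 4 = true := by decide +kernel

set_option maxRecDepth 100000 in
theorem litChkW_E6_5 : litChkW chevE6 commW_E6 commE_E6 5 = true := by decide +kernel

theorem litChkW_E6 : ∀ i < chevE6.rank, litChkW chevE6 commW_E6 commE_E6 i = true := by
  intro i hi
  change i < 6 at hi
  interval_cases i
  · exact litChkW_E6_0
  · exact litChkW_E6_1
  · exact litChkW_E6_2
  · exact litChkW_E6_3
  · exact litChkW_E6_4
  · exact litChkW_E6_5

end Cfsg.Agent.Helper6
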