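import Cfsg.Agent.Helper6.Chev.TablesCommE7

set_option autoImplicit false

namespace Cfsg.Agent.Helper6

open Cfsg.Lie

set_option maxRecDepth 100000 in
theorem reach2ChkR_E7_2 : reach2ChkR chevE7 (ceLit chevE7 commPRow_E7) (wLit commW_E7 chevE7.nroots)
    (eLit commE_E7 chevE7.nroots) (depLit commDepRow_E7) commBases_E7 (32 * 2) 32 = true := by
  decide +kernel

set_option maxRecDepth 100000 in
theorem reach2ChkR_E7_3 : reach2ChkR chevE7 (ceLit chevE7 commPRow_E7) (wLit commW_E7 chevE7.nroots)
    (eLit commE_E7 chevE7.nroots) (depLit commDepRow_E7) commBases_E7 (32 * 3) 32 = true := by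
  decide +kernel

end Cfsg.Agent.Helper6
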