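import Cfsg.Agent.Helper6.Chev.TablesCommE7

set_option autoImplicit false

namespace Cfsg.Agent.Helper6

open Cfsg.Lie

set_option maxRecDepth 100000 in
theorem litChkW_E7_0 : litChkW chevE7 commW_E7 commE_E7 0 = true := by decide +kernel

set_option maxRecDepth 100000 in
theorem litChkW_E7_1 : litChkW chevE7 commW_E7 commE_E7 1 = true := by decide +kernel

set_option maxRecDepth 100000 in
theorem litChkW_E7_2 : litChkW chevE7 commW_E7 commE_E7 2 = true := by decide +kernel

set_option maxRecDepth 100000 in
theorem litChkW_E7_3 : litChkW chevE7 commW_E7 commE_E7 3 = true := by decide +kernel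

set_option maxRecDepth 100000 in
theorem litChkW_E7_4 : litChkW chevE7 commW_E7 commE_E7 4 = true := by decide +kernel

set_option maxRecDepth 100000 in
theorem litChkW_E7_5 : litChkW chevE7 commW_E7 commE_E7 5 = true := by decide +kernel

set_option maxRecDepth 100000 in
theorem litChkW_E7_6 : litChkW chevE7 commW_E7 commE_E7 6 = true := by decide +kernel

theorem litChkW_E7 : ∀ i < chevE7.rank, litChkW chevE7 commW_E7 commE_E7 i = true := by
  intro i hi
  change i < 7 at hi
  interval_cases i
  · exact litChkW_E7_0
  · exact litChkW_E7_1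
  · exact litChkW_E7_2
  · exact litChkW_E7_3
  · exact litChkW_E7_4
  · exact litChkW_E7_5
  · exact litChkW_E7_6

end Cfsg.Agent.Helper6
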