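import Cfsg.Agent.Helper6.Chev.TablesCommE8

set_option autoImplicit false

namespace Cfsg.Agent.Helper6

open Cfsg.Lie

set_option maxRecDepth 100000 in
theorem reach2ChkR_E8_6 : reach2ChkR chevE8 (ceLit chevE8 commPRow_E8) (wLit commW_E8 chevE8.nroots)
    (eLit commE_E8 chevE8.nroots) (depLit commDepRow_E8) commBases_E8 (24 * 6) 24 = true := by
  decide +kernel

set_option maxRecDepth 100000 in
theorem reach2ChkR_E8_7 : reach2ChkR chevE8 (ceLit chevE8 commPRow_E8) (wLit commW_E8 chevE8.nroots)
    (eLit commE_E8 chevE8.nroots) (depLit commDepRow_E8) commBases_E8 (24 * 7) 24 = true := by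
  decide +kernel

end Cfsg.Agent.Helper6
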