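import Cfsg.Agent.Helper6.Chev.TablesCommE8

set_option autoImplicit false

namespace Cfsg.Agent.Helper6

open Cfsg.Lie

set_option maxRecDepth 100000 in
theorem litChkW_E8_0 : litChkW chevE8 commW_E8 commE_E8 0 = true := by decide +kernel

set_option maxRecDepth 100000 in
theorem litChkW_E8_1 : litChkW chevE8 commW_E8 commE_E8 1 = true := by decide +kernel

set_option maxRecDepth 100000 in
theorem litChkW_E8_2 : litChkW chevE8 commW_E8 commE_E8 2 = true := by decide +kernel

set_option maxRecDepth 100000 in
theorem litChkW_E8_3 : litChkW chevE8 commW_E8 commE_E8 3 = true := by decide +kernel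

set_option maxRecDepth 100000 in
theorem litChkW_E8_4 : litChkW chevE8 commW_E8 commE_E8 4 = true := by decide +kernel

set_option maxRecDepth 100000 in
theorem litChkW_E8_5 : litChkW chevE8 commW_E8 commE_E8 5 = true := by decide +kernel

set_option maxRecDepth 100000 in
theorem litChkW_E8_6 : litChkW chevE8 commW_E8 commE_E8 6 = true := by decide +kernel

set_option maxRecDepth 100000 in
theorem litChkW_E8_7 : litChkW chevE8 commW_E8 commE_E8 7 = true := by decide +kernel

theorem litChkW_E8 : ∀ i < chevE8.rank, litChkW chevE8 commW_E8 commE_E8 i = true := by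
  intro i hi
  change i < 8 at hi
  interval_cases i
  · exact litChkW_E8_0
  · exact litChkW_E8_1
  · exact litChkW_E8_2
  · exact litChkW_E8_3
  · exact litChkW_E8_4
  · exact litChkW_E8_5
  · exact litChkW_E8_6
  · exact litChkW_E8_7

end Cfsg.Agent.Helper6
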