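import Cfsg.Agent.Helper6.Chev.TablesCommF4

set_option autoImplicit false

namespace Cfsg.Agent.Helper6

open Cfsg.Lie

set_option maxRecDepth 100000 in
theorem reach2ChkR_F4_0 : reach2ChkR chevF4 (ceLit chevF4 commPRow_F4) (wLit commW_F4 chevF4.nroots)
    (eLit commE_F4 chevF4.nroots) (depLit commDepRow_F4) commBases_F4 (48 * 0) 48 = true := by
  decide +kernel

end Cfsg.Agent.Helper6
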