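import Cfsg.Agent.Helper6.Chev.TablesCommF4

set_option autoImplicit false

namespace Cfsg.Agent.Helper6

open Cfsg.Lie

set_option maxRecDepth 100000 in
theorem litChkW_F4_0 : litChkW chevF4 commW_F4 commE_F4 0 = true := by decide +kernel

set_option maxRecDepth 100000 in
theorem litChkW_F4_1 : litChkW chevF4 commW_F4 commE_F4 1 = true := by decide +kernel

set_option maxRecDepth 100000 in
theorem litChkW_F4_2 : litChkW chevF4 commW_F4 commE_F4 2 = true := by decide +kernel

set_option maxRecDepth 100000 in
theorem litChkW_F4_3 : litChkW chevF4 commW_F4 commE_F4 3 = true := by decide +kernel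

theorem litChkW_F4 : ∀ i < chevF4.rank, litChkW chevF4 commW_F4 commE_F4 i = true := by
  intro i hi
  change i < 4 at hi
  interval_cases i
  · exact litChkW_F4_0
  · exact litChkW_F4_1
  · exact litChkW_F4_2
  · exact litChkW_F4_3

end Cfsg.Agent.Helper6
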