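import Cfsg.Agent.Helper6.Chev.TablesFast

set_option autoImplicit false

namespace Cfsg.Agent.Helper6

open Cfsg.Lie

set_option maxRecDepth 100000 in
theorem simpleChk_E7 : (allLt chevE7.rank fun i => simpleChk chevE7 i) = true := by decide +kernel

end Cfsg.Agent.Helper6
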