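import Cfsg.Agent.Helper6.Chev.TablesConjS
import Cfsg.Agent.Helper6.Chev.TablesConjE7
import Cfsg.Agent.Helper6.Chev.TablesConjE8a
import Cfsg.Agent.Helper6.Chev.TablesConjE8b

set_option autoImplicit false

namespace Cfsg.Agent.Helper6

open Cfsg.Lie

theorem simpleChk_of_tabulated {D : ChevalleyDatum} (hD : IsTabulated D) :
    ∀ i < D.rank, simpleChk D i = true := by
  simp only [IsTabulated, List.mem_cons, List.not_mem_nil, or_false] at hD
  rcases hD with rfl | rfl | rfl | rfl | rfl | rfl | rfl
  · exact allLt_iff.1 simpleChk_G2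
  · exact allLt_iff.1 simpleChk_B2
  · exact allLt_iff.1 simpleChk_D4
  · exact allLt_iff.1 simpleChk_F4
  · exact allLt_iff.1 simpleChk_E6
  · exact allLt_iff.1 simpleChk_E7
  · intro i hi
    by_cases h : i < 4
    · exact allLt_iff.1 simpleChk_E8a i h
    · have := allLt_iff.1 simpleChk_E8b (i - 4) (by change i < 8 at hi; omega)
      rwa [Nat.sub_add_cancel (by omega)] at this

/-- all table facts at every fundamental root of a tabulated datum -/
theorem simpleAll_of_tabulated {D : ChevalleyDatum} (hD : IsTabulated D) {i : ℕ} (hi : i < D.rank) :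
    SimpleAll D i :=
  simpleAll_of_chk hD hi (simpleChk_of_tabulated hD i hi)

end Cfsg.Agent.Helper6
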