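import Cfsg.Agent.Helper6.Chev.TablesCommG2c0
import Cfsg.Agent.Helper6.Chev.TablesCommG2w
import Cfsg.Agent.Helper6.Chev.TablesCommB2c0
import Cfsg.Agent.Helper6.Chev.TablesCommB2w
import Cfsg.Agent.Helper6.Chev.TablesCommD4c0
import Cfsg.Agent.Helper6.Chev.TablesCommD4w
import Cfsg.Agent.Helper6.Chev.TablesCommF4c0
import Cfsg.Agent.Helper6.Chev.TablesCommF4w
import Cfsg.Agent.Helper6.Chev.TablesCommE6c0
import Cfsg.Agent.Helper6.Chev.TablesCommE6w
import Cfsg.Agent.Helper6.Chev.TablesCommE7c0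
import Cfsg.Agent.Helper6.Chev.TablesCommE7c1
import Cfsg.Agent.Helper6.Chev.TablesCommE7w
import Cfsg.Agent.Helper6.Chev.TablesCommE8c0
import Cfsg.Agent.Helper6.Chev.TablesCommE8c1
import Cfsg.Agent.Helper6.Chev.TablesCommE8c2
import Cfsg.Agent.Helper6.Chev.TablesCommE8c3
import Cfsg.Agent.Helper6.Chev.TablesCommE8c4
import Cfsg.Agent.Helper6.Chev.TablesCommE8w
import Cfsg.Agent.Helper6.Chev.TablesConj

set_option autoImplicit false

namespace Cfsg.Agent.Helper6

open Cfsg.Lie

theorem rowChk_G2 : ∀ r < chevG2.nroots, rowChkG chevG2 (ceLit chevG2 commPRow_G2)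
    (wLit commW_G2 chevG2.nroots) (eLit commE_G2 chevG2.nroots) (depLit commDepRow_G2) commBases_G2 r = true := by
  apply rowChk_of_chunks 12 1 (by decide)
  intro j hj
  interval_cases j
  · exact reach2ChkR_G2_0

theorem rowChk_B2 : ∀ r < chevB2.nroots, rowChkG chevB2 (ceLit chevB2 commPRow_B2)
    (wLit commW_B2 chevB2.nroots) (eLit commE_B2 chevB2.nroots) (depLit commDepRow_B2) commBases_B2 r = true := by
  apply rowChk_of_chunks 8 1 (by decide)
  intro j hj
  interval_cases j
  · exact reach2ChkR_B2_0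

theorem rowChk_D4 : ∀ r < chevD4.nroots, rowChkG chevD4 (ceLit chevD4 commPRow_D4)
    (wLit commW_D4 chevD4.nroots) (eLit commE_D4 chevD4.nroots) (depLit commDepRow_D4) commBases_D4 r = true := by
  apply rowChk_of_chunks 24 1 (by decide)
  intro j hj
  interval_cases j
  · exact reach2ChkR_D4_0

theorem rowChk_F4 : ∀ r < chevF4.nroots, rowChkG chevF4 (ceLit chevF4 commPRow_F4)
    (wLit commW_F4 chevF4.nroots) (eLit commE_F4 chevF4.nroots) (depLit commDepRow_F4) commBases_F4 r = true := by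
  apply rowChk_of_chunks 48 1 (by decide)
  intro j hj
  interval_cases j
  · exact reach2ChkR_F4_0

theorem rowChk_E6 : ∀ r < chevE6.nroots, rowChkG chevE6 (ceLit chevE6 commPRow_E6)
    (wLit commW_E6 chevE6.nroots) (eLit commE_E6 chevE6.nroots) (depLit commDepRow_E6) commBases_E6 r = true := by
  apply rowChk_of_chunks 36 2 (by decide)
  intro j hj
  interval_cases j
  · exact reach2ChkR_E6_0
  · exact reach2ChkR_E6_1

theorem rowChk_E7 : ∀ r < chevE7.nroots, rowChkG chevE7 (ceLit chevE7 commPRow_E7)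
    (wLit commW_E7 chevE7.nroots) (eLit commE_E7 chevE7.nroots) (depLit commDepRow_E7) commBases_E7 r = true := by
  apply rowChk_of_chunks 32 4 (by decide)
  intro j hj
  interval_cases j
  · exact reach2ChkR_E7_0
  · exact reach2ChkR_E7_1
  · exact reach2ChkR_E7_2
  · exact reach2ChkR_E7_3

theorem rowChk_E8 : ∀ r < chevE8.nroots, rowChkG chevE8 (ceLit chevE8 commPRow_E8)
    (wLit commW_E8 chevE8.nroots) (eLit commE_E8 chevE8.nroots) (depLit commDepRow_E8) commBases_E8 r = true := by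
  apply rowChk_of_chunks 24 10 (by decide)
  intro j hj
  interval_cases j
  · exact reach2ChkR_E8_0
  · exact reach2ChkR_E8_1
  · exact reach2ChkR_E8_2
  · exact reach2ChkR_E8_3
  · exact reach2ChkR_E8_4
  · exact reach2ChkR_E8_5
  · exact reach2ChkR_E8_6
  · exact reach2ChkR_E8_7
  · exact reach2ChkR_E8_8
  · exact reach2ChkR_E8_9

/-- Chevalley's commutator formula for every pair of independent roots of a tabulated datum -/
theorem commF_of_tabulated {D : ChevalleyDatum} {F : Type*} [Field F] (hD : IsTabulated D)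
    {r s : ℕ} (hr : r < D.nroots) (hs : s < D.nroots) (h1 : s ≠ r) (h2 : s ≠ D.neg r) :
    CommF D F r s := by
  have hB := basicOK_of_tabulated hD
  have hF := fastOK_of_tabulated hD
  have hn := nroots_le_of_tabulated hD
  have hA : ∀ i < D.rank, SimpleAll D i := fun i hi => simpleAll_of_tabulated hD hi
  have key : ∃ (P : ℕ → ℕ) (W E : ℕ) (dep : ℕ → ℕ → ℕ) (bases : List (ℕ × ℕ)), litChkC D P = true ∧ (∀ i < D.rank, litChkW D W E i = true) ∧
      (∀ r < D.nroots, rowChkG D (ceLit D P) (wLit W D.nroots) (eLit E D.nroots) dep bases r = true) ∧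
      basesChk D bases = true := by
    simp only [IsTabulated, List.mem_cons, List.not_mem_nil, or_false] at hD
    rcases hD with rfl | rfl | rfl | rfl | rfl | rfl | rfl
    · exact ⟨_, _, _, _, _, litChkC_G2, litChkW_G2, rowChk_G2, basesChk_G2⟩
    · exact ⟨_, _, _, _, _, litChkC_B2, litChkW_B2, rowChk_B2, basesChk_B2⟩
    · exact ⟨_, _, _, _, _, litChkC_D4, litChkW_D4, rowChk_D4, basesChk_D4⟩
    · exact ⟨_, _, _, _, _, litChkC_F4, litChkW_F4, rowChk_F4, basesChk_F4⟩
    · exact ⟨_, _, _, _, _, litChkC_E6, litChkW_E6, rowChk_E6, basesChk_E6⟩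
    · exact ⟨_, _, _, _, _, litChkC_E7, litChkW_E7, rowChk_E7, basesChk_E7⟩
    · exact ⟨_, _, _, _, _, litChkC_E8, litChkW_E8, rowChk_E8, basesChk_E8⟩
  obtain ⟨P, W, E, dep, bases, k0, k0', k1, k2⟩ := key
  exact commF_of_litChk hB hF hn hA k0 k0' k1 (commF_of_basesChk hB hF k2) r hr s hs h1 h2

end Cfsg.Agent.Helper6
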