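import Cfsg.Agent.Helper6.Chev.RadSimple
import Cfsg.Agent.Helper6.Chev.TablesFast

set_option autoImplicit false

namespace Cfsg.Agent.Helper6

open Cfsg.Lie

/-- the fundamental roots lie in the upper half and the commutator terms of `±p_i` with the other
roots of the upper half stay there, away from `p_i` -/
def radAllChk (D : ChevalleyDatum) : Bool :=
  allLt D.rank fun i => Nat.ble (D.nroots / 2) (D.simple i) && radChk D (D.nroots / 2) i

set_option maxRecDepth 100000 in
theorem radAllChk_of_tabulated {D : ChevalleyDatum} (hD : IsTabulated D) : radAllChk D = true := by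
  simp only [IsTabulated, List.mem_cons, List.not_mem_nil, or_false] at hD
  rcases hD with rfl | rfl | rfl | rfl | rfl | rfl | rfl <;> decide +kernel

theorem rad_of_tabulated {D : ChevalleyDatum} (hD : IsTabulated D) {i : ℕ} (hi : i < D.rank) :
    D.nroots / 2 ≤ D.simple i ∧ radChk D (D.nroots / 2) i = true := by
  have := radAllChk_of_tabulated hD
  simp only [radAllChk, allLt_iff, Bool.and_eq_true, Nat.ble_eq] at this
  exact this i hi

end Cfsg.Agent.Helper6
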