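import Cfsg.Agent.Helper6.Chev.Reach
import Cfsg.Agent.Helper6.Chev.TablesConj

set_option autoImplicit false

namespace Cfsg.Agent.Helper6

open Cfsg.Lie

set_option maxRecDepth 100000 in
theorem reachChk_G2 : reachChk chevG2 = true := by decide +kernel
set_option maxRecDepth 100000 in
theorem reachChk_B2 : reachChk chevB2 = true := by decide +kernel
set_option maxRecDepth 100000 in
theorem reachChk_D4 : reachChk chevD4 = true := by decide +kernel
set_option maxRecDepth 100000 in
theorem reachChk_F4 : reachChk chevF4 = true := by decide +kernel
set_option maxRecDepth 100000 in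
theorem reachChk_E6 : reachChk chevE6 = true := by decide +kernel
set_option maxRecDepth 100000 in
theorem reachChk_E7 : reachChk chevE7 = true := by decide +kernel
set_option maxRecDepth 100000 in
theorem reachChk_E8 : reachChk chevE8 = true := by decide +kernel

/-- every root of a tabulated datum is reachable -/
theorem reach_of_tabulated {D : ChevalleyDatum} (hD : IsTabulated D) {r : ℕ} (hr : r < D.nroots) :
    Reach D r := by
  refine reach_of_chk (basicOK_of_tabulated hD) (fastOK_of_tabulated hD)
    (nroots_le_of_tabulated hD) (fun i hi => simpleAll_of_tabulated hD hi) ?_ r hr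
  simp only [IsTabulated, List.mem_cons, List.not_mem_nil, or_false] at hD
  rcases hD with rfl | rfl | rfl | rfl | rfl | rfl | rfl
  · exact reachChk_G2
  · exact reachChk_B2
  · exact reachChk_D4
  · exact reachChk_F4
  · exact reachChk_E6
  · exact reachChk_E7
  · exact reachChk_E8

/-- `h_r(c)` is diagonal, for every root of a tabulated datum -/
theorem hDiag_of_tabulated {D : ChevalleyDatum} {F : Type*} [Field F] (hD : IsTabulated D) {r : ℕ}
    (hr : r < D.nroots) : HDiag D F r (aOf D r) :=
  hDiag_of_reach (basicOK_of_tabulated hD) (fun i hi => simpleAll_of_tabulated hD hi)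
    (reach_of_tabulated hD hr)

end Cfsg.Agent.Helper6
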