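import Cfsg.Agent.Helper6.Chev.Longest
import Cfsg.Agent.Helper6.Chev.TablesReach

set_option autoImplicit false

namespace Cfsg.Agent.Helper6

open Cfsg.Lie

/-- a reduced word for the longest element of the Weyl group -/
def w0Word (D : ChevalleyDatum) : List ℕ :=
  if D.nroots = 12 then [0, 1, 0, 1, 0, 1]
  else if D.nroots = 8 then [0, 1, 0, 1]
  else if D.nroots = 24 then [0, 1, 0, 2, 1, 0, 3, 1, 0, 2, 1, 3]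
  else if D.nroots = 48 then
    [0, 1, 0, 2, 1, 0, 2, 1, 2, 3, 2, 1, 0, 2, 1, 2, 3, 2, 1, 0, 2, 1, 2, 3]
  else if D.nroots = 72 then
    [0, 1, 2, 0, 3, 1, 2, 0, 3, 2, 4, 3, 1, 2, 0, 3, 2, 4, 3, 1, 5, 4, 3, 1, 2, 0, 3, 2, 4, 3, 1, 5,
      4, 3, 2, 0]
  else if D.nroots = 126 then
    [0, 1, 2, 0, 3, 1, 2, 0, 3, 2, 4, 3, 1, 2, 0, 3, 2, 4, 3, 1, 5, 4, 3, 1, 2, 0, 3, 2, 4, 3, 1, 5,
      4, 3, 2, 0, 6, 5, 4, 3, 1, 2, 0, 3, 2, 4, 3, 1, 5, 4, 3, 2, 0, 6, 5, 4, 3, 1, 2, 3, 4, 5, 6]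
  else
    [0, 1, 2, 0, 3, 1, 2, 0, 3, 2, 4, 3, 1, 2, 0, 3, 2, 4, 3, 1, 5, 4, 3, 1, 2, 0, 3, 2, 4, 3, 1, 5,
      4, 3, 2, 0, 6, 5, 4, 3, 1, 2, 0, 3, 2, 4, 3, 1, 5, 4, 3, 2, 0, 6, 5, 4, 3, 1, 2, 3, 4, 5, 6, 7,
      6, 5, 4, 3, 1, 2, 0, 3, 2, 4, 3, 1, 5, 4, 3, 2, 0, 6, 5, 4, 3, 1, 2, 3, 4, 5, 6, 7, 6, 5, 4, 3,
      1, 2, 0, 3, 2, 4, 3, 1, 5, 4, 3, 2, 0, 6, 5, 4, 3, 1, 2, 3, 4, 5, 6, 7]

set_option maxRecDepth 100000 in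
theorem w0Chk_of_tabulated {D : ChevalleyDatum} (hD : IsTabulated D) :
    w0Chk D (D.nroots / 2) (w0Word D) = true := by
  simp only [IsTabulated, List.mem_cons, List.not_mem_nil, or_false] at hD
  rcases hD with rfl | rfl | rfl | rfl | rfl | rfl | rfl <;> decide +kernel

set_option maxRecDepth 100000 in
theorem sign_iff_of_tabulated {D : ChevalleyDatum} (hD : IsTabulated D) :
    ∀ r < D.nroots, (D.IsPosRoot r ↔ D.nroots / 2 ≤ r) ∧ (D.IsNegRoot r ↔ r < D.nroots / 2) := by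
  simp only [IsTabulated, List.mem_cons, List.not_mem_nil, or_false] at hD
  rcases hD with rfl | rfl | rfl | rfl | rfl | rfl | rfl <;> decide +kernel

end Cfsg.Agent.Helper6
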