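import Cfsg.Agent.Helper6.Chev.BNPairDef
import Cfsg.Agent.Helper6.Chev.TablesRad
import Cfsg.Agent.Helper6.Chev.TablesComm
import Cfsg.Agent.Helper6.Chev.TablesOrd
import Cfsg.Agent.Helper6.Chev.TablesW0
import Cfsg.Agent.Helper6.Chev.TablesAddC

set_option autoImplicit false

namespace Cfsg.Agent.Helper6

open Cfsg.Lie

set_option maxRecDepth 100000 in
theorem wposChk_of_tabulated {D : ChevalleyDatum} (hD : IsTabulated D) :
    (allLt D.rank fun i => wposChk D (D.nroots / 2) i) = true := by
  simp only [IsTabulated, List.mem_cons, List.not_mem_nil, or_false] at hD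
  rcases hD with rfl | rfl | rfl | rfl | rfl | rfl | rfl <;> decide +kernel

/-- all the facts needed for the `(B, N)`-pair, for a tabulated datum -/
theorem bnData_of_tabulated {D : ChevalleyDatum} (F : Type*) [Field F] (hD : IsTabulated D) :
    BNData D F where
  hB := basicOK_of_tabulated hD
  hF := fastOK_of_tabulated hD
  hn := nroots_le_of_tabulated hD
  hAll := fun i hi => simpleAll_of_tabulated hD hi
  hAdd := fun i hi => addOK_of_tabulated hD hi
  hH := fun r hr => hDiag_of_tabulated hD hr
  hReach := fun r hr => reach_of_tabulated hD hr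
  hR := fun i hi => (rad_of_tabulated hD hi).2
  hWp := fun i hi => allLt_iff.1 (wposChk_of_tabulated hD) i hi
  hC := fun r hr s hs e1 e2 => commF_of_tabulated hD hr hs e1 e2
  hsign := sign_iff_of_tabulated hD
  hpN := fun i hi => (rad_of_tabulated hD hi).1
  even := (ordOK_of_tabulated hD).even
  good := Chev.good_of_mem hD
  good2 := Chev.good2_of_mem hD

end Cfsg.Agent.Helper6
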