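import Mathlib
import Cfsg.Agent.Helper6.Chev.UProd

set_option autoImplicit false
set_option linter.unusedSectionVars false
set_option linter.unusedSimpArgs false
set_option linter.unusedVariables false

/-!
The subgroup `U_p = ⟨X_s : s > 0, s ≠ p⟩` for a fundamental root `p` is normalised by `X_p` and
`X_{-p}`.
-/

namespace Cfsg.Agent.Helper6

open Cfsg.Lie

variable {D : ChevalleyDatum} {F : Type*} [Field F]

/-- the subgroup generated by the positive root elements other than those of the root `p` -/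
def Uexc (D : ChevalleyDatum) (F : Type*) [Field F] (p : ℕ) : Subgroup (GL D.Idx F) :=
  Subgroup.closure {g | ∃ (s : ℕ) (t : F), D.IsPosRoot s ∧ s ≠ p ∧
    (g : Matrix D.Idx D.Idx F) = D.x F s t}

/-- all commutator terms of `±p_i` with a root `s ≠ p_i` of the upper half lie in the upper half
and differ from `p_i` -/
def radChk (D : ChevalleyDatum) (N i : ℕ) : Bool :=
  allLt D.nroots fun s => Nat.blt s N || Nat.beq s (D.simple i) ||
    (allL (commTermsG (ceF D) (D.simple i) s) fun c =>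
      Nat.ble N c.1 && Nat.blt c.1 D.nroots && !Nat.beq c.1 (D.simple i)) &&
    (allL (commTermsG (ceF D) (negF D (D.simple i)) s) fun c =>
      Nat.ble N c.1 && Nat.blt c.1 D.nroots && !Nat.beq c.1 (D.simple i))

section main

variable (hB : BasicOK D) (hF : FastOK D) {N i : ℕ} (hR : radChk D N i = true)
  (hC : ∀ r < D.nroots, ∀ s < D.nroots, s ≠ r → s ≠ D.neg r → CommF D F r s)
  (hsign : ∀ r < D.nroots, (D.IsPosRoot r ↔ N ≤ r))
  (hp : D.simple i < D.nroots) (hpN : N ≤ D.simple i) (hnp : D.neg (D.simple i) < N)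
include hB hF hR hC hsign hp hpN hnp

theorem radChk_spec {s : ℕ} (hs : s < D.nroots) (hsN : N ≤ s) (hsp : s ≠ D.simple i) :
    (∀ c ∈ D.commTerms (D.simple i) s, D.IsPosRoot c.1 ∧ c.1 ≠ D.simple i) ∧
    (∀ c ∈ D.commTerms (D.neg (D.simple i)) s, D.IsPosRoot c.1 ∧ c.1 ≠ D.simple i) := by
  simp only [radChk, allLt_iff, Bool.or_eq_true, Bool.and_eq_true, Nat.blt_eq, Nat.beq_eq,
    Nat.ble_eq, allL_iff, Bool.not_eq_true'] at hR
  rcases hR s hs with (h1 | h1) | h1
  · omega
  · exact absurd h1 hsp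
  · rw [ceF_eq hF.keys hF.chk, negF_eq hF.chk, commTermsG_eq] at h1
    constructor
    · intro c hc
      obtain ⟨⟨a1, a2⟩, a3⟩ := h1.1 c hc
      exact ⟨(hsign _ a2).2 a1, Nat.ne_of_beq_eq_false a3⟩
    · intro c hc
      obtain ⟨⟨a1, a2⟩, a3⟩ := h1.2 c hc
      exact ⟨(hsign _ a2).2 a1, Nat.ne_of_beq_eq_false a3⟩

/-- conjugation by `x_{±p}(t)` maps the generators of `U_p` into `U_p` -/
theorem conj_gen_mem_Uexc {q : ℕ} (hq : q = D.simple i ∨ q = D.neg (D.simple i)) (t : F)
    {s : ℕ} (hs : D.IsPosRoot s) (hsp : s ≠ D.simple i) (u : F) :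
    xU hB q t * xU hB s u * (xU hB q t)⁻¹ ∈ Uexc D F (D.simple i) := by
  have hsN : N ≤ s := (hsign s hs.1).1 hs
  have hqlt : q < D.nroots := by
    rcases hq with rfl | rfl
    · exact hp
    · exact (hB.neg _ hp).1
  have hnn : D.neg (D.neg (D.simple i)) = D.simple i := (hB.neg _ hp).2.2
  have hne1 : s ≠ q := by
    rcases hq with rfl | rfl
    · exact hsp
    · omega
  have hne2 : s ≠ D.neg q := by
    rcases hq with rfl | rfl
    · omega
    · rw [hnn]; exact hsp
  have hterms : ∀ c ∈ D.commTerms q s, D.IsPosRoot c.1 ∧ c.1 ≠ D.simple i := by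
    have := radChk_spec hB hF hR hC hsign hp hpN hnp hs.1 hsN hsp
    rcases hq with rfl | rfl
    · exact this.1
    · exact this.2
  have hcomm := hC q hqlt s hs.1 hne1 hne2 (-t) u
  have e : xU hB q t * xU hB s u * (xU hB q t)⁻¹ =
      xU hB s u * wordU hB (D.commWord F q s (-t) u) := by
    rw [xU_inv]
    apply Units.ext
    simp only [Units.val_mul, xU_val, wordU_val]
    rw [mul_assoc, hcomm, ← mul_assoc, ← mul_assoc, x_mul_neg hB, one_mul]
  rw [e]
  apply Subgroup.mul_mem
  · exact Subgroup.subset_closure ⟨s, u, hs, hsp, rfl⟩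
  · unfold wordU
    apply Subgroup.list_prod_mem
    intro g hg
    simp only [List.mem_map] at hg
    obtain ⟨p', hp', rfl⟩ := hg
    unfold ChevalleyDatum.commWord at hp'
    rw [List.mem_map] at hp'
    obtain ⟨c, hc, rfl⟩ := hp'
    exact Subgroup.subset_closure ⟨c.1, _, (hterms c hc).1, (hterms c hc).2, rfl⟩

theorem conj_mem_Uexc {q : ℕ} (hq : q = D.simple i ∨ q = D.neg (D.simple i)) (t : F)
    {g : GL D.Idx F} (hg : g ∈ Uexc D F (D.simple i)) :
    xU hB q t * g * (xU hB q t)⁻¹ ∈ Uexc D F (D.simple i) := by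
  unfold Uexc at hg
  induction hg using Subgroup.closure_induction with
  | mem g hg =>
    obtain ⟨s, u, h1, h2, h3⟩ := hg
    have : g = xU hB s u := Units.ext (by rw [h3, xU_val])
    rw [this]
    exact conj_gen_mem_Uexc hB hF hR hC hsign hp hpN hnp hq t h1 h2 u
  | one => simp
  | mul g₁ g₂ _ _ ih₁ ih₂ =>
    have : xU hB q t * (g₁ * g₂) * (xU hB q t)⁻¹ =
        (xU hB q t * g₁ * (xU hB q t)⁻¹) * (xU hB q t * g₂ * (xU hB q t)⁻¹) := by group
    rw [this]
    exact Subgroup.mul_mem _ ih₁ ih₂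
  | inv g _ ih =>
    have : xU hB q t * g⁻¹ * (xU hB q t)⁻¹ = (xU hB q t * g * (xU hB q t)⁻¹)⁻¹ := by group
    rw [this]
    exact Subgroup.inv_mem _ ih

/-- `x_{±p}(t)` normalises `U_p` -/
theorem xU_mem_normalizer_Uexc {q : ℕ} (hq : q = D.simple i ∨ q = D.neg (D.simple i)) (t : F) :
    xU hB q t ∈ Subgroup.normalizer (Uexc D F (D.simple i) : Set (GL D.Idx F)) := by
  rw [Subgroup.mem_normalizer_iff]
  intro g
  constructor
  · exact conj_mem_Uexc hB hF hR hC hsign hp hpN hnp hq t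
  · intro hg
    have := conj_mem_Uexc hB hF hR hC hsign hp hpN hnp hq (-t) hg
    rw [← xU_inv] at this
    have e : (xU hB q t)⁻¹ * (xU hB q t * g * (xU hB q t)⁻¹) * (xU hB q t)⁻¹⁻¹ = g := by group
    rwa [e] at this

/-- `⟨X_p, X_{-p}⟩` normalises `U_p` -/
theorem rootSubgroup_sup_le_normalizer_Uexc :
    D.rootSubgroup F (D.simple i) ⊔ D.rootSubgroup F (D.neg (D.simple i)) ≤
      Subgroup.normalizer (Uexc D F (D.simple i) : Set (GL D.Idx F)) := by
  apply sup_le
  · unfold ChevalleyDatum.rootSubgroup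
    rw [Subgroup.closure_le]
    rintro g ⟨t, hg⟩
    have : g = xU hB (D.simple i) t := Units.ext (by rw [hg, xU_val])
    rw [this]
    exact xU_mem_normalizer_Uexc hB hF hR hC hsign hp hpN hnp (Or.inl rfl) t
  · unfold ChevalleyDatum.rootSubgroup
    rw [Subgroup.closure_le]
    rintro g ⟨t, hg⟩
    have : g = xU hB (D.neg (D.simple i)) t := Units.ext (by rw [hg, xU_val])
    rw [this]
    exact xU_mem_normalizer_Uexc hB hF hR hC hsign hp hpN hnp (Or.inr rfl) t

omit hB hF hR hC hnp in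
/-- `U_p X_p = U` -/
theorem Uexc_sup_rootSubgroup :
    Uexc D F (D.simple i) ⊔ D.rootSubgroup F (D.simple i) = D.posUnipotent F := by
  apply le_antisymm
  · apply sup_le
    · unfold Uexc ChevalleyDatum.posUnipotent
      apply Subgroup.closure_mono
      rintro g ⟨s, t, h1, _, h3⟩
      exact ⟨s, t, h1, h3⟩
    · unfold ChevalleyDatum.rootSubgroup ChevalleyDatum.posUnipotent
      apply Subgroup.closure_mono
      rintro g ⟨t, h3⟩
      exact ⟨D.simple i, t, (hsign _ hp).2 hpN, h3⟩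
  · unfold ChevalleyDatum.posUnipotent
    rw [Subgroup.closure_le]
    rintro g ⟨s, t, h1, h3⟩
    by_cases hs : s = D.simple i
    · apply Subgroup.mem_sup_right
      apply Subgroup.subset_closure
      exact ⟨t, by rw [h3, hs]⟩
    · apply Subgroup.mem_sup_left
      apply Subgroup.subset_closure
      exact ⟨s, t, h1, hs, h3⟩

end main

end Cfsg.Agent.Helper6
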