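import Mathlib
import Cfsg.Agent.Helper6.Chev.Mono
import Cfsg.Agent.Helper6.Chev.Longest

set_option autoImplicit false
set_option linter.unusedSectionVars false
set_option linter.unusedSimpArgs false
set_option linter.unusedVariables false

/-!
Elements of `N` permute the root subgroups.
-/

namespace Cfsg.Agent.Helper6

open Cfsg.Lie

variable {D : ChevalleyDatum} {F : Type*} [Field F]

/-- conjugation by `g` permutes the root elements, compatibly with `r ↦ -r` -/
def RootPermP (hB : BasicOK D) (g : GL D.Idx F) : Prop :=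
  ∃ σ : ℕ → ℕ, ∃ c : ℕ → F, ∀ r < D.nroots, σ r < D.nroots ∧ σ (D.neg r) = D.neg (σ r) ∧
    ∀ t : F, g * xU hB r t * g⁻¹ = xU hB (σ r) (c r * t)

theorem RootPermP.one (hB : BasicOK D) : RootPermP hB (1 : GL D.Idx F) :=
  ⟨id, fun _ => 1, fun r hr => ⟨hr, rfl, fun t => by simp⟩⟩

theorem RootPermP.mul (hB : BasicOK D) {g h : GL D.Idx F} (hg : RootPermP hB g)
    (hh : RootPermP hB h) : RootPermP hB (g * h) := by
  obtain ⟨σ, c, h1⟩ := hg
  obtain ⟨τ, d, h2⟩ := hh
  refine ⟨fun r => σ (τ r), fun r => c (τ r) * d r, fun r hr => ?_⟩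
  obtain ⟨a1, a2, a3⟩ := h2 r hr
  obtain ⟨b1, b2, b3⟩ := h1 (τ r) a1
  refine ⟨b1, ?_, ?_⟩
  · simp only [a2, b2]
  · intro t
    have : g * h * xU hB r t * (g * h)⁻¹ = g * (h * xU hB r t * h⁻¹) * g⁻¹ := by group
    rw [this, a3, b3, mul_assoc]

/-- the subgroup of the units that permute the root elements together with their inverses -/
def RootPermSub (hB : BasicOK D) (F : Type*) [Field F] : Subgroup (GL D.Idx F) where
  carrier := {g | RootPermP hB g ∧ RootPermP hB g⁻¹}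
  one_mem' := ⟨RootPermP.one hB, by rw [inv_one]; exact RootPermP.one hB⟩
  mul_mem' := by
    rintro g h ⟨hg1, hg2⟩ ⟨hh1, hh2⟩
    exact ⟨hg1.mul hB hh1, by rw [_root_.mul_inv_rev]; exact hh2.mul hB hg2⟩
  inv_mem' := by
    rintro g ⟨hg1, hg2⟩
    exact ⟨hg2, by rw [inv_inv]; exact hg1⟩

theorem rootPermP_of_mem_diagonal (hB : BasicOK D) (hAdd : ∀ i < D.rank, AddOK D i)
    (hH : ∀ r < D.nroots, HDiag D F r (aOf D r)) {h : GL D.Idx F} (hh : h ∈ D.diagonalSubgroup F) :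
    RootPermP hB h := by
  obtain ⟨c, hc, hv⟩ := exists_torMat_of_mem_diagonal hB hH hh
  refine ⟨id, torChar D c, fun r hr => ⟨hr, rfl, fun t => ?_⟩⟩
  rw [mul_inv_eq_iff_eq_mul]
  apply Units.ext
  rw [Units.val_mul, Units.val_mul, hv, xU_val]
  exact torMat_mul_x hB hAdd hc hr t

theorem diagonal_le_rootPermSub (hB : BasicOK D) (hAdd : ∀ i < D.rank, AddOK D i)
    (hH : ∀ r < D.nroots, HDiag D F r (aOf D r)) : D.diagonalSubgroup F ≤ RootPermSub hB F :=
  fun h hh => ⟨rootPermP_of_mem_diagonal hB hAdd hH hh,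
    rootPermP_of_mem_diagonal hB hAdd hH (Subgroup.inv_mem _ hh)⟩

theorem nU_simple_mem_rootPermSub (hB : BasicOK D) {i : ℕ} (hA : SimpleAll D i) :
    nU hB (D.simple i) (one_ne_zero (α := F)) ∈ RootPermSub hB F := by
  refine ⟨⟨wR D (D.simple i), fun r => ((etaR D (D.simple i) r : ℤ) : F), fun r hr => ⟨?_, ?_, ?_⟩⟩,
    ⟨wR D (D.simple i), fun r => ((etaR D (D.simple i) (wR D (D.simple i) r) : ℤ) : F),
      fun r hr => ⟨?_, ?_, ?_⟩⟩⟩
  · exact wR_lt hB hA.hS.1 hA.hR hr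
  · exact hA.hC.negw r hr
  · intro t; exact nU_conj_xU hB hA hr t
  · exact wR_lt hB hA.hS.1 hA.hR hr
  · exact hA.hC.negw r hr
  · intro t
    rw [inv_inv]
    exact nU_inv_conj_xU hB hA hr t

theorem monomial_le_rootPermSub (hB : BasicOK D) (hAll : ∀ i < D.rank, SimpleAll D i)
    (hAdd : ∀ i < D.rank, AddOK D i) (hH : ∀ r < D.nroots, HDiag D F r (aOf D r))
    (hReach : ∀ r < D.nroots, Reach D r) : D.monomialSubgroup F ≤ RootPermSub hB F :=
  monomial_le_of hB hAll hReach _ (diagonal_le_rootPermSub hB hAdd hH)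
    (fun i hi => nU_simple_mem_rootPermSub hB (hAll i hi))

/-- the elements of a root subgroup -/
theorem mem_rootSubgroup_iff (hB : BasicOK D) {r : ℕ} {g : GL D.Idx F} :
    g ∈ D.rootSubgroup F r ↔ ∃ t : F, g = xU hB r t := by
  constructor
  · intro hg
    unfold ChevalleyDatum.rootSubgroup at hg
    induction hg using Subgroup.closure_induction with
    | mem g hg =>
      obtain ⟨t, ht⟩ := hg
      exact ⟨t, Units.ext (by rw [ht, xU_val])⟩
    | one => exact ⟨0, by apply Units.ext; rw [xU_val, x_zero, Units.val_one]⟩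
    | mul g₁ g₂ _ _ ih₁ ih₂ =>
      obtain ⟨t₁, rfl⟩ := ih₁
      obtain ⟨t₂, rfl⟩ := ih₂
      refine ⟨t₁ + t₂, ?_⟩
      apply Units.ext
      rw [Units.val_mul, xU_val, xU_val, xU_val, x_add hB.neg hB.keys hB.chain hB.coroot]
    | inv g _ ih =>
      obtain ⟨t, rfl⟩ := ih
      exact ⟨-t, Units.ext rfl⟩
  · rintro ⟨t, rfl⟩
    exact Subgroup.subset_closure ⟨t, rfl⟩

end Cfsg.Agent.Helper6
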