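import Mathlib
import Cfsg.Agent.Helper6.Chev.RootPerm
import Cfsg.Agent.Helper6.Chev.RadSimple

set_option autoImplicit false
set_option linter.unusedSectionVars false
set_option linter.unusedSimpArgs false
set_option linter.unusedVariables false

/-!
The double coset condition `s B n ⊆ B s n B ∪ B n B` for a fundamental reflection `s`.
-/

namespace Cfsg.Agent.Helper6

open Cfsg.Lie

variable {D : ChevalleyDatum} {F : Type*} [Field F]

/-- the `i`-th fundamental reflection permutes the roots of the upper half other than `p_i` -/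
def wposChk (D : ChevalleyDatum) (N i : ℕ) : Bool :=
  allLt D.nroots fun s => Nat.blt s N || Nat.beq s (D.simple i) ||
    (Nat.ble N (wD D i s) && !Nat.beq (wD D i s) (D.simple i))

section main

variable (hB : BasicOK D) (hF : FastOK D) (hn : D.nroots ≤ 256)
  (hAll : ∀ i < D.rank, SimpleAll D i) (hAdd : ∀ i < D.rank, AddOK D i)
  (hH : ∀ r < D.nroots, HDiag D F r (aOf D r)) (hReach : ∀ r < D.nroots, Reach D r)
  {N i : ℕ} (hi : i < D.rank) (hR : radChk D N i = true) (hWp : wposChk D N i = true)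
  (hC : ∀ r < D.nroots, ∀ s < D.nroots, s ≠ r → s ≠ D.neg r → CommF D F r s)
  (hsign : ∀ r < D.nroots, (D.IsPosRoot r ↔ N ≤ r))
  (hpN : N ≤ D.simple i) (hnp : D.neg (D.simple i) < N)
include hB hF hn hAll hAdd hH hReach hi hR hWp hC hsign hpN hnp

theorem wpos_spec {s : ℕ} (hs : D.IsPosRoot s) (hsp : s ≠ D.simple i) :
    D.IsPosRoot (wR D (D.simple i) s) ∧ wR D (D.simple i) s ≠ D.simple i := by
  have hA := hAll i hi
  have hsN := (hsign s hs.1).1 hs
  simp only [wposChk, allLt_iff, Bool.or_eq_true, Bool.and_eq_true, Nat.blt_eq, Nat.beq_eq,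
    Nat.ble_eq, Bool.not_eq_true'] at hWp
  rcases hWp s hs.1 with (h1 | h1) | h1
  · omega
  · exact absurd h1 hsp
  · rw [wD_eq hF hn (fun s hs => wR_lt hB hA.hS.1 hA.hR hs) hs.1] at h1
    exact ⟨(hsign _ (wR_lt hB hA.hS.1 hA.hR hs.1)).2 h1.1, Nat.ne_of_beq_eq_false h1.2⟩

/-- `n_p` normalises `U_p` -/
theorem nU_conj_mem_Uexc {v : GL D.Idx F} (hv : v ∈ Uexc D F (D.simple i)) :
    nU hB (D.simple i) (one_ne_zero (α := F)) * v * (nU hB (D.simple i) (one_ne_zero (α := F)))⁻¹ ∈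
      Uexc D F (D.simple i) := by
  have hA := hAll i hi
  unfold Uexc at hv
  induction hv using Subgroup.closure_induction with
  | mem g hg =>
    obtain ⟨s, u, h1, h2, h3⟩ := hg
    have : g = xU hB s u := Units.ext (by rw [h3, xU_val])
    rw [this, nU_conj_xU hB hA h1.1]
    have := wpos_spec hB hF hn hAll hAdd hH hReach hi hR hWp hC hsign hpN hnp h1 h2
    exact Subgroup.subset_closure ⟨_, _, this.1, this.2, rfl⟩
  | one => simp
  | mul g₁ g₂ _ _ ih₁ ih₂ =>
    have : nU hB (D.simple i) (one_ne_zero (α := F)) * (g₁ * g₂) *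
        (nU hB (D.simple i) (one_ne_zero (α := F)))⁻¹ =
        (nU hB (D.simple i) (one_ne_zero (α := F)) * g₁ * (nU hB (D.simple i) (one_ne_zero (α := F)))⁻¹) *
        (nU hB (D.simple i) (one_ne_zero (α := F)) * g₂ * (nU hB (D.simple i) (one_ne_zero (α := F)))⁻¹) := by
      group
    rw [this]
    exact Subgroup.mul_mem _ ih₁ ih₂
  | inv g _ ih =>
    have : nU hB (D.simple i) (one_ne_zero (α := F)) * g⁻¹ *
        (nU hB (D.simple i) (one_ne_zero (α := F)))⁻¹ =
        (nU hB (D.simple i) (one_ne_zero (α := F)) * g * (nU hB (D.simple i) (one_ne_zero (α := F)))⁻¹)⁻¹ := by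
      group
    rw [this]
    exact Subgroup.inv_mem _ ih

/-- `H` normalises `U_p` -/
theorem diag_conj_mem_Uexc {h : GL D.Idx F} (hh : h ∈ D.diagonalSubgroup F) {v : GL D.Idx F}
    (hv : v ∈ Uexc D F (D.simple i)) : h * v * h⁻¹ ∈ Uexc D F (D.simple i) := by
  obtain ⟨c, hc, hhv⟩ := exists_torMat_of_mem_diagonal hB hH hh
  unfold Uexc at hv
  induction hv using Subgroup.closure_induction with
  | mem g hg =>
    obtain ⟨s, u, h1, h2, h3⟩ := hg
    apply Subgroup.subset_closure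
    refine ⟨s, torChar D c s * u, h1, h2, ?_⟩
    have : h * g * h⁻¹ = xU hB s (torChar D c s * u) := by
      rw [mul_inv_eq_iff_eq_mul]
      apply Units.ext
      rw [Units.val_mul, Units.val_mul, hhv, h3, xU_val]
      exact torMat_mul_x hB hAdd hc h1.1 u
    rw [this, xU_val]
  | one => simp
  | mul g₁ g₂ _ _ ih₁ ih₂ =>
    have : h * (g₁ * g₂) * h⁻¹ = (h * g₁ * h⁻¹) * (h * g₂ * h⁻¹) := by group
    rw [this]
    exact Subgroup.mul_mem _ ih₁ ih₂
  | inv g _ ih =>
    have : h * g⁻¹ * h⁻¹ = (h * g * h⁻¹)⁻¹ := by group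
    rw [this]
    exact Subgroup.inv_mem _ ih

theorem Uexc_le_posUnipotent : Uexc D F (D.simple i) ≤ D.posUnipotent F := by
  unfold Uexc ChevalleyDatum.posUnipotent
  apply Subgroup.closure_mono
  rintro g ⟨s, t, h1, _, h3⟩
  exact ⟨s, t, h1, h3⟩

theorem Uexc_le_borel : Uexc D F (D.simple i) ≤ D.borelSubgroup F := by
  unfold ChevalleyDatum.borelSubgroup
  exact le_trans (Uexc_le_posUnipotent hB hF hn hAll hAdd hH hReach hi hR hWp hC hsign hpN hnp) le_sup_left

theorem xU_simple_mem_borel (t : F) : xU hB (D.simple i) t ∈ D.borelSubgroup F := by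
  unfold ChevalleyDatum.borelSubgroup
  apply Subgroup.mem_sup_left
  exact Subgroup.subset_closure ⟨D.simple i, t, (hsign _ (hAll i hi).hS.1).2 hpN, rfl⟩

/-- every element of `B` is `v h x_p(t)` with `v ∈ U_p`, `h ∈ H` -/
theorem borel_decomp {b : GL D.Idx F} (hb : b ∈ D.borelSubgroup F) :
    ∃ v ∈ Uexc D F (D.simple i), ∃ h ∈ D.diagonalSubgroup F, ∃ t : F,
      b = v * h * xU hB (D.simple i) t := by
  have hA := hAll i hi
  have hp := hA.hS.1
  have hb' : b ∈ ((D.posUnipotent F ⊔ D.diagonalSubgroup F : Subgroup (GL D.Idx F)) : Set (GL D.Idx F)) := hb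
  rw [Subgroup.coe_mul_of_right_le_normalizer_left _ _
    (diagonal_le_normalizer_posUnipotent hB hAll hAdd hH), Set.mem_mul] at hb'
  obtain ⟨u, hu, h, hh, rfl⟩ := hb'
  have hu' : u ∈ ((Uexc D F (D.simple i) ⊔ D.rootSubgroup F (D.simple i) : Subgroup (GL D.Idx F)) :
      Set (GL D.Idx F)) := by
    rw [Uexc_sup_rootSubgroup hsign hp hpN]; exact hu
  have hnorm : D.rootSubgroup F (D.simple i) ≤
      Subgroup.normalizer (Uexc D F (D.simple i) : Set (GL D.Idx F)) :=
    le_trans le_sup_left (rootSubgroup_sup_le_normalizer_Uexc hB hF hR hC hsign hp hpN hnp)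
  rw [Subgroup.coe_mul_of_right_le_normalizer_left _ _ hnorm, Set.mem_mul] at hu'
  obtain ⟨v, hv, x, hx, rfl⟩ := hu'
  obtain ⟨t, rfl⟩ := (mem_rootSubgroup_iff hB).1 hx
  obtain ⟨c, hc, hhv⟩ := exists_torMat_of_mem_diagonal hB hH (Subgroup.inv_mem _ hh)
  refine ⟨v, hv, h, hh, torChar D c (D.simple i) * t, ?_⟩
  have : h⁻¹ * xU hB (D.simple i) t * h⁻¹⁻¹ = xU hB (D.simple i) (torChar D c (D.simple i) * t) := by
    rw [mul_inv_eq_iff_eq_mul]
    apply Units.ext
    rw [Units.val_mul, Units.val_mul, hhv, xU_val, xU_val]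
    exact torMat_mul_x hB hAdd hc hp t
  rw [← this]
  group

/-- the rank one relation `x_{-p}(a) = x_p(a⁻¹) h_p(-a⁻¹) n_p x_p(a⁻¹)` -/
theorem xU_neg_eq {a : F} (ha : a ≠ 0) :
    xU hB (D.neg (D.simple i)) a =
      xU hB (D.simple i) a⁻¹ * wordU hB (D.hWord (D.simple i) (-a⁻¹)) *
        nU hB (D.simple i) (one_ne_zero (α := F)) * xU hB (D.simple i) a⁻¹ := by
  have hc : -a⁻¹ ≠ 0 := neg_ne_zero.2 (inv_ne_zero ha)
  have e1 : nU hB (D.simple i) hc = wordU hB (D.hWord (D.simple i) (-a⁻¹)) *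
      nU hB (D.simple i) (one_ne_zero (α := F)) := by
    apply Units.ext
    simp only [Units.val_mul, nU_val, wordU_val]
    exact nMat_eq_hMat_mul hB _ _
  have e2 : nU hB (D.simple i) hc =
      xU hB (D.simple i) (-a⁻¹) * xU hB (D.neg (D.simple i)) a * xU hB (D.simple i) (-a⁻¹) := by
    apply Units.ext
    simp only [Units.val_mul, nU_val, xU_val]
    rw [nMat_eq']
    congr 3
    rw [inv_neg, inv_inv, neg_neg]
  have e3 : xU hB (D.simple i) a⁻¹ * xU hB (D.simple i) (-a⁻¹) = 1 := by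
    rw [xU_mul, add_neg_cancel, xU_zero]
  have e4 : xU hB (D.simple i) (-a⁻¹) * xU hB (D.simple i) a⁻¹ = 1 := by
    rw [xU_mul, neg_add_cancel, xU_zero]
  rw [mul_assoc (xU hB (D.simple i) a⁻¹), ← e1, e2]
  calc xU hB (D.neg (D.simple i)) a
      = (xU hB (D.simple i) a⁻¹ * xU hB (D.simple i) (-a⁻¹)) * xU hB (D.neg (D.simple i)) a *
          (xU hB (D.simple i) (-a⁻¹) * xU hB (D.simple i) a⁻¹) := by rw [e3, e4, one_mul, mul_one]
    _ = _ := by group

omit hF hn hAll hAdd hH hReach hi hR hWp hC hsign hpN hnp in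
/-- `n_p² ∈ H` -/
theorem nU_sq_mem_diagonal {r : ℕ} (hr : r < D.nroots) :
    nU hB r (one_ne_zero (α := F)) * nU hB r (one_ne_zero (α := F)) ∈ D.diagonalSubgroup F := by
  have hm1 : (-1 : F) ≠ 0 := neg_ne_zero.2 one_ne_zero
  have e1 : (nU hB r (one_ne_zero (α := F)))⁻¹ = wordU hB (D.hWord r (-1)) *
      nU hB r (one_ne_zero (α := F)) := by
    apply Units.ext
    rw [Units.val_mul, nU_val, wordU_val]
    change D.nMat F r (-1) = _
    exact nMat_eq_hMat_mul hB _ _
  have e2 : (nU hB r (one_ne_zero (α := F)))⁻¹ * (nU hB r (one_ne_zero (α := F)))⁻¹ =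
      wordU hB (D.hWord r (-1)) := by
    calc (nU hB r (one_ne_zero (α := F)))⁻¹ * (nU hB r (one_ne_zero (α := F)))⁻¹
        = (wordU hB (D.hWord r (-1)) * nU hB r (one_ne_zero (α := F))) *
            (nU hB r (one_ne_zero (α := F)))⁻¹ := by rw [← e1]
      _ = _ := by group
  have e3 : nU hB r (one_ne_zero (α := F)) * nU hB r (one_ne_zero (α := F)) =
      (wordU hB (D.hWord r (-1)))⁻¹ := by
    rw [← e2, _root_.mul_inv_rev, inv_inv]
  rw [e3]
  exact Subgroup.inv_mem _ (hWordU_mem_diagonal hB hr hm1)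

/-- the double coset condition -/
theorem bn_mul_mem (hnegpos : ∀ r < D.nroots, r < N → N ≤ D.neg r)
    {n : GL D.Idx F} (hnN : n ∈ D.monomialSubgroup F) {b : GL D.Idx F} (hb : b ∈ D.borelSubgroup F) :
    (∃ b₁ ∈ D.borelSubgroup F, ∃ b₂ ∈ D.borelSubgroup F,
      nU hB (D.simple i) (one_ne_zero (α := F)) * b * n =
        b₁ * (nU hB (D.simple i) (one_ne_zero (α := F)) * n) * b₂) ∨
    (∃ b₁ ∈ D.borelSubgroup F, ∃ b₂ ∈ D.borelSubgroup F,
      nU hB (D.simple i) (one_ne_zero (α := F)) * b * n = b₁ * n * b₂) := by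
  have hA := hAll i hi
  have hp := hA.hS.1
  set s := nU hB (D.simple i) (one_ne_zero (α := F)) with hs
  have hHB : D.diagonalSubgroup F ≤ D.borelSubgroup F := by
    unfold ChevalleyDatum.borelSubgroup; exact le_sup_right
  have hUB : D.posUnipotent F ≤ D.borelSubgroup F := by
    unfold ChevalleyDatum.borelSubgroup; exact le_sup_left
  obtain ⟨v, hv, h, hh, t, rfl⟩ :=
    borel_decomp hB hF hn hAll hAdd hH hReach hi hR hWp hC hsign hpN hnp hb
  -- `b'' = s v h s⁻¹ ∈ B`
  have hb'' : s * (v * h) * s⁻¹ ∈ D.borelSubgroup F := by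
    have e : s * (v * h) * s⁻¹ = (s * v * s⁻¹) * (s * h * s⁻¹) := by group
    rw [e]
    apply Subgroup.mul_mem
    · exact Uexc_le_borel hB hF hn hAll hAdd hH hReach hi hR hWp hC hsign hpN hnp
        (nU_conj_mem_Uexc hB hF hn hAll hAdd hH hReach hi hR hWp hC hsign hpN hnp hv)
    · exact hHB (((Subgroup.mem_normalizer_iff.1 (nU_simple_mem_normalizer hB hAll hH hi)) h).1 hh)
  obtain ⟨-, σ, c, hσ⟩ := monomial_le_rootPermSub hB hAll hAdd hH hReach hnN
  obtain ⟨hq, hqneg, hconj⟩ := hσ _ hp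
  rw [inv_inv] at hconj
  have hxpos : ∀ (r : ℕ), r < D.nroots → N ≤ r → ∀ u : F, xU hB r u ∈ D.borelSubgroup F := by
    intro r hr hrN u
    apply hUB
    exact Subgroup.subset_closure ⟨r, u, (hsign r hr).2 hrN, rfl⟩
  by_cases hqN : N ≤ σ (D.simple i)
  · -- `n⁻¹ x_p(t) n` is a positive root element
    left
    refine ⟨s * (v * h) * s⁻¹, hb'', xU hB (σ (D.simple i)) (c (D.simple i) * t),
      hxpos _ hq hqN _, ?_⟩
    rw [← hconj]
    group
  · by_cases ht : t = 0
    · left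
      refine ⟨s * (v * h) * s⁻¹, hb'', 1, Subgroup.one_mem _, ?_⟩
      rw [ht, xU_zero]
      group
    · right
      -- `s x_p(t) s⁻¹ = x_{-p}(a)`
      have hsx := nU_conj_xU (F := F) hB hA hp t
      have hwp : wR D (D.simple i) (D.simple i) = D.neg (D.simple i) := by
        unfold wR; rw [if_pos rfl]
      rw [hwp, ← hs] at hsx
      have hsq := etaR_sq (F := F) hB hA hp
      have hηne : ((etaR D (D.simple i) (D.simple i) : ℤ) : F) ≠ 0 := fun h0 => by
        rw [h0] at hsq; simp at hsq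
      set a := ((etaR D (D.simple i) (D.simple i) : ℤ) : F) * t with ha
      have hane : a ≠ 0 := mul_ne_zero hηne ht
      have hrank1 := xU_neg_eq hB hF hn hAll hAdd hH hReach hi hR hWp hC hsign hpN hnp hane
      rw [← hs] at hrank1
      -- `(s n)⁻¹ x_p(a⁻¹) (s n)` is a positive root element
      have hsinv := nU_inv_conj_xU (F := F) hB hA hp a⁻¹
      rw [hwp, ← hs] at hsinv
      have hnq : N ≤ D.neg (σ (D.simple i)) := hnegpos _ hq (by omega)
      obtain ⟨hq', -, hconj'⟩ := hσ _ (hB.neg _ hp).1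
      rw [inv_inv, hqneg] at hconj'
      have hss := nU_sq_mem_diagonal (F := F) hB hp
      rw [← hs] at hss
      refine ⟨s * (v * h) * s⁻¹ * xU hB (D.simple i) a⁻¹ * wordU hB (D.hWord (D.simple i) (-a⁻¹)) *
          (s * s), ?_, xU hB (D.neg (σ (D.simple i)))
            (c (D.neg (D.simple i)) * (((etaR D (D.simple i) (D.neg (D.simple i)) : ℤ) : F) * a⁻¹)),
          hxpos _ ((hB.neg _ hq).1) hnq _, ?_⟩
      · apply Subgroup.mul_mem _ (Subgroup.mul_mem _ (Subgroup.mul_mem _ hb'' ?_) ?_) (hHB hss)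
        · exact xU_simple_mem_borel hB hF hn hAll hAdd hH hReach hi hR hWp hC hsign hpN hnp _
        · exact hHB (hWordU_mem_diagonal hB hp (neg_ne_zero.2 (inv_ne_zero hane)))
      · rw [← hconj', ← hsinv]
        have e : s * (v * h * xU hB (D.simple i) t) * n =
            s * (v * h) * s⁻¹ * (s * xU hB (D.simple i) t * s⁻¹) * s * n := by group
        rw [e, hsx, hrank1]
        group

end main

end Cfsg.Agent.Helper6
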