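import Mathlib
import Cfsg.Prelude.Def_LieExceptional
import Cfsg.Agent.Helper6.Chev.BNKey
import Cfsg.Agent.Helper6.Chev.Core

set_option autoImplicit false
set_option linter.unusedSectionVars false
set_option linter.unusedSimpArgs false
set_option linter.unusedVariables false

/-!
The `(B, N)`-pair of a Chevalley group.
-/

namespace Cfsg.Agent.Helper6

open Cfsg.Lie

variable {D : ChevalleyDatum} {F : Type*} [Field F]

/-- all table facts and the commutator formula, bundled -/
structure BNData (D : ChevalleyDatum) (F : Type*) [Field F] : Prop where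
  hB : BasicOK D
  hF : FastOK D
  hn : D.nroots ≤ 256
  hAll : ∀ i < D.rank, SimpleAll D i
  hAdd : ∀ i < D.rank, AddOK D i
  hH : ∀ r < D.nroots, HDiag D F r (aOf D r)
  hReach : ∀ r < D.nroots, Reach D r
  hR : ∀ i < D.rank, radChk D (D.nroots / 2) i = true
  hWp : ∀ i < D.rank, wposChk D (D.nroots / 2) i = true
  hC : ∀ r < D.nroots, ∀ s < D.nroots, s ≠ r → s ≠ D.neg r → CommF D F r s
  hsign : ∀ r < D.nroots, (D.IsPosRoot r ↔ D.nroots / 2 ≤ r) ∧ (D.IsNegRoot r ↔ r < D.nroots / 2)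
  hpN : ∀ i < D.rank, D.nroots / 2 ≤ D.simple i
  even : D.nroots / 2 + D.nroots / 2 = D.nroots
  good : Chev.Good D
  good2 : Chev.Good2 D

namespace BNData

variable (Δ : BNData D F)
include Δ

theorem neg_eq {r : ℕ} (hr : r < D.nroots) : D.neg r = D.nroots - 1 - r := by
  have e : D.neg r = negF D r := by rw [negF_eq Δ.hF.chk]
  rw [e]
  unfold negF
  have : Nat.blt r D.nroots = true := by rw [Nat.blt_eq]; exact hr
  rw [this, cond_true]
  rfl

theorem hnp {i : ℕ} (hi : i < D.rank) : D.neg (D.simple i) < D.nroots / 2 := by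
  have hp := (Δ.hAll i hi).hS.1
  rw [Δ.neg_eq hp]
  have := Δ.even
  have := Δ.hpN i hi
  omega

theorem hnegpos {r : ℕ} (hr : r < D.nroots) (h : r < D.nroots / 2) : D.nroots / 2 ≤ D.neg r := by
  rw [Δ.neg_eq hr]
  have := Δ.even
  omega

theorem hsign' : ∀ r < D.nroots, (D.IsPosRoot r ↔ D.nroots / 2 ≤ r) := fun r hr => (Δ.hsign r hr).1

/-- the root elements lie in `⟨B, N⟩` -/
theorem xU_mem_sup {r : ℕ} (hr : Reach D r) (t : F) :
    xU Δ.hB r t ∈ D.borelSubgroup F ⊔ D.monomialSubgroup F := by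
  induction hr generalizing t with
  | @simple i hi =>
    apply Subgroup.mem_sup_left
    unfold ChevalleyDatum.borelSubgroup
    apply Subgroup.mem_sup_left
    exact Subgroup.subset_closure ⟨D.simple i, t, (Δ.hsign' _ (Δ.hAll i hi).hS.1).2 (Δ.hpN i hi), rfl⟩
  | @step i s hi hs _ ih =>
    have hA := Δ.hAll i hi
    have hsq := etaR_sq (F := F) Δ.hB hA hs
    have := nU_conj_xU (F := F) Δ.hB hA hs (((etaR D (D.simple i) s : ℤ) : F) * t)
    rw [← mul_assoc, hsq, one_mul] at this
    rw [← this]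
    have hn : nU Δ.hB (D.simple i) (one_ne_zero (α := F)) ∈ D.borelSubgroup F ⊔ D.monomialSubgroup F :=
      Subgroup.mem_sup_right (nU_one_mem_monomial Δ.hB hA.hS.1)
    exact Subgroup.mul_mem _ (Subgroup.mul_mem _ hn (ih _)) (Subgroup.inv_mem _ hn)

theorem group_le_sup : D.group F ≤ D.borelSubgroup F ⊔ D.monomialSubgroup F := by
  unfold ChevalleyDatum.group
  rw [Subgroup.closure_le]
  rintro g ⟨r, t, hg⟩
  have : g = xU Δ.hB r.val t := Units.ext (by rw [hg, xU_val, x_of_lt r.isLt])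
  rw [this]
  exact Δ.xU_mem_sup (Δ.hReach r.val r.isLt) t

theorem borel_le_group : D.borelSubgroup F ≤ D.group F := borelSubgroup_le_group Δ.hB

theorem monomial_le_group : D.monomialSubgroup F ≤ D.group F := monomialSubgroup_le_group Δ.hB

theorem inf_eq : D.borelSubgroup F ⊓ D.monomialSubgroup F = D.diagonalSubgroup F :=
  borel_inf_monomial Δ.hB Δ.hAll Δ.hAdd Δ.hH Δ.hReach Δ.good

theorem diag_le_borel : D.diagonalSubgroup F ≤ D.borelSubgroup F := by
  unfold ChevalleyDatum.borelSubgroup; exact le_sup_right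

theorem diag_le_monomial : D.diagonalSubgroup F ≤ D.monomialSubgroup F := by
  unfold ChevalleyDatum.monomialSubgroup; exact le_sup_left

/-- a negative root element in `B` is trivial -/
theorem eq_zero_of_xU_neg_mem_borel {r : ℕ} (hr : r < D.nroots) (hrN : r < D.nroots / 2) {a : F}
    (h : xU Δ.hB r a ∈ D.borelSubgroup F) : a = 0 := by
  have hV : xU Δ.hB r a ∈ D.negUnipotent F :=
    Subgroup.subset_closure ⟨r, a, ((Δ.hsign r hr).2).2 hrN, rfl⟩
  have h1 : xU Δ.hB r a ∈ D.borelSubgroup F ⊓ D.negUnipotent F := ⟨h, hV⟩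
  rw [borel_inf_negUnipotent Δ.hB Δ.hH Δ.good2, Subgroup.mem_bot] at h1
  have h2 := congrArg Units.val h1
  rw [xU_val, Units.val_one, ← torMat_one (D := D)] at h2
  exact eq_zero_of_x_eq_torMat Δ.hB hr h2

end BNData

end Cfsg.Agent.Helper6
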