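import Mathlib
import Cfsg.Agent.Helper6.Chev.BNMain

set_option autoImplicit false
set_option linter.unusedSectionVars false
set_option linter.unusedSimpArgs false
set_option linter.unusedVariables false

namespace Cfsg.Agent.Helper6

open Cfsg.Lie

variable {D : ChevalleyDatum} {F : Type*} [Field F]

namespace BNData

variable (Δ : BNData D F)

/-- the set of the fundamental reflections in the Chevalley group -/
def Sset (D : ChevalleyDatum) (F : Type*) [Field F] : Set ↥(D.group F) :=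
  {n | ∃ i < D.rank, ((n : GL D.Idx F) : Matrix D.Idx D.Idx F) = D.nMat F (D.simple i) 1}

include Δ in
theorem coe_of_mem_Sset {s : ↥(D.group F)} {i : ℕ}
    (hs : ((s : GL D.Idx F) : Matrix D.Idx D.Idx F) = D.nMat F (D.simple i) 1) :
    (s : GL D.Idx F) = nU Δ.hB (D.simple i) (one_ne_zero (α := F)) :=
  Units.ext (by rw [hs, nU_val])

/-- the `(B, N)`-pair of the Chevalley group -/
def bnPair : Cfsg.BNPair ↥(D.group F) where
  B := (D.borelSubgroup F).subgroupOf (D.group F)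
  N := (D.monomialSubgroup F).subgroupOf (D.group F)
  S := Sset D F
  sup_eq_top := by
    rw [← Subgroup.subgroupOf_sup Δ.borel_le_group Δ.monomial_le_group, Subgroup.subgroupOf_eq_top]
    exact Δ.group_le_sup
  conj_mem := by
    intro n hn t ht
    rw [Subgroup.mem_subgroupOf] at hn ⊢
    have ht' : (t : GL D.Idx F) ∈ D.borelSubgroup F ⊓ D.monomialSubgroup F :=
      ⟨Subgroup.mem_subgroupOf.1 ht.1, Subgroup.mem_subgroupOf.1 ht.2⟩
    rw [Δ.inf_eq] at ht'
    have hnorm := monomial_le_normalizer Δ.hB Δ.hAll Δ.hH Δ.hReach hn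
    simp only [Subgroup.coe_mul, Subgroup.coe_inv]
    exact Δ.diag_le_borel (((Subgroup.mem_normalizer_iff.1 hnorm) _).1 ht')
  subset := by
    rintro n ⟨i, hi, hn⟩
    rw [SetLike.mem_coe, Subgroup.mem_subgroupOf, Δ.coe_of_mem_Sset hn]
    exact nU_one_mem_monomial Δ.hB (Δ.hAll i hi).hS.1
  sq_mem := by
    rintro s ⟨i, hi, hs⟩
    rw [Subgroup.mem_subgroupOf, Subgroup.coe_mul, Δ.coe_of_mem_Sset hs]
    exact Δ.diag_le_borel (nU_sq_mem_diagonal Δ.hB (Δ.hAll i hi).hS.1)
  inj := by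
    rintro s ⟨i, hi, hs⟩ s' ⟨j, hj, hs'⟩ hmem
    have hAi := Δ.hAll i hi
    have hAj := Δ.hAll j hj
    by_cases hpp : D.simple i = D.simple j
    · apply Subtype.ext
      apply Units.ext
      rw [hs, hs', hpp]
    · exfalso
      rw [Subgroup.mem_subgroupOf, Subgroup.coe_mul, Subgroup.coe_inv, Δ.coe_of_mem_Sset hs,
        Δ.coe_of_mem_Sset hs'] at hmem
      have hN : (nU Δ.hB (D.simple i) (one_ne_zero (α := F)))⁻¹ *
          nU Δ.hB (D.simple j) (one_ne_zero (α := F)) ∈ D.monomialSubgroup F :=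
        Subgroup.mul_mem _ (Subgroup.inv_mem _ (nU_one_mem_monomial Δ.hB hAi.hS.1))
          (nU_one_mem_monomial Δ.hB hAj.hS.1)
      have hH : (nU Δ.hB (D.simple i) (one_ne_zero (α := F)))⁻¹ *
          nU Δ.hB (D.simple j) (one_ne_zero (α := F)) ∈ D.diagonalSubgroup F := by
        rw [← Δ.inf_eq]; exact ⟨hmem, hN⟩
      obtain ⟨c, hc, hv⟩ := exists_torMat_of_mem_diagonal Δ.hB Δ.hH hH
      -- `n_j = n_i h`; apply both sides to `e_{p_j}`
      have e : D.nMat F (D.simple j) 1 = D.nMat F (D.simple i) 1 * torMat D F c := by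
        rw [← hv, Units.val_mul, ← mul_assoc, nU_val]
        have : D.nMat F (D.simple i) 1 *
            ((nU Δ.hB (D.simple i) (one_ne_zero (α := F)))⁻¹ : GL D.Idx F).val = 1 := by
          rw [← nU_val Δ.hB (D.simple i) (one_ne_zero (α := F)), ← Units.val_mul, mul_inv_cancel,
            Units.val_one]
        rw [this, one_mul]
      have e1 : (D.nMat F (D.simple j) 1).mulVec (ev D F (D.simple j)) =
          (D.nMat F (D.simple i) 1 * torMat D F c).mulVec (ev D F (D.simple j)) := by rw [← e]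
      rw [nMat_one_mulVec_ev_all Δ.hB hAj.hS.1 hAj.hR hAj.hS.1, ← Matrix.mulVec_mulVec] at e1
      unfold torMat at e1
      rw [dMat_mulVec_ev, Matrix.mulVec_smul,
        nMat_one_mulVec_ev_all Δ.hB hAi.hS.1 hAi.hR hAj.hS.1] at e1
      have hwjj : wR D (D.simple j) (D.simple j) = D.neg (D.simple j) := by
        unfold wR; rw [if_pos rfl]
      have hejj : etaR D (D.simple j) (D.simple j) = -1 := by
        unfold etaR; rw [if_pos (Or.inl rfl)]
      rw [hwjj, hejj] at e1
      have hnj := (Δ.hB.neg _ hAj.hS.1).1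
      have e2 := congrFun e1 (Sum.inr ⟨D.neg (D.simple j), hnj⟩)
      simp only [Pi.smul_apply, ev_apply_inr, if_true, smul_eq_mul, mul_one] at e2
      have hpos := wpos_spec Δ.hB Δ.hF Δ.hn Δ.hAll Δ.hAdd Δ.hH Δ.hReach hi (Δ.hR i hi) (Δ.hWp i hi)
        Δ.hC Δ.hsign' (Δ.hpN i hi) (Δ.hnp hi)
        ((Δ.hsign' _ hAj.hS.1).2 (Δ.hpN j hj)) (fun h => hpp h.symm)
      have hne : ¬ D.neg (D.simple j) = wR D (D.simple i) (D.simple j) := by
        intro h
        have h1 := (Δ.hsign' _ hpos.1.1).1 hpos.1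
        have h2 := Δ.hnp hj
        omega
      rw [if_neg hne] at e2
      simp at e2
  closure_sup := by
    apply le_antisymm
    · apply sup_le
      · rw [Subgroup.closure_le]
        rintro n ⟨i, hi, hn⟩
        rw [SetLike.mem_coe, Subgroup.mem_subgroupOf, Δ.coe_of_mem_Sset hn]
        exact nU_one_mem_monomial Δ.hB (Δ.hAll i hi).hS.1
      · exact inf_le_right
    · intro n hn
      rw [Subgroup.mem_subgroupOf] at hn
      have hle : D.monomialSubgroup F ≤
          (Subgroup.closure (Sset D F) ⊔ ((D.borelSubgroup F).subgroupOf (D.group F) ⊓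
            (D.monomialSubgroup F).subgroupOf (D.group F))).map (D.group F).subtype := by
        apply monomial_le_of Δ.hB Δ.hAll Δ.hReach
        · intro h hh
          refine Subgroup.mem_map.2 ⟨⟨h, diagonalSubgroup_le_group Δ.hB hh⟩, ?_, rfl⟩
          apply Subgroup.mem_sup_right
          exact ⟨Subgroup.mem_subgroupOf.2 (Δ.diag_le_borel hh),
            Subgroup.mem_subgroupOf.2 (Δ.diag_le_monomial hh)⟩
        · intro i hi
          have hmem : nU Δ.hB (D.simple i) (one_ne_zero (α := F)) ∈ D.group F :=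
            Δ.monomial_le_group (nU_one_mem_monomial Δ.hB (Δ.hAll i hi).hS.1)
          refine Subgroup.mem_map.2 ⟨⟨_, hmem⟩, ?_, rfl⟩
          apply Subgroup.mem_sup_left
          apply Subgroup.subset_closure
          exact ⟨i, hi, rfl⟩
      obtain ⟨k, hk, hkn⟩ := Subgroup.mem_map.1 (hle hn)
      have : k = n := Subtype.ext hkn
      rw [← this]; exact hk
  mul_mem_union := by
    rintro s ⟨i, hi, hs⟩ n hn b hb
    rw [Subgroup.mem_subgroupOf] at hn hb
    have key := bn_mul_mem Δ.hB Δ.hF Δ.hn Δ.hAll Δ.hAdd Δ.hH Δ.hReach hi (Δ.hR i hi) (Δ.hWp i hi)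
      Δ.hC Δ.hsign' (Δ.hpN i hi) (Δ.hnp hi) (fun r hr h => Δ.hnegpos hr h) hn hb
    rw [← Δ.coe_of_mem_Sset hs] at key
    rcases key with ⟨b₁, hb₁, b₂, hb₂, e⟩ | ⟨b₁, hb₁, b₂, hb₂, e⟩
    · left
      rw [DoubleCoset.mem_doubleCoset]
      refine ⟨⟨b₁, Δ.borel_le_group hb₁⟩, Subgroup.mem_subgroupOf.2 hb₁,
        ⟨b₂, Δ.borel_le_group hb₂⟩, Subgroup.mem_subgroupOf.2 hb₂, ?_⟩
      apply Subtype.ext
      simp only [Subgroup.coe_mul]
      exact e
    · right
      rw [DoubleCoset.mem_doubleCoset]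
      refine ⟨⟨b₁, Δ.borel_le_group hb₁⟩, Subgroup.mem_subgroupOf.2 hb₁,
        ⟨b₂, Δ.borel_le_group hb₂⟩, Subgroup.mem_subgroupOf.2 hb₂, ?_⟩
      apply Subtype.ext
      simp only [Subgroup.coe_mul]
      exact e
  conj_ne := by
    rintro s ⟨i, hi, hs⟩ heq
    have hA := Δ.hAll i hi
    have hp := hA.hS.1
    have hsB : s * s ∈ (D.borelSubgroup F).subgroupOf (D.group F) := by
      rw [Subgroup.mem_subgroupOf, Subgroup.coe_mul, Δ.coe_of_mem_Sset hs]
      exact Δ.diag_le_borel (nU_sq_mem_diagonal Δ.hB hp)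
    let x : ↥(D.group F) := ⟨xU Δ.hB (D.simple i) 1, xU_mem_group Δ.hB hp 1⟩
    have hxB : x ∈ (D.borelSubgroup F).subgroupOf (D.group F) := by
      rw [Subgroup.mem_subgroupOf]
      exact xU_simple_mem_borel Δ.hB Δ.hF Δ.hn Δ.hAll Δ.hAdd Δ.hH Δ.hReach hi (Δ.hR i hi) (Δ.hWp i hi)
        Δ.hC Δ.hsign' (Δ.hpN i hi) (Δ.hnp hi) 1
    have hb₀ : x * (s * s)⁻¹ ∈ (D.borelSubgroup F).subgroupOf (D.group F) :=
      Subgroup.mul_mem _ hxB (Subgroup.inv_mem _ hsB)
    have himg : s * (x * (s * s)⁻¹) * s ∈ ((D.borelSubgroup F).subgroupOf (D.group F) : Set ↥(D.group F)) := by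
      rw [← heq]
      exact ⟨_, hb₀, rfl⟩
    have e : s * (x * (s * s)⁻¹) * s = s * x * s⁻¹ := by group
    rw [e, SetLike.mem_coe, Subgroup.mem_subgroupOf] at himg
    simp only [Subgroup.coe_mul, Subgroup.coe_inv] at himg
    rw [Δ.coe_of_mem_Sset hs] at himg
    have hconj := nU_conj_xU (F := F) Δ.hB hA hp 1
    have hwp : wR D (D.simple i) (D.simple i) = D.neg (D.simple i) := by
      unfold wR; rw [if_pos rfl]
    change nU Δ.hB (D.simple i) (one_ne_zero (α := F)) * xU Δ.hB (D.simple i) 1 *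
      (nU Δ.hB (D.simple i) (one_ne_zero (α := F)))⁻¹ ∈ D.borelSubgroup F at himg
    rw [hconj, hwp] at himg
    have h0 := Δ.eq_zero_of_xU_neg_mem_borel (Δ.hB.neg _ hp).1 (Δ.hnp hi) himg
    have hsq := etaR_sq (F := F) Δ.hB hA hp
    rw [mul_one] at h0
    rw [h0] at hsq
    simp at hsq

end BNData

end Cfsg.Agent.Helper6
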