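import Mathlib
import Cfsg.Agent.Helper6.Chev.BNPairDef

set_option autoImplicit false
set_option linter.unusedSectionVars false
set_option linter.unusedSimpArgs false
set_option linter.unusedVariables false

/-!
`B ∪ B n_p B` is a subgroup.
-/

namespace Cfsg.Agent.Helper6

open Cfsg.Lie

variable {D : ChevalleyDatum} {F : Type*} [Field F]

namespace BNData

variable (Δ : BNData D F) {i : ℕ} (hi : i < D.rank)

include Δ hi in
theorem nU_inv_eq : (nU Δ.hB (D.simple i) (one_ne_zero (α := F)))⁻¹ =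
    wordU Δ.hB (D.hWord (D.simple i) (-1)) * nU Δ.hB (D.simple i) (one_ne_zero (α := F)) := by
  apply Units.ext
  rw [Units.val_mul, nU_val, wordU_val]
  change D.nMat F (D.simple i) (-1) = _
  exact nMat_eq_hMat_mul Δ.hB _ _

include Δ hi in
/-- `s b s ∈ B ∪ B s B` -/
theorem sbs_mem {b : GL D.Idx F} (hb : b ∈ D.borelSubgroup F) :
    nU Δ.hB (D.simple i) (one_ne_zero (α := F)) * b * nU Δ.hB (D.simple i) (one_ne_zero (α := F)) ∈
        D.borelSubgroup F ∨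
    ∃ b₁ ∈ D.borelSubgroup F, ∃ b₂ ∈ D.borelSubgroup F,
      nU Δ.hB (D.simple i) (one_ne_zero (α := F)) * b * nU Δ.hB (D.simple i) (one_ne_zero (α := F)) =
        b₁ * nU Δ.hB (D.simple i) (one_ne_zero (α := F)) * b₂ := by
  have hp := (Δ.hAll i hi).hS.1
  have key := bn_mul_mem Δ.hB Δ.hF Δ.hn Δ.hAll Δ.hAdd Δ.hH Δ.hReach hi (Δ.hR i hi) (Δ.hWp i hi)
    Δ.hC Δ.hsign' (Δ.hpN i hi) (Δ.hnp hi) (fun r hr h => Δ.hnegpos hr h)
    (nU_one_mem_monomial Δ.hB hp) hb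
  rcases key with ⟨b₁, hb₁, b₂, hb₂, e⟩ | ⟨b₁, hb₁, b₂, hb₂, e⟩
  · left
    rw [e]
    exact Subgroup.mul_mem _ (Subgroup.mul_mem _ hb₁
      (Δ.diag_le_borel (nU_sq_mem_diagonal Δ.hB hp))) hb₂
  · right
    exact ⟨b₁, hb₁, b₂, hb₂, e⟩

/-- the rank one parabolic subgroup `B ∪ B n_p B` -/
def parab1 : Subgroup (GL D.Idx F) where
  carrier := (D.borelSubgroup F : Set (GL D.Idx F)) ∪
    DoubleCoset.doubleCoset (nU Δ.hB (D.simple i) (one_ne_zero (α := F)))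
      (D.borelSubgroup F : Set (GL D.Idx F)) (D.borelSubgroup F)
  one_mem' := Or.inl (Subgroup.one_mem _)
  mul_mem' := by
    intro x y hx hy
    rcases hx with hx | hx
    · rcases hy with hy | hy
      · exact Or.inl (Subgroup.mul_mem _ hx hy)
      · right
        obtain ⟨b₁, hb₁, b₂, hb₂, rfl⟩ := DoubleCoset.mem_doubleCoset.1 hy
        exact DoubleCoset.mem_doubleCoset.2 ⟨x * b₁, Subgroup.mul_mem _ hx hb₁, b₂, hb₂, by group⟩
    · obtain ⟨b₁, hb₁, b₂, hb₂, rfl⟩ := DoubleCoset.mem_doubleCoset.1 hx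
      rcases hy with hy | hy
      · right
        exact DoubleCoset.mem_doubleCoset.2 ⟨b₁, hb₁, b₂ * y, Subgroup.mul_mem _ hb₂ hy, by group⟩
      · obtain ⟨b₃, hb₃, b₄, hb₄, rfl⟩ := DoubleCoset.mem_doubleCoset.1 hy
        have e : b₁ * nU Δ.hB (D.simple i) (one_ne_zero (α := F)) * b₂ *
            (b₃ * nU Δ.hB (D.simple i) (one_ne_zero (α := F)) * b₄) =
            b₁ * (nU Δ.hB (D.simple i) (one_ne_zero (α := F)) * (b₂ * b₃) *
              nU Δ.hB (D.simple i) (one_ne_zero (α := F))) * b₄ := by group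
        rw [e]
        rcases Δ.sbs_mem hi (Subgroup.mul_mem _ hb₂ hb₃) with h | ⟨c₁, hc₁, c₂, hc₂, h⟩
        · exact Or.inl (Subgroup.mul_mem _ (Subgroup.mul_mem _ hb₁ h) hb₄)
        · right
          rw [h]
          exact DoubleCoset.mem_doubleCoset.2 ⟨b₁ * c₁, Subgroup.mul_mem _ hb₁ hc₁, c₂ * b₄,
            Subgroup.mul_mem _ hc₂ hb₄, by group⟩
  inv_mem' := by
    intro x hx
    rcases hx with hx | hx
    · exact Or.inl (Subgroup.inv_mem _ hx)
    · right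
      obtain ⟨b₁, hb₁, b₂, hb₂, rfl⟩ := DoubleCoset.mem_doubleCoset.1 hx
      have hh : wordU Δ.hB (D.hWord (D.simple i) (-1 : F)) ∈ D.borelSubgroup F :=
        Δ.diag_le_borel (hWordU_mem_diagonal Δ.hB (Δ.hAll i hi).hS.1 (neg_ne_zero.2 one_ne_zero))
      refine DoubleCoset.mem_doubleCoset.2 ⟨b₂⁻¹ * wordU Δ.hB (D.hWord (D.simple i) (-1)),
        Subgroup.mul_mem _ (Subgroup.inv_mem _ hb₂) hh, b₁⁻¹, Subgroup.inv_mem _ hb₁, ?_⟩
      rw [_root_.mul_inv_rev, _root_.mul_inv_rev, Δ.nU_inv_eq hi]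
      group

end BNData

end Cfsg.Agent.Helper6
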