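import Mathlib
import Cfsg.Agent.Helper6.Chev.BNPairDef
import Cfsg.Agent.Helper6.Chev.Parab1
import Cfsg.Agent.Helper2.BN.Bruhat
import Cfsg.Agent.Helper2.BN.Exchange

set_option autoImplicit false
set_option linter.unusedSectionVars false
set_option linter.unusedSimpArgs false
set_option linter.unusedVariables false

/-!
The sharp form of the Bruhat decomposition: `g = b n u` with `u ∈ U_w⁻`.
-/

namespace Cfsg.Agent.Helper6

open Cfsg.Lie

variable {D : ChevalleyDatum} {F : Type*} [Field F]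

/-- the generators of `U_w⁻` for the element `n` of `N` -/
def UnegGen (D : ChevalleyDatum) (F : Type*) [Field F] (n : GL D.Idx F) : Set (GL D.Idx F) :=
  {x | ∃ (r : ℕ) (t : F), D.IsPosRoot r ∧
    (D.rootSubgroup F r).map (MulAut.conj n).toMonoidHom ≤ D.negUnipotent F ∧
    (x : Matrix D.Idx D.Idx F) = D.x F r t}

/-- `U = (U ∩ n⁻¹ U n) U_w⁻` -/
def Adec (D : ChevalleyDatum) (F : Type*) [Field F] (n : GL D.Idx F) : Prop :=
  ∀ u ∈ D.posUnipotent F, ∃ a ∈ D.posUnipotent F, n * a * n⁻¹ ∈ D.posUnipotent F ∧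
    ∃ c ∈ Subgroup.closure (UnegGen D F n), u = a * c

theorem conj_closure_mem {G : Type*} [Group G] {S : Set G} {K : Subgroup G} (g : G)
    (h : ∀ x ∈ S, g * x * g⁻¹ ∈ K) : ∀ x ∈ Subgroup.closure S, g * x * g⁻¹ ∈ K := by
  have hle : Subgroup.closure S ≤ K.comap (MulAut.conj g).toMonoidHom := by
    rw [Subgroup.closure_le]
    intro x hx
    exact h x hx
  intro x hx
  exact hle hx

theorem map_conj_le_iff (hB : BasicOK D) {n : GL D.Idx F} {r : ℕ} {K : Subgroup (GL D.Idx F)} :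
    (D.rootSubgroup F r).map (MulAut.conj n).toMonoidHom ≤ K ↔
      ∀ t : F, n * xU hB r t * n⁻¹ ∈ K := by
  constructor
  · intro h t
    apply h
    exact Subgroup.mem_map.2 ⟨xU hB r t, (mem_rootSubgroup_iff hB).2 ⟨t, rfl⟩, rfl⟩
  · intro h y hy
    obtain ⟨x, hx, rfl⟩ := Subgroup.mem_map.1 hy
    obtain ⟨t, rfl⟩ := (mem_rootSubgroup_iff hB).1 hx
    exact h t

namespace BNData

variable (Δ : BNData D F)

include Δ in
theorem mem_unegGen_iff {n x : GL D.Idx F} :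
    x ∈ UnegGen D F n ↔ ∃ (r : ℕ) (t : F), D.IsPosRoot r ∧
      (∀ t' : F, n * xU Δ.hB r t' * n⁻¹ ∈ D.negUnipotent F) ∧ x = xU Δ.hB r t := by
  unfold UnegGen
  simp only [Set.mem_ofPred_eq, map_conj_le_iff Δ.hB]
  constructor
  · rintro ⟨r, t, h1, h2, h3⟩
    exact ⟨r, t, h1, h2, Units.ext (by rw [h3, xU_val])⟩
  · rintro ⟨r, t, h1, h2, rfl⟩
    exact ⟨r, t, h1, h2, rfl⟩

include Δ in
theorem diag_conj_xU {h : GL D.Idx F} (hh : h ∈ D.diagonalSubgroup F) {r : ℕ} (hr : r < D.nroots) :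
    ∃ c : F, ∀ t : F, h * xU Δ.hB r t * h⁻¹ = xU Δ.hB r (c * t) := by
  obtain ⟨c, hc, hv⟩ := exists_torMat_of_mem_diagonal Δ.hB Δ.hH hh
  refine ⟨torChar D c r, fun t => ?_⟩
  rw [mul_inv_eq_iff_eq_mul]
  apply Units.ext
  rw [Units.val_mul, Units.val_mul, hv, xU_val, xU_val]
  exact torMat_mul_x Δ.hB Δ.hAdd hc hr t

include Δ in
theorem diag_conj_posUnipotent {h : GL D.Idx F} (hh : h ∈ D.diagonalSubgroup F) {u : GL D.Idx F}
    (hu : u ∈ D.posUnipotent F) : h * u * h⁻¹ ∈ D.posUnipotent F :=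
  ((Subgroup.mem_normalizer_iff.1
    (diagonal_le_normalizer_posUnipotent Δ.hB Δ.hAll Δ.hAdd Δ.hH hh)) u).1 hu

include Δ in
theorem xU_pos_mem {r : ℕ} (hr : D.IsPosRoot r) (t : F) : xU Δ.hB r t ∈ D.posUnipotent F :=
  Subgroup.subset_closure ⟨r, t, hr, rfl⟩

include Δ in
theorem xU_neg_mem {r : ℕ} (hr : D.IsNegRoot r) (t : F) : xU Δ.hB r t ∈ D.negUnipotent F :=
  Subgroup.subset_closure ⟨r, t, hr, rfl⟩

include Δ in
theorem posUnipotent_le_borel : D.posUnipotent F ≤ D.borelSubgroup F := by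
  unfold ChevalleyDatum.borelSubgroup; exact le_sup_left

include Δ in
theorem unegGen_le_posUnipotent (n : GL D.Idx F) :
    Subgroup.closure (UnegGen D F n) ≤ D.posUnipotent F := by
  rw [Subgroup.closure_le]
  intro x hx
  obtain ⟨r, t, h1, _, rfl⟩ := Δ.mem_unegGen_iff.1 hx
  exact Δ.xU_pos_mem h1 t

include Δ in
/-- `n U_w⁻ n⁻¹ ≤ V` -/
theorem conj_uneg_mem {n : GL D.Idx F} {c : GL D.Idx F} (hc : c ∈ Subgroup.closure (UnegGen D F n)) :
    n * c * n⁻¹ ∈ D.negUnipotent F := by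
  apply conj_closure_mem n _ c hc
  intro x hx
  obtain ⟨r, t, _, h2, rfl⟩ := Δ.mem_unegGen_iff.1 hx
  exact h2 t

include Δ in
theorem xU_one_ne_one {r : ℕ} (hr : r < D.nroots) : xU Δ.hB r (1 : F) ≠ 1 := by
  intro h1
  have h2 := congrArg Units.val h1
  rw [xU_val, Units.val_one, ← torMat_one (D := D)] at h2
  exact one_ne_zero (eq_zero_of_x_eq_torMat Δ.hB hr h2)

include Δ in
theorem adec_diag {h : GL D.Idx F} (hh : h ∈ D.diagonalSubgroup F) : Adec D F h := by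
  intro u hu
  exact ⟨u, hu, Δ.diag_conj_posUnipotent hh hu, 1, Subgroup.one_mem _, (mul_one u).symm⟩

include Δ in
theorem adec_mul_diag {n h : GL D.Idx F} (hn : Adec D F n) (hh : h ∈ D.diagonalSubgroup F) :
    Adec D F (n * h) := by
  intro u hu
  have hh' := Subgroup.inv_mem _ hh
  obtain ⟨a, ha, hna, c, hc, e⟩ := hn (h * u * h⁻¹) (Δ.diag_conj_posUnipotent hh hu)
  refine ⟨h⁻¹ * a * h, ?_, ?_, h⁻¹ * c * h, ?_, ?_⟩
  · have := Δ.diag_conj_posUnipotent hh' ha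
    rwa [inv_inv] at this
  · have e1 : n * h * (h⁻¹ * a * h) * (n * h)⁻¹ = n * a * n⁻¹ := by group
    rw [e1]; exact hna
  · have key : ∀ x ∈ Subgroup.closure (UnegGen D F n),
        h⁻¹ * x * h⁻¹⁻¹ ∈ Subgroup.closure (UnegGen D F (n * h)) := by
      apply conj_closure_mem
      intro x hx
      obtain ⟨r, t, h1, h2, rfl⟩ := Δ.mem_unegGen_iff.1 hx
      obtain ⟨d, hd⟩ := Δ.diag_conj_xU hh' h1.1
      rw [hd]
      apply Subgroup.subset_closure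
      refine Δ.mem_unegGen_iff.2 ⟨r, d * t, h1, ?_, rfl⟩
      intro t'
      obtain ⟨d', hd'⟩ := Δ.diag_conj_xU hh h1.1
      have e2 : n * h * xU Δ.hB r t' * (n * h)⁻¹ = n * (h * xU Δ.hB r t' * h⁻¹) * n⁻¹ := by group
      rw [e2, hd']
      exact h2 _
    have := key c hc
    rwa [inv_inv] at this
  · have e3 : h⁻¹ * a * h * (h⁻¹ * c * h) = h⁻¹ * (a * c) * h := by group
    rw [e3, ← e]; group

include Δ in
theorem wpos {i : ℕ} (hi : i < D.rank) {s : ℕ} (hs : D.IsPosRoot s) (hsp : s ≠ D.simple i) :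
    D.IsPosRoot (wR D (D.simple i) s) ∧ wR D (D.simple i) s ≠ D.simple i :=
  wpos_spec Δ.hB Δ.hF Δ.hn Δ.hAll Δ.hAdd Δ.hH Δ.hReach hi (Δ.hR i hi) (Δ.hWp i hi) Δ.hC Δ.hsign'
    (Δ.hpN i hi) (Δ.hnp hi) hs hsp

include Δ in
theorem nU_conj_Uexc {i : ℕ} (hi : i < D.rank) {v : GL D.Idx F} (hv : v ∈ Uexc D F (D.simple i)) :
    nU Δ.hB (D.simple i) (one_ne_zero (α := F)) * v *
      (nU Δ.hB (D.simple i) (one_ne_zero (α := F)))⁻¹ ∈ Uexc D F (D.simple i) :=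
  nU_conj_mem_Uexc Δ.hB Δ.hF Δ.hn Δ.hAll Δ.hAdd Δ.hH Δ.hReach hi (Δ.hR i hi) (Δ.hWp i hi) Δ.hC
    Δ.hsign' (Δ.hpN i hi) (Δ.hnp hi) hv

include Δ in
theorem diag_conj_Uexc {i : ℕ} (hi : i < D.rank) {h : GL D.Idx F} (hh : h ∈ D.diagonalSubgroup F)
    {v : GL D.Idx F} (hv : v ∈ Uexc D F (D.simple i)) : h * v * h⁻¹ ∈ Uexc D F (D.simple i) :=
  diag_conj_mem_Uexc Δ.hB Δ.hF Δ.hn Δ.hAll Δ.hAdd Δ.hH Δ.hReach hi (Δ.hR i hi) (Δ.hWp i hi) Δ.hC
    Δ.hsign' (Δ.hpN i hi) (Δ.hnp hi) hh hv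

include Δ in
theorem Uexc_le_U {i : ℕ} (hi : i < D.rank) : Uexc D F (D.simple i) ≤ D.posUnipotent F :=
  Uexc_le_posUnipotent Δ.hB Δ.hF Δ.hn Δ.hAll Δ.hAdd Δ.hH Δ.hReach hi (Δ.hR i hi) (Δ.hWp i hi) Δ.hC
    Δ.hsign' (Δ.hpN i hi) (Δ.hnp hi)

include Δ in
/-- `n_p⁻¹ U_p n_p = U_p` -/
theorem nU_inv_conj_Uexc {i : ℕ} (hi : i < D.rank) {v : GL D.Idx F}
    (hv : v ∈ Uexc D F (D.simple i)) :
    (nU Δ.hB (D.simple i) (one_ne_zero (α := F)))⁻¹ * v *
      nU Δ.hB (D.simple i) (one_ne_zero (α := F)) ∈ Uexc D F (D.simple i) := by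
  have hp := (Δ.hAll i hi).hS.1
  have hh : wordU Δ.hB (D.hWord (D.simple i) (-1 : F)) ∈ D.diagonalSubgroup F := by
    apply Subgroup.subset_closure
    exact ⟨D.simple i, -1, hp, neg_ne_zero.2 one_ne_zero, by rw [wordU_val]; rfl⟩
  have e1 := Δ.nU_inv_eq (F := F) hi
  set s := nU Δ.hB (D.simple i) (one_ne_zero (α := F)) with hs
  set h := wordU Δ.hB (D.hWord (D.simple i) (-1 : F)) with hh'
  have e3 : s = s⁻¹ * h⁻¹ := by
    have := congrArg (fun g => g⁻¹) e1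
    simp only [inv_inv, mul_inv_rev] at this
    exact this
  have e : s⁻¹ * v * s = h * (s * v * s⁻¹) * h⁻¹ := by
    calc s⁻¹ * v * s = s⁻¹ * v * (s⁻¹ * h⁻¹) := by rw [← e3]
      _ = (h * s) * v * (s⁻¹ * h⁻¹) := by rw [← e1]
      _ = h * (s * v * s⁻¹) * h⁻¹ := by group
  rw [e]
  exact Δ.diag_conj_Uexc hi hh (Δ.nU_conj_Uexc hi hv)

include Δ in
/-- `U = U_p X_p` -/
theorem U_decomp {i : ℕ} (hi : i < D.rank) {u : GL D.Idx F} (hu : u ∈ D.posUnipotent F) :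
    ∃ v ∈ Uexc D F (D.simple i), ∃ t : F, u = v * xU Δ.hB (D.simple i) t := by
  have hp := (Δ.hAll i hi).hS.1
  have hu' : u ∈ ((Uexc D F (D.simple i) ⊔ D.rootSubgroup F (D.simple i) :
      Subgroup (GL D.Idx F)) : Set (GL D.Idx F)) := by
    rw [Uexc_sup_rootSubgroup Δ.hsign' hp (Δ.hpN i hi)]; exact hu
  have hnorm : D.rootSubgroup F (D.simple i) ≤
      Subgroup.normalizer (Uexc D F (D.simple i) : Set (GL D.Idx F)) :=
    le_trans le_sup_left (rootSubgroup_sup_le_normalizer_Uexc Δ.hB Δ.hF (Δ.hR i hi) Δ.hC Δ.hsign' hp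
      (Δ.hpN i hi) (Δ.hnp hi))
  rw [Subgroup.coe_mul_of_right_le_normalizer_left _ _ hnorm, Set.mem_mul] at hu'
  obtain ⟨v, hv, x, hx, rfl⟩ := hu'
  obtain ⟨t, rfl⟩ := (mem_rootSubgroup_iff Δ.hB).1 hx
  exact ⟨v, hv, t, rfl⟩

include Δ in
theorem rootPermP_of_mem {n : GL D.Idx F} (hn : n ∈ D.monomialSubgroup F) : RootPermP Δ.hB n :=
  (monomial_le_rootPermSub Δ.hB Δ.hAll Δ.hAdd Δ.hH Δ.hReach hn).1

include Δ in
theorem isNegRoot_neg {r : ℕ} (hr : D.IsPosRoot r) : D.IsNegRoot (D.neg r) := by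
  have h1 := (Δ.hsign' r hr.1).1 hr
  have h2 := Δ.neg_eq hr.1
  have h3 := Δ.even
  have hlt : D.neg r < D.nroots := (Δ.hB.neg r hr.1).1
  apply ((Δ.hsign _ hlt).2).2
  omega

include Δ in
theorem pos_or_neg {r : ℕ} (hr : r < D.nroots) : D.IsPosRoot r ∨ D.IsNegRoot r := by
  by_cases h : D.nroots / 2 ≤ r
  · exact Or.inl ((Δ.hsign' r hr).2 h)
  · exact Or.inr (((Δ.hsign r hr).2).2 (by omega))

include Δ in
/-- the inductive step: if `m X_p m⁻¹ ≤ U` then the decomposition for `m` gives that for `m n_p` -/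
theorem adec_step {i : ℕ} (hi : i < D.rank) {m : GL D.Idx F} (hmN : m ∈ D.monomialSubgroup F)
    (hm : Adec D F m)
    (hpos : ∀ t : F, m * xU Δ.hB (D.simple i) t * m⁻¹ ∈ D.posUnipotent F) :
    Adec D F (m * nU Δ.hB (D.simple i) (one_ne_zero (α := F))) := by
  have hA := Δ.hAll i hi
  have hp := hA.hS.1
  have hppos : D.IsPosRoot (D.simple i) := (Δ.hsign' _ hp).2 (Δ.hpN i hi)
  set s := nU Δ.hB (D.simple i) (one_ne_zero (α := F)) with hs
  -- `U_w⁻(m) ≤ U_p`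
  have hle : Subgroup.closure (UnegGen D F m) ≤ Uexc D F (D.simple i) := by
    rw [Subgroup.closure_le]
    intro x hx
    obtain ⟨r, t, h1, h2, rfl⟩ := Δ.mem_unegGen_iff.1 hx
    apply Subgroup.subset_closure
    refine ⟨r, t, h1, ?_, rfl⟩
    rintro rfl
    have hmem : m * xU Δ.hB (D.simple i) 1 * m⁻¹ ∈ D.borelSubgroup F ⊓ D.negUnipotent F :=
      ⟨Δ.posUnipotent_le_borel (hpos 1), h2 1⟩
    rw [borel_inf_negUnipotent Δ.hB Δ.hH Δ.good2, Subgroup.mem_bot] at hmem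
    have : xU Δ.hB (D.simple i) (1 : F) = 1 := by
      have e : xU Δ.hB (D.simple i) (1 : F) = m⁻¹ * (m * xU Δ.hB (D.simple i) 1 * m⁻¹) * m := by
        group
      rw [e, hmem]; group
    exact Δ.xU_one_ne_one hp this
  -- conjugation by `s⁻¹` carries `U_w⁻(m)` into `U_w⁻(m s)`
  have hconj : ∀ c ∈ Subgroup.closure (UnegGen D F m),
      s⁻¹ * c * s⁻¹⁻¹ ∈ Subgroup.closure (UnegGen D F (m * s)) := by
    apply conj_closure_mem
    intro x hx
    obtain ⟨r, t, h1, h2, rfl⟩ := Δ.mem_unegGen_iff.1 hx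
    have hrp : r ≠ D.simple i := by
      have hxU : xU Δ.hB r t ∈ Uexc D F (D.simple i) := hle (Subgroup.subset_closure hx)
      rintro rfl
      have hmem : m * xU Δ.hB (D.simple i) 1 * m⁻¹ ∈ D.borelSubgroup F ⊓ D.negUnipotent F :=
        ⟨Δ.posUnipotent_le_borel (hpos 1), h2 1⟩
      rw [borel_inf_negUnipotent Δ.hB Δ.hH Δ.good2, Subgroup.mem_bot] at hmem
      have : xU Δ.hB (D.simple i) (1 : F) = 1 := by
        have e : xU Δ.hB (D.simple i) (1 : F) = m⁻¹ * (m * xU Δ.hB (D.simple i) 1 * m⁻¹) * m := by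
          group
        rw [e, hmem]; group
      exact Δ.xU_one_ne_one hp this
    rw [inv_inv, nU_inv_conj_xU Δ.hB hA h1.1]
    apply Subgroup.subset_closure
    have hw := Δ.wpos hi h1 hrp
    refine Δ.mem_unegGen_iff.2 ⟨_, _, hw.1, ?_, rfl⟩
    intro t'
    have e : m * s * xU Δ.hB (wR D (D.simple i) r) t' * (m * s)⁻¹ =
        m * (s * xU Δ.hB (wR D (D.simple i) r) t' * s⁻¹) * m⁻¹ := by group
    rw [e, nU_conj_xU Δ.hB hA hw.1.1, wR_wR Δ.hB hA h1.1]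
    exact h2 _
  -- `X_p ≤ U_w⁻(m s)`
  have hxp : ∀ t : F, xU Δ.hB (D.simple i) t ∈ Subgroup.closure (UnegGen D F (m * s)) := by
    intro t
    apply Subgroup.subset_closure
    refine Δ.mem_unegGen_iff.2 ⟨_, t, hppos, ?_, rfl⟩
    intro t'
    have e : m * s * xU Δ.hB (D.simple i) t' * (m * s)⁻¹ =
        m * (s * xU Δ.hB (D.simple i) t' * s⁻¹) * m⁻¹ := by group
    rw [e, nU_conj_xU Δ.hB hA hp]
    have hwpp : wR D (D.simple i) (D.simple i) = D.neg (D.simple i) := by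
      unfold wR; rw [if_pos rfl]
    rw [hwpp]
    obtain ⟨σ, cc, hσ⟩ := Δ.rootPermP_of_mem hmN
    obtain ⟨h1, h2, h3⟩ := hσ (D.simple i) hp
    obtain ⟨h1', _, h3'⟩ := hσ (D.neg (D.simple i)) (Δ.hB.neg _ hp).1
    rw [h3', h2]
    -- `σ p` is positive
    have hσpos : D.IsPosRoot (σ (D.simple i)) := by
      rcases Δ.pos_or_neg h1 with h | h
      · exact h
      · exfalso
        have hmem : m * xU Δ.hB (D.simple i) 1 * m⁻¹ ∈ D.borelSubgroup F ⊓ D.negUnipotent F := by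
          refine ⟨Δ.posUnipotent_le_borel (hpos 1), ?_⟩
          rw [h3]; exact Δ.xU_neg_mem h _
        rw [borel_inf_negUnipotent Δ.hB Δ.hH Δ.good2, Subgroup.mem_bot] at hmem
        have : xU Δ.hB (D.simple i) (1 : F) = 1 := by
          have e : xU Δ.hB (D.simple i) (1 : F) = m⁻¹ * (m * xU Δ.hB (D.simple i) 1 * m⁻¹) * m := by
            group
          rw [e, hmem]; group
        exact Δ.xU_one_ne_one hp this
    exact Δ.xU_neg_mem (Δ.isNegRoot_neg hσpos) _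
  -- the decomposition
  intro u hu
  obtain ⟨v, hv, t, rfl⟩ := Δ.U_decomp hi hu
  obtain ⟨a, ha, hma, c, hc, e⟩ := hm (s * v * s⁻¹) (Δ.Uexc_le_U hi (Δ.nU_conj_Uexc hi hv))
  have hcU : c ∈ Uexc D F (D.simple i) := hle hc
  have haU : a ∈ Uexc D F (D.simple i) := by
    have : a = (s * v * s⁻¹) * c⁻¹ := by rw [e]; group
    rw [this]
    exact Subgroup.mul_mem _ (Δ.nU_conj_Uexc hi hv) (Subgroup.inv_mem _ hcU)
  refine ⟨s⁻¹ * a * s, Δ.Uexc_le_U hi (Δ.nU_inv_conj_Uexc hi haU), ?_,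
    s⁻¹ * c * s * xU Δ.hB (D.simple i) t, ?_, ?_⟩
  · have e1 : m * s * (s⁻¹ * a * s) * (m * s)⁻¹ = m * a * m⁻¹ := by group
    rw [e1]; exact hma
  · have h1 := hconj c hc
    rw [inv_inv] at h1
    exact Subgroup.mul_mem _ h1 (hxp t)
  · have e2 : s⁻¹ * a * s * (s⁻¹ * c * s * xU Δ.hB (D.simple i) t) =
        s⁻¹ * (a * c) * s * xU Δ.hB (D.simple i) t := by group
    rw [e2, ← e]; group

end BNData

end Cfsg.Agent.Helper6
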