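import Mathlib
import Cfsg.Agent.Helper6.Chev.BruhatNF

set_option autoImplicit false
set_option linter.unusedSectionVars false
set_option linter.unusedSimpArgs false
set_option linter.unusedVariables false

/-!
The sharp form of the Bruhat decomposition: `g = b n u` with `u ∈ U_w⁻`; existence and uniqueness.
-/

namespace Cfsg.Agent.Helper6

open Cfsg.Lie
open Cfsg.Agent.Helper2.BN

variable {D : ChevalleyDatum} {F : Type*} [Field F]

namespace BNData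

variable (Δ : BNData D F)

/-- membership in a double coset of the `(B, N)`-pair, in terms of matrices -/
theorem mem_C_iff_val {n x : ↥(D.group F)} :
    x ∈ C Δ.bnPair n ↔ ∃ b₁ ∈ D.borelSubgroup F, ∃ b₂ ∈ D.borelSubgroup F,
      (x : GL D.Idx F) = b₁ * (n : GL D.Idx F) * b₂ := by
  rw [mem_C_iff]
  constructor
  · rintro ⟨b, hb, b', hb', rfl⟩
    exact ⟨b, Subgroup.mem_subgroupOf.1 hb, b', Subgroup.mem_subgroupOf.1 hb', rfl⟩
  · rintro ⟨b₁, hb₁, b₂, hb₂, e⟩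
    refine ⟨⟨b₁, Δ.borel_le_group hb₁⟩, Subgroup.mem_subgroupOf.2 hb₁,
      ⟨b₂, Δ.borel_le_group hb₂⟩, Subgroup.mem_subgroupOf.2 hb₂, ?_⟩
    apply Subtype.ext
    rw [e]; rfl

theorem mem_N_iff_val {n : ↥(D.group F)} :
    n ∈ Δ.bnPair.N ↔ (n : GL D.Idx F) ∈ D.monomialSubgroup F := Subgroup.mem_subgroupOf

theorem mem_B_iff_val {b : ↥(D.group F)} :
    b ∈ Δ.bnPair.B ↔ (b : GL D.Idx F) ∈ D.borelSubgroup F := Subgroup.mem_subgroupOf

theorem mem_H_iff_val {h : ↥(D.group F)} :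
    h ∈ H Δ.bnPair ↔ (h : GL D.Idx F) ∈ D.diagonalSubgroup F := by
  rw [mem_H_iff, Δ.mem_N_iff_val, Δ.mem_B_iff_val, ← Δ.inf_eq]
  rfl

include Δ in
theorem isPosRoot_neg {r : ℕ} (hr : D.IsNegRoot r) : D.IsPosRoot (D.neg r) := by
  have h1 := ((Δ.hsign r hr.1).2).1 hr
  have hlt : D.neg r < D.nroots := (Δ.hB.neg r hr.1).1
  exact (Δ.hsign' _ hlt).2 (Δ.hnegpos hr.1 h1)

/-- if right multiplication by the fundamental reflection `s` does not shorten `m`, then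
`m X_p m⁻¹ ≤ U` -/
theorem pos_of_len_le {i : ℕ} (hi : i < D.rank) {m s : ↥(D.group F)} (hm : m ∈ Δ.bnPair.N)
    (hs : (s : GL D.Idx F) = nU Δ.hB (D.simple i) (one_ne_zero (α := F)))
    (hlen : len Δ.bnPair Δ.bnPair.S m ≤ len Δ.bnPair Δ.bnPair.S (m * s)) (t : F) :
    (m : GL D.Idx F) * xU Δ.hB (D.simple i) t * (m : GL D.Idx F)⁻¹ ∈ D.posUnipotent F := by
  have hA := Δ.hAll i hi
  have hp := hA.hS.1
  have hmN := Δ.mem_N_iff_val.1 hm
  obtain ⟨σ, cc, hσ⟩ := Δ.rootPermP_of_mem hmN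
  obtain ⟨h1, h2, h3⟩ := hσ (D.simple i) hp
  obtain ⟨h1', _, h3'⟩ := hσ (D.neg (D.simple i)) (Δ.hB.neg _ hp).1
  rcases Δ.pos_or_neg h1 with hpos | hneg
  · rw [h3]; exact Δ.xU_pos_mem hpos _
  · exfalso
    have hSS : Δ.bnPair.S ⊆ Δ.bnPair.S := subset_refl _
    have hsS : s ∈ Δ.bnPair.S := ⟨i, hi, by rw [hs, nU_val]⟩
    have hsN : s ∈ Δ.bnPair.N := Δ.bnPair.subset hsS
    have hsimple : Simple Δ.bnPair Δ.bnPair.S s := simple_of_mem hsS
    have hm'N : m * s ∈ Δ.bnPair.N := Subgroup.mul_mem _ hm hsN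
    -- claim 1
    have claim1 : ∀ b ∈ Δ.bnPair.B, m * s * b * s ∈ C Δ.bnPair (m * s * s) := by
      intro b hb
      have hb' := Δ.mem_B_iff_val.1 hb
      obtain ⟨v, hv, h, hh, t', e⟩ := borel_decomp Δ.hB Δ.hF Δ.hn Δ.hAll Δ.hAdd Δ.hH Δ.hReach hi
        (Δ.hR i hi) (Δ.hWp i hi) Δ.hC Δ.hsign' (Δ.hpN i hi) (Δ.hnp hi)
        (Subgroup.inv_mem _ hb')
      have eb : (b : GL D.Idx F) = xU Δ.hB (D.simple i) (-t') * h⁻¹ * v⁻¹ := by
        have : (b : GL D.Idx F) = ((b : GL D.Idx F)⁻¹)⁻¹ := (inv_inv _).symm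
        rw [this, e, mul_inv_rev, mul_inv_rev, xU_inv, mul_assoc]
      rw [Δ.mem_C_iff_val]
      set sU := nU Δ.hB (D.simple i) (one_ne_zero (α := F)) with hsU
      set mU := (m : GL D.Idx F) with hmU
      refine ⟨mU * sU * xU Δ.hB (D.simple i) (-t') * (mU * sU)⁻¹, ?_,
        sU⁻¹ * h⁻¹ * sU * (sU⁻¹ * v⁻¹ * sU), ?_, ?_⟩
      · apply Δ.posUnipotent_le_borel
        have e1 : mU * sU * xU Δ.hB (D.simple i) (-t') * (mU * sU)⁻¹ =
            mU * (sU * xU Δ.hB (D.simple i) (-t') * sU⁻¹) * mU⁻¹ := by group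
        rw [e1, nU_conj_xU Δ.hB hA hp]
        have hwpp : wR D (D.simple i) (D.simple i) = D.neg (D.simple i) := by
          unfold wR; rw [if_pos rfl]
        rw [hwpp, h3', h2]
        exact Δ.xU_pos_mem (Δ.isPosRoot_neg hneg) _
      · apply Subgroup.mul_mem
        · apply Δ.diag_le_borel
          have hsUN : sU⁻¹ ∈ D.monomialSubgroup F :=
            Subgroup.inv_mem _ (nU_one_mem_monomial Δ.hB hp)
          have hnorm := monomial_le_normalizer Δ.hB Δ.hAll Δ.hH Δ.hReach hsUN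
          have := ((Subgroup.mem_normalizer_iff.1 hnorm) h⁻¹).1 (Subgroup.inv_mem _ hh)
          rwa [inv_inv] at this
        · exact Uexc_le_borel Δ.hB Δ.hF Δ.hn Δ.hAll Δ.hAdd Δ.hH Δ.hReach hi (Δ.hR i hi)
            (Δ.hWp i hi) Δ.hC Δ.hsign' (Δ.hpN i hi) (Δ.hnp hi)
            (Δ.nU_inv_conj_Uexc hi (Subgroup.inv_mem _ hv))
      · simp only [Subgroup.coe_mul, hs, eb]
        rw [hmU]
        group
    -- claim 2
    have hlen2 : len Δ.bnPair Δ.bnPair.S (s⁻¹ * (m * s)⁻¹) ≤ len Δ.bnPair Δ.bnPair.S (m * s)⁻¹ := by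
      have e1 : s⁻¹ * (m * s)⁻¹ = (m * (s * s))⁻¹ := by group
      rw [e1, len_inv hSS, len_inv hSS, len_mul_H (sq_mem_H hsS)]
      exact hlen
    obtain ⟨y, hy, hsy⟩ := L2 (Subgroup.inv_mem _ hm'N) (hsimple.inv hSS) hlen2
    have hx : y⁻¹ ∈ C Δ.bnPair (m * s) := by
      have := inv_mem_C Δ.bnPair hy
      rwa [inv_inv] at this
    have hxs : y⁻¹ * s ∈ C Δ.bnPair (m * s) := by
      have := inv_mem_C Δ.bnPair hsy
      rw [inv_inv] at this
      have e2 : (s⁻¹ * y)⁻¹ = y⁻¹ * s := by group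
      rwa [e2] at this
    obtain ⟨b₁, hb₁, b₂, hb₂, e⟩ := (mem_C_iff Δ.bnPair).1 hx
    have hxs2 : y⁻¹ * s ∈ C Δ.bnPair (m * s * s) := by
      have e3 : y⁻¹ * s = b₁ * (m * s * b₂ * s) := by rw [e]; group
      rw [e3]
      exact mul_mem_C Δ.bnPair hb₁ (claim1 b₂ hb₂)
    have hCeq : C Δ.bnPair (m * s) = C Δ.bnPair (m * s * s) := by
      rw [← C_eq_of_mem Δ.bnPair hxs, C_eq_of_mem Δ.bnPair hxs2]
    have hH := bruhat_unique hm'N (Subgroup.mul_mem _ hm'N hsN) hCeq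
    have e4 : (m * s)⁻¹ * (m * s * s) = s := by group
    rw [e4] at hH
    exact not_mem_B_of_mem_S hsS (H_le_B Δ.bnPair hH)

/-- the decomposition `U = (U ∩ n⁻¹ U n) U_w⁻` for every `n ∈ N` -/
theorem adec_of_len : ∀ (k : ℕ) (n : ↥(D.group F)), n ∈ Δ.bnPair.N →
    len Δ.bnPair Δ.bnPair.S n = k → Adec D F (n : GL D.Idx F) := by
  have hSS : Δ.bnPair.S ⊆ Δ.bnPair.S := subset_refl _
  intro k
  induction k with
  | zero =>
    intro n hn hk
    have hH := (len_eq_zero_iff hSS (mem_NJS_iff.2 hn)).1 hk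
    exact Δ.adec_diag (Δ.mem_H_iff_val.1 hH)
  | succ k ih =>
    intro n hn hk
    obtain ⟨r, m, hr, hm, rfl, hlm⟩ := peel_right hSS (mem_NJS_iff.2 hn) hk
    have hmN : m ∈ Δ.bnPair.N := mem_NJS_iff.1 hm
    obtain ⟨s, hsS, hsr⟩ := hr
    obtain ⟨i, hi, hsv⟩ := hsS
    have hs := Δ.coe_of_mem_Sset hsv
    have hsS : s ∈ Δ.bnPair.S := ⟨i, hi, hsv⟩
    have e : m * r = m * s * (s⁻¹ * r) := by group
    have hlen : len Δ.bnPair Δ.bnPair.S m ≤ len Δ.bnPair Δ.bnPair.S (m * s) := by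
      have e2 : m * s = m * r * (s⁻¹ * r)⁻¹ := by group
      rw [e2, len_mul_H (Subgroup.inv_mem _ hsr), hk, hlm]
      omega
    have h1 := Δ.adec_step hi (Δ.mem_N_iff_val.1 hmN) (ih m hmN hlm)
      (fun t => Δ.pos_of_len_le hi hmN hs hlen t)
    have h2 := Δ.adec_mul_diag h1 (Δ.mem_H_iff_val.1 hsr)
    rw [e]
    simp only [Subgroup.coe_mul]
    rw [hs]
    simpa only [Subgroup.coe_mul, Subgroup.coe_inv, hs] using h2

include Δ in
theorem adec_of_mem {n : GL D.Idx F} (hn : n ∈ D.monomialSubgroup F) : Adec D F n :=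
  Δ.adec_of_len _ ⟨n, Δ.monomial_le_group hn⟩ (Δ.mem_N_iff_val.2 hn) rfl

include Δ in
/-- existence of the normal form -/
theorem exists_normal_form {g : GL D.Idx F} (hg : g ∈ D.group F) :
    ∃ b ∈ D.borelSubgroup F, ∃ n ∈ D.monomialSubgroup F,
      ∃ u ∈ Subgroup.closure (UnegGen D F n), g = b * n * u := by
  obtain ⟨n, hn, hgn⟩ := exists_mem_C (P := Δ.bnPair) ⟨g, hg⟩
  have hnN := Δ.mem_N_iff_val.1 hn
  obtain ⟨b₁, hb₁, b₂, hb₂, e⟩ := Δ.mem_C_iff_val.1 hgn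
  change g = b₁ * (n : GL D.Idx F) * b₂ at e
  -- `b₂ = u h`
  have hb₂' : b₂ ∈ ((D.posUnipotent F ⊔ D.diagonalSubgroup F : Subgroup (GL D.Idx F)) :
      Set (GL D.Idx F)) := hb₂
  rw [Subgroup.coe_mul_of_right_le_normalizer_left _ _
    (diagonal_le_normalizer_posUnipotent Δ.hB Δ.hAll Δ.hAdd Δ.hH), Set.mem_mul] at hb₂'
  obtain ⟨u, hu, h, hh, rfl⟩ := hb₂'
  -- `u h = h (h⁻¹ u h)`
  have hu' : h⁻¹ * u * h ∈ D.posUnipotent F := by
    have := Δ.diag_conj_posUnipotent (Subgroup.inv_mem _ hh) hu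
    rwa [inv_inv] at this
  obtain ⟨a, ha, hna, c, hc, e2⟩ := Δ.adec_of_mem hnN _ hu'
  have hnorm := monomial_le_normalizer Δ.hB Δ.hAll Δ.hH Δ.hReach hnN
  have hnh : (n : GL D.Idx F) * h * (n : GL D.Idx F)⁻¹ ∈ D.diagonalSubgroup F :=
    ((Subgroup.mem_normalizer_iff.1 hnorm) h).1 hh
  refine ⟨b₁ * ((n : GL D.Idx F) * h * (n : GL D.Idx F)⁻¹) *
    ((n : GL D.Idx F) * a * (n : GL D.Idx F)⁻¹), ?_, n, hnN, c, hc, ?_⟩
  · exact Subgroup.mul_mem _ (Subgroup.mul_mem _ hb₁ (Δ.diag_le_borel hnh))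
      (Δ.posUnipotent_le_borel hna)
  · rw [e]
    have e3 : u * h = h * (h⁻¹ * u * h) := by group
    rw [e3, e2]
    group

include Δ in
/-- uniqueness of the normal form -/
theorem normal_form_unique {b b' n n' u u' : GL D.Idx F} (hb : b ∈ D.borelSubgroup F)
    (hb' : b' ∈ D.borelSubgroup F) (hn : n ∈ D.monomialSubgroup F)
    (hn' : n' ∈ D.monomialSubgroup F) (hu : u ∈ Subgroup.closure (UnegGen D F n))
    (hu' : u' ∈ Subgroup.closure (UnegGen D F n')) (e : b * n * u = b' * n' * u') :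
    n⁻¹ * n' ∈ D.diagonalSubgroup F ∧ (n = n' → b = b' ∧ u = u') := by
  have huB : u ∈ D.borelSubgroup F :=
    Δ.posUnipotent_le_borel (Δ.unegGen_le_posUnipotent n hu)
  have hu'B : u' ∈ D.borelSubgroup F :=
    Δ.posUnipotent_le_borel (Δ.unegGen_le_posUnipotent n' hu')
  constructor
  · let nG : ↥(D.group F) := ⟨n, Δ.monomial_le_group hn⟩
    let nG' : ↥(D.group F) := ⟨n', Δ.monomial_le_group hn'⟩
    have hgG : b * n * u ∈ D.group F :=
      Subgroup.mul_mem _ (Subgroup.mul_mem _ (Δ.borel_le_group hb) (Δ.monomial_le_group hn))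
        (Δ.borel_le_group huB)
    let g : ↥(D.group F) := ⟨b * n * u, hgG⟩
    have h1 : g ∈ C Δ.bnPair nG := Δ.mem_C_iff_val.2 ⟨b, hb, u, huB, rfl⟩
    have h2 : g ∈ C Δ.bnPair nG' := Δ.mem_C_iff_val.2 ⟨b', hb', u', hu'B, e⟩
    have hC : C Δ.bnPair nG = C Δ.bnPair nG' := by
      rw [← C_eq_of_mem Δ.bnPair h1, C_eq_of_mem Δ.bnPair h2]
    have hH := bruhat_unique (Δ.mem_N_iff_val.2 hn) (Δ.mem_N_iff_val.2 hn') hC
    exact Δ.mem_H_iff_val.1 hH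
  · rintro rfl
    have hc : u' * u⁻¹ ∈ Subgroup.closure (UnegGen D F n) :=
      Subgroup.mul_mem _ hu' (Subgroup.inv_mem _ hu)
    have hV := Δ.conj_uneg_mem hc
    have e1 : n * (u' * u⁻¹) * n⁻¹ = b'⁻¹ * b := by
      have : b'⁻¹ * b = b'⁻¹ * (b * n * u) * u⁻¹ * n⁻¹ := by group
      rw [this, e]; group
    have hmem : b'⁻¹ * b ∈ D.borelSubgroup F ⊓ D.negUnipotent F :=
      ⟨Subgroup.mul_mem _ (Subgroup.inv_mem _ hb') hb, by rw [← e1]; exact hV⟩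
    rw [borel_inf_negUnipotent Δ.hB Δ.hH Δ.good2, Subgroup.mem_bot] at hmem
    have hbb : b = b' := by
      have : b = b' * (b'⁻¹ * b) := by group
      rw [this, hmem, mul_one]
    refine ⟨hbb, ?_⟩
    rw [hmem] at e1
    have : u' * u⁻¹ = n⁻¹ * (n * (u' * u⁻¹) * n⁻¹) * n := by group
    rw [e1] at this
    have h3 : u' * u⁻¹ = 1 := by rw [this]; group
    exact (mul_inv_eq_one.1 h3).symm

end BNData

end Cfsg.Agent.Helper6
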