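import Mathlib
import Cfsg.Agent.Helper6.Chev.TablesOrd
import Cfsg.Agent.Helper6.Chev.TablesComm
import Cfsg.Agent.Helper6.Chev.TablesW0

set_option autoImplicit false
set_option linter.unusedSectionVars false
set_option linter.unusedSimpArgs false
set_option linter.unusedVariables false

/-!
Unique ordered product expression in `U`, for the tabulated data.
-/

namespace Cfsg.Agent.Helper6

open Cfsg.Lie

variable {D : ChevalleyDatum} {F : Type*} [Field F]

theorem posUnipotent_eq_Uge (hD : IsTabulated D) : D.posUnipotent F = Uge D F (D.nroots / 2) := by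
  have hsign := sign_iff_of_tabulated hD
  unfold ChevalleyDatum.posUnipotent Uge
  congr 1
  ext g
  constructor
  · rintro ⟨r, t, hr, hg⟩
    exact ⟨r, t, ((hsign r hr.1).1).1 hr, hr.1, hg⟩
  · rintro ⟨r, t, h1, h2, hg⟩
    exact ⟨r, t, ((hsign r h2).1).2 h1, hg⟩

/-- existence and uniqueness of the ordered product expression, in terms of `range'` -/
theorem uprod_of_tabulated (hD : IsTabulated D) :
    (∀ g ∈ D.posUnipotent F, ∃ t : ℕ → F,
      g = wordU (basicOK_of_tabulated hD) ((List.range' (D.nroots / 2) (D.nroots / 2)).map fun r => (r, t r))) ∧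
    (∀ t t' : ℕ → F,
      wordU (basicOK_of_tabulated hD) ((List.range' (D.nroots / 2) (D.nroots / 2)).map fun r => (r, t r)) =
        wordU (basicOK_of_tabulated hD) ((List.range' (D.nroots / 2) (D.nroots / 2)).map fun r => (r, t' r)) →
      ∀ r, D.nroots / 2 ≤ r → r < D.nroots → t r = t' r) ∧
    (∀ t : ℕ → F,
      wordU (basicOK_of_tabulated hD) ((List.range' (D.nroots / 2) (D.nroots / 2)).map fun r => (r, t r)) ∈
        D.posUnipotent F) := by
  have hB := basicOK_of_tabulated hD
  have hF := fastOK_of_tabulated hD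
  have hO := ordOK_of_tabulated hD
  obtain ⟨lam, Λ, M, h1, h2, h3, h4, h5⟩ := hO.ex
  have hsign := sign_iff_of_tabulated hD
  have hC : ∀ r < D.nroots, ∀ s < D.nroots, s ≠ r → s ≠ D.neg r → CommF D F r s :=
    fun r hr s hs e1 e2 => commF_of_tabulated hD hr hs e1 e2
  have hneg : ∀ r < D.nroots, D.nroots / 2 ≤ r → D.neg r < D.nroots / 2 := by
    intro r hr hN
    have e : D.neg r = negF D r := by rw [negF_eq hF.chk]
    rw [e]
    unfold negF
    have : Nat.blt r D.nroots = true := by rw [Nat.blt_eq]; exact hr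
    rw [this, cond_true]
    have := hO.even
    change D.nroots - 1 - r < D.nroots / 2
    omega
  rw [posUnipotent_eq_Uge hD]
  refine ⟨?_, ?_, ?_⟩
  · intro g hg
    exact exists_word_of_mem_Uge hB hF h5 hC hneg _ _ le_rfl hO.even g hg
  · intro t t' h
    exact word_unique hB hF h1 h2 h3 h4 _ _ le_rfl hO.even t t' h
  · intro t
    apply wordU_mem_Uge hB
    intro p hp
    rw [List.mem_map] at hp
    obtain ⟨r, hr, rfl⟩ := hp
    rw [List.mem_range'_1] at hr
    have := hO.even
    exact ⟨hr.1, by simp only; omega⟩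

end Cfsg.Agent.Helper6
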