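import Mathlib
import Cfsg.Agent.Helper6.Chev.BNPairDef
import Cfsg.Agent.Helper6.Chev.Longest
import Cfsg.Agent.Helper2.BN.Simple

set_option autoImplicit false
set_option linter.unusedSectionVars false
set_option linter.unusedSimpArgs false
set_option linter.unusedVariables false

/-!
Irreducibility of the `(B, N)`-pair of a Chevalley group with connected Dynkin diagram, and the
simplicity of the group from Tits' criterion.
-/

namespace Cfsg.Agent.Helper6

open Cfsg.Lie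

variable {D : ChevalleyDatum} {F : Type*} [Field F]

/-- `s_i s_j s_i s_j` on root indices -/
def wR4 (D : ChevalleyDatum) (i j r : ℕ) : ℕ :=
  wR D (D.simple i) (wR D (D.simple j) (wR D (D.simple i) (wR D (D.simple j) r)))

/-- the positive root `r` is made negative by `s_i s_j s_i s_j` -/
def adjChk (D : ChevalleyDatum) (i j r : ℕ) : Bool :=
  Nat.blt r D.nroots && Nat.ble (D.nroots / 2) r && Nat.blt (wR4 D i j r) (D.nroots / 2)

/-- `adj` lists pairs of nodes whose reflections do not commute (with a witness root), and every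
proper non-empty set of nodes of the Dynkin diagram (a bit mask) has a listed pair with first node
inside and second node outside -/
def connChk (D : ChevalleyDatum) (adj : List (ℕ × ℕ × ℕ)) : Bool :=
  (adj.all fun e => Nat.blt e.1 D.rank && Nat.blt e.2.1 D.rank && adjChk D e.1 e.2.1 e.2.2) &&
  allLt (2 ^ D.rank) fun m =>
    (m == 0) || (m == 2 ^ D.rank - 1) || adj.any fun e => m.testBit e.1 && !m.testBit e.2.1

namespace BNData

variable (Δ : BNData D F)

include Δ in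
theorem exists_conj_nU {i : ℕ} (hi : i < D.rank) {s : ℕ} (hs : s < D.nroots) (t : F) :
    ∃ c : F, c * c = 1 ∧
      nU Δ.hB (D.simple i) (one_ne_zero (α := F)) * xU Δ.hB s t *
        (nU Δ.hB (D.simple i) (one_ne_zero (α := F)))⁻¹ = xU Δ.hB (wR D (D.simple i) s) (c * t) :=
  ⟨_, etaR_sq Δ.hB (Δ.hAll i hi) hs, nU_conj_xU Δ.hB (Δ.hAll i hi) hs t⟩

include Δ in
theorem exists_inv_conj_nU {i : ℕ} (hi : i < D.rank) {s : ℕ} (hs : s < D.nroots) (t : F) :
    ∃ c : F, c * c = 1 ∧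
      (nU Δ.hB (D.simple i) (one_ne_zero (α := F)))⁻¹ * xU Δ.hB s t *
        nU Δ.hB (D.simple i) (one_ne_zero (α := F)) = xU Δ.hB (wR D (D.simple i) s) (c * t) :=
  ⟨_, etaR_sq Δ.hB (Δ.hAll i hi) (wR_lt Δ.hB (Δ.hAll i hi).hS.1 (Δ.hAll i hi).hR hs),
    nU_inv_conj_xU Δ.hB (Δ.hAll i hi) hs t⟩

include Δ in
theorem comm_not_mem_borel {i j r : ℕ} (hi : i < D.rank) (hj : j < D.rank)
    (h : adjChk D i j r = true) :
    nU Δ.hB (D.simple i) (one_ne_zero (α := F)) * nU Δ.hB (D.simple j) (one_ne_zero (α := F)) *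
      (nU Δ.hB (D.simple i) (one_ne_zero (α := F)))⁻¹ *
      (nU Δ.hB (D.simple j) (one_ne_zero (α := F)))⁻¹ ∉ D.borelSubgroup F := by
  intro hw
  unfold adjChk at h
  simp only [Bool.and_eq_true, Nat.ble_eq, Nat.blt_eq] at h
  obtain ⟨⟨hr, hpos⟩, hneg⟩ := h
  have hAi := Δ.hAll i hi
  have hAj := Δ.hAll j hj
  have h1 := wR_lt Δ.hB hAj.hS.1 hAj.hR hr
  have h2 := wR_lt Δ.hB hAi.hS.1 hAi.hR h1
  have h3 := wR_lt Δ.hB hAj.hS.1 hAj.hR h2
  have h4 := wR_lt Δ.hB hAi.hS.1 hAi.hR h3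
  obtain ⟨c1, hc1, e1⟩ := Δ.exists_inv_conj_nU hj hr (1 : F)
  obtain ⟨c2, hc2, e2⟩ := Δ.exists_inv_conj_nU hi h1 (c1 * 1)
  obtain ⟨c3, hc3, e3⟩ := Δ.exists_conj_nU hj h2 (c2 * (c1 * 1))
  obtain ⟨c4, hc4, e4⟩ := Δ.exists_conj_nU hi h3 (c3 * (c2 * (c1 * 1)))
  have hx : xU Δ.hB r (1 : F) ∈ D.borelSubgroup F := by
    unfold ChevalleyDatum.borelSubgroup ChevalleyDatum.posUnipotent
    apply Subgroup.mem_sup_left
    exact Subgroup.subset_closure ⟨r, 1, (Δ.hsign' r hr).2 hpos, rfl⟩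
  have hconj := Subgroup.mul_mem _ (Subgroup.mul_mem _ hw hx) (Subgroup.inv_mem _ hw)
  have e : nU Δ.hB (D.simple i) (one_ne_zero (α := F)) * nU Δ.hB (D.simple j) (one_ne_zero (α := F)) *
      (nU Δ.hB (D.simple i) (one_ne_zero (α := F)))⁻¹ *
      (nU Δ.hB (D.simple j) (one_ne_zero (α := F)))⁻¹ * xU Δ.hB r (1 : F) *
      (nU Δ.hB (D.simple i) (one_ne_zero (α := F)) * nU Δ.hB (D.simple j) (one_ne_zero (α := F)) *
      (nU Δ.hB (D.simple i) (one_ne_zero (α := F)))⁻¹ *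
      (nU Δ.hB (D.simple j) (one_ne_zero (α := F)))⁻¹)⁻¹ =
      nU Δ.hB (D.simple i) (one_ne_zero (α := F)) * (nU Δ.hB (D.simple j) (one_ne_zero (α := F)) *
        ((nU Δ.hB (D.simple i) (one_ne_zero (α := F)))⁻¹ *
          ((nU Δ.hB (D.simple j) (one_ne_zero (α := F)))⁻¹ * xU Δ.hB r (1 : F) *
            nU Δ.hB (D.simple j) (one_ne_zero (α := F))) *
          nU Δ.hB (D.simple i) (one_ne_zero (α := F))) *
        (nU Δ.hB (D.simple j) (one_ne_zero (α := F)))⁻¹) *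
      (nU Δ.hB (D.simple i) (one_ne_zero (α := F)))⁻¹ := by group
  rw [e, e1, e2, e3, e4] at hconj
  have h0 := Δ.eq_zero_of_xU_neg_mem_borel h4 hneg hconj
  have hu : (c4 * (c3 * (c2 * (c1 * 1)))) * (c4 * (c3 * (c2 * (c1 * 1)))) = 1 := by
    calc (c4 * (c3 * (c2 * (c1 * 1)))) * (c4 * (c3 * (c2 * (c1 * 1))))
        = (c4 * c4) * (c3 * c3) * (c2 * c2) * (c1 * c1) := by ring
      _ = 1 := by rw [hc1, hc2, hc3, hc4]; ring
  rw [h0, mul_zero] at hu
  exact zero_ne_one hu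

include Δ in
theorem nU_simple_mem_group {i : ℕ} (hi : i < D.rank) :
    nU Δ.hB (D.simple i) (one_ne_zero (α := F)) ∈ D.group F :=
  Δ.monomial_le_group (nU_one_mem_monomial Δ.hB (Δ.hAll i hi).hS.1)

/-- the `(B, N)`-pair of a Chevalley group with connected Dynkin diagram is irreducible -/
theorem irreducible {adj : List (ℕ × ℕ × ℕ)} (hconn : connChk D adj = true) :
    Δ.bnPair.Irreducible := by
  classical
  intro J hJS hJ hJ'
  let p : ℕ → Prop := fun i => ∃ s ∈ J, ((s : GL D.Idx F) : Matrix D.Idx D.Idx F) =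
    D.nMat F (D.simple i) 1
  let f : Fin D.rank → Bool := fun i => decide (p i.val)
  unfold connChk at hconn
  rw [Bool.and_eq_true] at hconn
  have hadjAll := List.all_eq_true.1 hconn.1
  have hm := allLt_iff.1 hconn.2 (Nat.ofBits f) (Nat.ofBits_lt_two_pow f)
  have hbit : ∀ i (hi : i < D.rank), (Nat.ofBits f).testBit i = decide (p i) := by
    intro i hi
    rw [Nat.testBit_ofBits_lt f i hi]
  obtain ⟨s₀, hs₀⟩ := hJ
  obtain ⟨i₀, hi₀, hsi₀⟩ := hJS hs₀
  have hp₀ : p i₀ := ⟨s₀, hs₀, hsi₀⟩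
  obtain ⟨t₀, ht₀S, ht₀J⟩ := hJ'
  obtain ⟨j₀, hj₀, htj₀⟩ := ht₀S
  have hq₀ : ¬ p j₀ := by
    rintro ⟨s, hs, hsj⟩
    apply ht₀J
    have : s = t₀ := Subtype.ext (Units.ext (by rw [hsj, htj₀]))
    rw [← this]; exact hs
  have hne0 : Nat.ofBits f ≠ 0 := by
    intro h0
    have := hbit i₀ hi₀
    rw [h0, Nat.zero_testBit] at this
    simp only [false_eq_decide_iff] at this
    exact this hp₀
  have hne1 : Nat.ofBits f ≠ 2 ^ D.rank - 1 := by
    intro h1
    have := hbit j₀ hj₀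
    rw [h1, Nat.testBit_two_pow_sub_one] at this
    simp only [hj₀, decide_true, true_eq_decide_iff] at this
    exact hq₀ this
  simp only [Bool.or_eq_true, beq_iff_eq, hne0, hne1, false_or] at hm
  obtain ⟨e, he, hm⟩ := List.any_eq_true.1 hm
  have hade := hadjAll e he
  simp only [Bool.and_eq_true, Nat.blt_eq] at hade
  obtain ⟨⟨hi, hj⟩, hadj⟩ := hade
  obtain ⟨i, j, r⟩ := e
  simp only [Bool.and_eq_true, Bool.not_eq_true', hbit i hi, hbit j hj, decide_eq_true_eq,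
    decide_eq_false_iff_not] at hm
  obtain ⟨⟨s, hsJ, hs⟩, hpj⟩ := hm
  let s' : ↥(D.group F) := ⟨nU Δ.hB (D.simple j) (one_ne_zero (α := F)), Δ.nU_simple_mem_group hj⟩
  have hs'S : s' ∈ Δ.bnPair.S := ⟨j, hj, nU_val Δ.hB (D.simple j) (one_ne_zero (α := F))⟩
  have hs'J : s' ∉ J := fun h => hpj ⟨s', h, nU_val Δ.hB (D.simple j) (one_ne_zero (α := F))⟩
  refine ⟨s, hsJ, s', ⟨hs'S, hs'J⟩, ?_⟩
  intro hmem
  change _ ∈ (D.borelSubgroup F).subgroupOf (D.group F) at hmem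
  rw [Subgroup.mem_subgroupOf] at hmem
  simp only [Subgroup.coe_mul, Subgroup.coe_inv] at hmem
  rw [Δ.coe_of_mem_Sset hs] at hmem
  exact Δ.comm_not_mem_borel hi hj hadj hmem

include Δ in
/-- Tits' simplicity criterion applied to the Chevalley group -/
theorem isSimpleGroup {adj : List (ℕ × ℕ × ℕ)} (hconn : connChk D adj = true) (hn0 : 0 < D.rank)
    (hsolv : Group.IsSolvable ↥(D.borelSubgroup F))
    (hperf : commutator ↥(D.group F) = ⊤)
    (hcore : ((D.borelSubgroup F).subgroupOf (D.group F)).normalCore = ⊥) :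
    IsSimpleGroup ↥(D.group F) ∧ ¬ IsMulCommutative ↥(D.group F) := by
  have hp := (Δ.hAll 0 hn0).hS.1
  have hnt : Nontrivial ↥(D.group F) := by
    refine ⟨⟨⟨xU Δ.hB (D.simple 0) 1, xU_mem_group Δ.hB hp 1⟩, 1, ?_⟩⟩
    intro h
    have h1 : xU Δ.hB (D.simple 0) (1 : F) = 1 := congrArg Subtype.val h
    have h2 := congrArg Units.val h1
    rw [xU_val, Units.val_one, ← torMat_one (D := D)] at h2
    exact one_ne_zero (eq_zero_of_x_eq_torMat Δ.hB hp h2)
  have hsolv' : Group.IsSolvable ↥(Δ.bnPair.B) := by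
    change Group.IsSolvable ↥((D.borelSubgroup F).subgroupOf (D.group F))
    exact Group.isSolvable_of_isSolvable_injective
      (f := (Subgroup.subgroupOfEquivOfLe Δ.borel_le_group).toMonoidHom) (MulEquiv.injective _)
  refine ⟨Cfsg.Agent.Helper2.BN.isSimpleGroup_of_irreducible Δ.bnPair (Δ.irreducible hconn) hsolv'
    hperf hcore, ?_⟩
  intro hcomm
  rw [← commutator_eq_bot_iff, hperf] at hcomm
  exact top_ne_bot hcomm

end BNData

end Cfsg.Agent.Helper6
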