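import Mathlib
import Cfsg.Agent.Helper6.Chev.Irred
import Cfsg.Agent.Helper6.Chev.Tables

set_option autoImplicit false

namespace Cfsg.Agent.Helper6

open Cfsg.Lie

set_option maxRecDepth 100000 in
theorem connChk_of_tabulated {D : ChevalleyDatum} (hD : IsTabulated D) :
    ∃ adj : List (ℕ × ℕ × ℕ), connChk D adj = true := by
  simp only [IsTabulated, List.mem_cons, List.not_mem_nil, or_false] at hD
  rcases hD with rfl | rfl | rfl | rfl | rfl | rfl | rfl
  · exact ⟨[(0, 1, 6), (1, 0, 7)],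
      by decide +kernel⟩
  · exact ⟨[(0, 1, 4), (1, 0, 4)],
      by decide +kernel⟩
  · exact ⟨[(0, 1, 18), (1, 0, 14), (1, 2, 14), (1, 3, 14), (2, 1, 13), (3, 1, 12)],
      by decide +kernel⟩
  · exact ⟨[(0, 1, 33), (1, 0, 27), (1, 2, 25), (2, 1, 25), (2, 3, 25), (3, 2, 24)],
      by decide +kernel⟩
  · exact ⟨[(0, 2, 56), (1, 3, 46), (2, 0, 42), (2, 3, 42), (3, 1, 39), (3, 2, 39), (3, 4, 39), (4, 3, 37), (4, 5, 37), (5, 4, 36)],
      by decide +kernel⟩
  · exact ⟨[(0, 2, 93), (1, 3, 78), (2, 0, 73), (2, 3, 73), (3, 1, 69), (3, 2, 69), (3, 4, 69), (4, 3, 66), (4, 5, 66), (5, 4, 64), (5, 6, 64), (6, 5, 63)],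
      by decide +kernel⟩
  · exact ⟨[(0, 2, 162), (1, 3, 141), (2, 0, 135), (2, 3, 135), (3, 1, 130), (3, 2, 130), (3, 4, 130), (4, 3, 126), (4, 5, 126), (5, 4, 123), (5, 6, 123), (6, 5, 121), (6, 7, 121), (7, 6, 120)],
      by decide +kernel⟩

theorem rank_pos_of_tabulated {D : ChevalleyDatum} (hD : IsTabulated D) : 0 < D.rank := by
  simp only [IsTabulated, List.mem_cons, List.not_mem_nil, or_false] at hD
  rcases hD with rfl | rfl | rfl | rfl | rfl | rfl | rfl <;> decide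

end Cfsg.Agent.Helper6
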