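import Mathlib

set_option autoImplicit false
set_option linter.unusedSectionVars false
set_option linter.unusedSimpArgs false
set_option linter.unusedVariables false

/-!
Counting the kernel of a monomial map `c ↦ (∏ᵢ cᵢ ^ Aᵢⱼ)ⱼ` on a power of a finite cyclic group, from a
Smith normal form of the integer matrix `A`.
-/

namespace Cfsg.Agent.Helper6

variable {C : Type*} [CommGroup C] {l : ℕ}

/-- the monomial map attached to an integer matrix -/
def powHom (C : Type*) [CommGroup C] {l : ℕ} (M : Matrix (Fin l) (Fin l) ℤ) :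
    (Fin l → C) →* (Fin l → C) where
  toFun c j := ∏ i, c i ^ M i j
  map_one' := by
    funext j
    simp
  map_mul' c d := by
    funext j
    simp only [Pi.mul_apply, mul_zpow, Finset.prod_mul_distrib]

theorem zpow_finset_sum {ι : Type*} (s : Finset ι) (c : C) (f : ι → ℤ) :
    c ^ (∑ j ∈ s, f j) = ∏ j ∈ s, c ^ f j := by
  classical
  induction s using Finset.induction_on with
  | empty => simp
  | insert a s ha ih => rw [Finset.sum_insert ha, Finset.prod_insert ha, zpow_add, ih]

theorem powHom_apply (M : Matrix (Fin l) (Fin l) ℤ) (c : Fin l → C) (j : Fin l) :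
    powHom C M c j = ∏ i, c i ^ M i j := rfl

theorem powHom_mul (M N : Matrix (Fin l) (Fin l) ℤ) :
    powHom C (M * N) = (powHom C N).comp (powHom C M) := by
  refine MonoidHom.ext fun c => funext fun k => ?_
  rw [MonoidHom.comp_apply, powHom_apply, powHom_apply]
  simp only [powHom_apply, Matrix.mul_apply]
  have h1 : ∀ i : Fin l, c i ^ (∑ j, M i j * N j k) = ∏ j, (c i ^ M i j) ^ N j k := by
    intro i
    rw [zpow_finset_sum]
    exact Finset.prod_congr rfl (fun j _ => zpow_mul _ _ _)
  rw [Finset.prod_congr rfl (fun i _ => h1 i), Finset.prod_comm]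
  exact Finset.prod_congr rfl (fun j _ => Finset.prod_zpow _ _ _)

theorem powHom_one : powHom C (1 : Matrix (Fin l) (Fin l) ℤ) = MonoidHom.id _ := by
  refine MonoidHom.ext fun c => funext fun j => ?_
  rw [powHom_apply, MonoidHom.id_apply]
  rw [Finset.prod_eq_single j]
  · simp
  · intro i _ hij
    simp [Matrix.one_apply_ne hij]
  · intro h; exact absurd (Finset.mem_univ j) h

theorem powHom_diagonal (d : Fin l → ℤ) (c : Fin l → C) (j : Fin l) :
    powHom C (Matrix.diagonal d) c j = c j ^ d j := by
  rw [powHom_apply, Finset.prod_eq_single j]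
  · simp
  · intro i _ hij
    simp [Matrix.diagonal_apply_ne _ hij]
  · intro h; exact absurd (Finset.mem_univ j) h

theorem powHom_injective_of_mul_eq_one {Q Q' : Matrix (Fin l) (Fin l) ℤ} (h : Q * Q' = 1) :
    Function.Injective (powHom C Q) := by
  have : (powHom C Q').comp (powHom C Q) = MonoidHom.id _ := by
    rw [← powHom_mul, h, powHom_one]
  intro a b hab
  have h1 := DFunLike.congr_fun this a
  have h2 := DFunLike.congr_fun this b
  rw [MonoidHom.comp_apply, MonoidHom.id_apply] at h1 h2
  rw [← h1, ← h2, hab]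

/-- the kernels of `A` and of `P A Q` have the same cardinality when `P`, `Q` are unimodular -/
theorem card_ker_powHom_smith {A P P' Q Q' : Matrix (Fin l) (Fin l) ℤ} (hP : P * P' = 1)
    (hP' : P' * P = 1) (hQ : Q * Q' = 1) :
    Nat.card (powHom C (P * A * Q)).ker = Nat.card (powHom C A).ker := by
  have hinjQ := powHom_injective_of_mul_eq_one (C := C) hQ
  have hPP' : (powHom C P).comp (powHom C P') = MonoidHom.id _ := by
    rw [← powHom_mul, hP', powHom_one]
  have hP'P : (powHom C P').comp (powHom C P) = MonoidHom.id _ := by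
    rw [← powHom_mul, hP, powHom_one]
  have hmem : ∀ c : Fin l → C, c ∈ (powHom C (P * A * Q)).ker ↔ powHom C P c ∈ (powHom C A).ker := by
    intro c
    rw [MonoidHom.mem_ker, MonoidHom.mem_ker, powHom_mul, powHom_mul, MonoidHom.comp_apply,
      MonoidHom.comp_apply]
    constructor
    · intro h
      apply hinjQ
      rw [h, map_one]
    · intro h
      rw [h, map_one]
  apply Nat.card_congr
  refine ⟨fun c => ⟨powHom C P c.1, (hmem c.1).1 c.2⟩,
    fun c => ⟨powHom C P' c.1, (hmem _).2 ?_⟩, ?_, ?_⟩
  · have := DFunLike.congr_fun hPP' c.1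
    rw [MonoidHom.comp_apply, MonoidHom.id_apply] at this
    rw [this]; exact c.2
  · intro c
    apply Subtype.ext
    have := DFunLike.congr_fun hP'P c.1
    rwa [MonoidHom.comp_apply, MonoidHom.id_apply] at this
  · intro c
    apply Subtype.ext
    have := DFunLike.congr_fun hPP' c.1
    rwa [MonoidHom.comp_apply, MonoidHom.id_apply] at this

/-- the kernel of a diagonal monomial map on a power of a finite cyclic group -/
theorem card_ker_powHom_diagonal [Finite C] [IsCyclic C] (d : Fin l → ℕ) :
    Nat.card (powHom C (Matrix.diagonal fun i => (d i : ℤ))).ker = ∏ i, (Nat.card C).gcd (d i) := by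
  have e : (powHom C (Matrix.diagonal fun i => (d i : ℤ))).ker ≃
      ((i : Fin l) → (powMonoidHom (d i) : C →* C).ker) := by
    refine ⟨fun c i => ⟨c.1 i, ?_⟩, fun c => ⟨fun i => (c i).1, ?_⟩, ?_, ?_⟩
    · have := c.2
      rw [MonoidHom.mem_ker] at this
      have h2 := congrFun this i
      rw [powHom_diagonal, zpow_natCast] at h2
      rw [MonoidHom.mem_ker, powMonoidHom_apply]
      exact h2
    · rw [MonoidHom.mem_ker]
      funext i
      rw [powHom_diagonal, zpow_natCast]
      have := (c i).2
      rw [MonoidHom.mem_ker, powMonoidHom_apply] at this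
      exact this
    · intro c; rfl
    · intro c; rfl
  rw [Nat.card_congr e, Nat.card_pi]
  exact Finset.prod_congr rfl (fun i _ => IsCyclic.card_powMonoidHom_ker C (d i))

theorem card_ker_powHom_of_smith [Finite C] [IsCyclic C] {A P P' Q Q' : Matrix (Fin l) (Fin l) ℤ}
    {d : Fin l → ℕ} (hP : P * P' = 1) (hP' : P' * P = 1) (hQ : Q * Q' = 1)
    (hS : P * A * Q = Matrix.diagonal fun i => (d i : ℤ)) :
    Nat.card (powHom C A).ker = ∏ i, (Nat.card C).gcd (d i) := by
  rw [← card_ker_powHom_smith hP hP' hQ, hS, card_ker_powHom_diagonal]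

end Cfsg.Agent.Helper6
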