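import Mathlib
import Cfsg.Agent.Helper6.Chev.Normal
import Cfsg.Agent.Helper6.Chev.TorusCount

set_option autoImplicit false
set_option linter.unusedSectionVars false
set_option linter.unusedSimpArgs false
set_option linter.unusedVariables false

/-!
The order of the diagonal subgroup `H`: `H` is the image of the torus `(Fˣ)^l`, and the kernel is that
of the monomial map attached to the Cartan matrix.
-/

namespace Cfsg.Agent.Helper6

open Cfsg.Lie

variable {D : ChevalleyDatum} {F : Type*} [Field F]

/-- the parameters of a torus element, extended by `1` -/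
def extPar (D : ChevalleyDatum) {F : Type*} [Field F] (c : Fin D.rank → Fˣ) (k : ℕ) : F :=
  if h : k < D.rank then ((c ⟨k, h⟩ : Fˣ) : F) else 1

theorem extPar_ne_zero (c : Fin D.rank → Fˣ) (k : ℕ) : extPar D c k ≠ 0 := by
  unfold extPar
  split_ifs
  · exact Units.ne_zero _
  · exact one_ne_zero

theorem extPar_mul (c d : Fin D.rank → Fˣ) :
    (fun i => extPar D c i * extPar D d i) = extPar D (c * d) := by
  funext i
  unfold extPar
  split_ifs
  · simp
  · simp

theorem extPar_one : extPar D (1 : Fin D.rank → Fˣ) = fun _ => (1 : F) := by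
  funext i
  unfold extPar
  split_ifs <;> simp

/-- the torus homomorphism `(Fˣ)^l → GL` -/
def torHom (D : ChevalleyDatum) (F : Type*) [Field F] : (Fin D.rank → Fˣ) →* GL D.Idx F where
  toFun c := ⟨torMat D F (extPar D c), torMat D F (extPar D c⁻¹),
    by rw [torMat_mul, extPar_mul, mul_inv_cancel, extPar_one, torMat_one],
    by rw [torMat_mul, extPar_mul, inv_mul_cancel, extPar_one, torMat_one]⟩
  map_one' := Units.ext (by simp only [extPar_one, torMat_one, Units.val_one])
  map_mul' c d := Units.ext (by simp only [Units.val_mul, torMat_mul, extPar_mul])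

theorem torHom_val (c : Fin D.rank → Fˣ) :
    ((torHom D F c : GL D.Idx F) : Matrix D.Idx D.Idx F) = torMat D F (extPar D c) := rfl

theorem torMat_congr {c d : ℕ → F} (h : ∀ i < D.rank, c i = d i) : torMat D F c = torMat D F d := by
  unfold torMat
  congr 1
  funext u
  unfold torChar
  exact Finset.prod_congr rfl (fun i hi => by rw [h i (Finset.mem_range.1 hi)])

/-- `H` is the image of the torus -/
theorem range_torHom (hB : BasicOK D) (hA : ∀ i < D.rank, SimpleAll D i)
    (hH : ∀ r < D.nroots, HDiag D F r (aOf D r)) :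
    (torHom D F).range = D.diagonalSubgroup F := by
  apply le_antisymm
  · rintro g ⟨c, rfl⟩
    exact mem_diagonal_of_val_eq_torMat hB hA (fun i _ => extPar_ne_zero c i) (torHom_val c)
  · intro g hg
    obtain ⟨c, hc, hv⟩ := exists_torMat_of_mem_diagonal hB hH hg
    refine ⟨fun i => Units.mk0 (c i.val) (hc i.val), ?_⟩
    apply Units.ext
    rw [torHom_val, hv]
    apply torMat_congr
    intro i hi
    unfold extPar
    rw [dif_pos hi]
    rfl

theorem torMat_eq_one_iff {c : ℕ → F} :
    torMat D F c = 1 ↔ ∀ u < D.nroots, torChar D c u = 1 := by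
  unfold torMat dMat
  rw [← Matrix.diagonal_one, Matrix.diagonal_eq_diagonal_iff]
  constructor
  · intro h u hu
    have := h (Sum.inr ⟨u, hu⟩)
    simpa using this
  · intro h x
    rcases x with j | s
    · rfl
    · simpa using h s.val s.isLt

/-- the character values at all roots are trivial once they are trivial at the fundamental roots -/
theorem torChar_eq_one_of_simple (hB : BasicOK D) (hA : ∀ i < D.rank, SimpleAll D i)
    {c : ℕ → F} (hc : ∀ k, c k ≠ 0) (h : ∀ j < D.rank, torChar D c (D.simple j) = 1)
    {u : ℕ} (hu : Reach D u) : torChar D c u = 1 := by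
  induction hu with
  | simple hi => exact h _ hi
  | @step i s hi hs _ ih =>
    have hAi := hA i hi
    have hws := wR_lt hB hAi.hS.1 hAi.hR hs
    have hcart : ∀ k ∈ Finset.range D.rank, D.cartan k (wR D (D.simple i) s) =
        D.cartan k s + (-D.cartan i s) * D.cartan k (D.simple i) := by
      intro k hk
      have := hAi.hC.cart k (Finset.mem_range.1 hk) _ hws
      rw [wR_wR hB hAi hs] at this
      rw [this]; ring
    unfold torChar
    have h1 : ∀ k ∈ Finset.range D.rank, c k ^ D.cartan k (wR D (D.simple i) s) =
        c k ^ D.cartan k s * (c k ^ D.cartan k (D.simple i)) ^ (-D.cartan i s) := by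
      intro k hk
      rw [hcart k hk, zpow_add₀ (hc k), mul_comm (-D.cartan i s), zpow_mul]
    rw [Finset.prod_congr rfl h1, Finset.prod_mul_distrib, Finset.prod_zpow]
    have e1 : ∏ k ∈ Finset.range D.rank, c k ^ D.cartan k s = 1 := ih
    have e2 : ∏ k ∈ Finset.range D.rank, c k ^ D.cartan k (D.simple i) = 1 := h i hi
    rw [e1, e2, one_zpow, mul_one]

/-- the Cartan matrix of the datum -/
def cartanMat (D : ChevalleyDatum) : Matrix (Fin D.rank) (Fin D.rank) ℤ :=
  Matrix.of fun i j => D.cartan i.val (D.simple j.val)

theorem torChar_extPar_simple (c : Fin D.rank → Fˣ) (j : Fin D.rank) :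
    torChar D (extPar D c) (D.simple j.val) = ((powHom Fˣ (cartanMat D) c j : Fˣ) : F) := by
  unfold torChar
  rw [powHom_apply, Units.coe_prod, Finset.prod_range]
  apply Finset.prod_congr rfl
  intro i _
  unfold extPar
  rw [dif_pos i.isLt, Units.val_zpow_eq_zpow_val]
  rfl

/-- the kernel of the torus homomorphism -/
theorem ker_torHom (hB : BasicOK D) (hA : ∀ i < D.rank, SimpleAll D i)
    (hReach : ∀ r < D.nroots, Reach D r) :
    (torHom D F).ker = (powHom Fˣ (cartanMat D)).ker := by
  ext c
  rw [MonoidHom.mem_ker, MonoidHom.mem_ker]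
  constructor
  · intro h
    have h1 := congrArg Units.val h
    rw [torHom_val, Units.val_one, torMat_eq_one_iff] at h1
    funext j
    apply Units.ext
    rw [← torChar_extPar_simple, h1 _ (hA j.val j.isLt).hS.1]
    rfl
  · intro h
    apply Units.ext
    rw [torHom_val, Units.val_one, torMat_eq_one_iff]
    intro u hu
    apply torChar_eq_one_of_simple hB hA (extPar_ne_zero c) _ (hReach u hu)
    intro j hj
    have := torChar_extPar_simple c ⟨j, hj⟩
    rw [this, h]
    rfl

/-- `|ker| · |H| = (q - 1)^l` -/
theorem card_ker_mul_card_diagonal [Fintype F] (hB : BasicOK D) (hA : ∀ i < D.rank, SimpleAll D i)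
    (hH : ∀ r < D.nroots, HDiag D F r (aOf D r)) (hReach : ∀ r < D.nroots, Reach D r) :
    Nat.card (powHom Fˣ (cartanMat D)).ker * Nat.card (D.diagonalSubgroup F) =
      (Fintype.card F - 1) ^ D.rank := by
  rw [← ker_torHom hB hA hReach, ← range_torHom hB hA hH, ← Subgroup.index_ker,
    Subgroup.card_mul_index, Nat.card_fun, Nat.card_units, Nat.card_eq_fintype_card,
    Nat.card_eq_fintype_card, Fintype.card_fin]

end Cfsg.Agent.Helper6
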