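import Mathlib
import Cfsg.Agent.Helper6.Chev.TorusCard
import Cfsg.Agent.Helper6.Chev.Tables

set_option autoImplicit false
set_option linter.unusedSectionVars false
set_option linter.unusedSimpArgs false
set_option linter.unusedVariables false

/-!
Smith normal forms of the Cartan matrices of the tabulated data, and the order of the kernel of the
torus homomorphism.
-/

namespace Cfsg.Agent.Helper6

open Cfsg.Lie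

variable (C : Type*) [CommGroup C] [Finite C] [IsCyclic C]

set_option maxRecDepth 100000 in
theorem card_ker_G2 : Nat.card (powHom C (cartanMat chevG2)).ker =
    ∏ i : Fin 2, (Nat.card C).gcd ((![1, 1] : Fin 2 → ℕ) i) :=
  card_ker_powHom_of_smith (l := 2) (A := cartanMat chevG2)
    (P := !![0, -1; 1, 2])
    (P' := !![2, 1; -1, 0])
    (Q := !![1, 2; 0, 1])
    (Q' := !![1, -2; 0, 1])
    (d := ![1, 1])
    (by decide +kernel) (by decide +kernel) (by decide +kernel) (by decide +kernel)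

set_option maxRecDepth 100000 in
theorem card_ker_B2 : Nat.card (powHom C (cartanMat chevB2)).ker =
    ∏ i : Fin 2, (Nat.card C).gcd ((![1, 2] : Fin 2 → ℕ) i) :=
  card_ker_powHom_of_smith (l := 2) (A := cartanMat chevB2)
    (P := !![0, -1; 1, 2])
    (P' := !![2, 1; -1, 0])
    (Q := !![1, 2; 0, 1])
    (Q' := !![1, -2; 0, 1])
    (d := ![1, 2])
    (by decide +kernel) (by decide +kernel) (by decide +kernel) (by decide +kernel)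

set_option maxRecDepth 100000 in
theorem card_ker_D4 : Nat.card (powHom C (cartanMat chevD4)).ker =
    ∏ i : Fin 4, (Nat.card C).gcd ((![1, 1, 2, 2] : Fin 4 → ℕ) i) :=
  card_ker_powHom_of_smith (l := 4) (A := cartanMat chevD4)
    (P := !![-1, 0, 0, 0; -2, -1, 0, 0; -3, -2, -1, 0; 2, 2, 1, 1])
    (P' := !![-1, 0, 0, 0; 2, -1, 0, 0; -1, 2, -1, 0; -1, 0, 1, 1])
    (Q := !![0, 0, 0, 1; 1, 0, 0, 2; 0, 1, -1, 1; 0, 0, 1, 2])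
    (Q' := !![-2, 1, 0, 0; -3, 0, 1, 1; -2, 0, 0, 1; 1, 0, 0, 0])
    (d := ![1, 1, 2, 2])
    (by decide +kernel) (by decide +kernel) (by decide +kernel) (by decide +kernel)

set_option maxRecDepth 100000 in
theorem card_ker_F4 : Nat.card (powHom C (cartanMat chevF4)).ker =
    ∏ i : Fin 4, (Nat.card C).gcd ((![1, 1, 1, 1] : Fin 4 → ℕ) i) :=
  card_ker_powHom_of_smith (l := 4) (A := cartanMat chevF4)
    (P := !![-1, 0, 0, 0; 1, 0, -1, 0; -2, -1, 0, 0; -2, -2, -2, -1])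
    (P' := !![-1, 0, 0, 0; 2, 0, -1, 0; -1, -1, 0, 0; 0, 2, 2, -1])
    (Q := !![0, 0, 1, -2; 1, 0, 2, -4; 0, 0, 2, -3; 0, 1, 2, -2])
    (Q' := !![-2, 1, 0, 0; 2, 0, -2, 1; -3, 0, 2, 0; -2, 0, 1, 0])
    (d := ![1, 1, 1, 1])
    (by decide +kernel) (by decide +kernel) (by decide +kernel) (by decide +kernel)

set_option maxRecDepth 100000 in
theorem card_ker_E6 : Nat.card (powHom C (cartanMat chevE6)).ker =
    ∏ i : Fin 6, (Nat.card C).gcd ((![1, 1, 1, 1, 1, 3] : Fin 6 → ℕ) i) :=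
  card_ker_powHom_of_smith (l := 6) (A := cartanMat chevE6)
    (P := !![-1, 0, 0, 0, 0, 0; 0, -1, 0, 0, 0, 0; 1, -2, 0, -1, 0, 0; 2, -3, 0, -2, -1, 0; -2, 1, -1, 0, 0, 0; -5, 0, -4, -3, -2, -1])
    (P' := !![-1, 0, 0, 0, 0, 0; 0, -1, 0, 0, 0, 0; 2, -1, 0, 0, -1, 0; -1, 2, -1, 0, 0, 0; 0, -1, 2, -1, 0, 0; 0, 0, -1, 2, 4, -1])
    (Q := !![0, 0, 0, 0, 1, -2; 0, 0, 0, 0, 2, -3; 1, 0, 0, 0, 2, -4; 0, 1, 0, 0, 4, -6; 0, 0, 1, 0, 4, -5; 0, 0, 0, 1, 4, -4])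
    (Q' := !![-2, 0, 1, 0, 0, 0; 0, -2, 0, 1, 0, 0; 2, -3, 0, 0, 1, 0; 4, -4, 0, 0, 0, 1; -3, 2, 0, 0, 0, 0; -2, 1, 0, 0, 0, 0])
    (d := ![1, 1, 1, 1, 1, 3])
    (by decide +kernel) (by decide +kernel) (by decide +kernel) (by decide +kernel)

set_option maxRecDepth 100000 in
theorem card_ker_E7 : Nat.card (powHom C (cartanMat chevE7)).ker =
    ∏ i : Fin 7, (Nat.card C).gcd ((![1, 1, 1, 1, 1, 1, 2] : Fin 7 → ℕ) i) :=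
  card_ker_powHom_of_smith (l := 7) (A := cartanMat chevE7)
    (P := !![-1, 0, 0, 0, 0, 0, 0; 0, -1, 0, 0, 0, 0, 0; 1, -2, 0, -1, 0, 0, 0; 2, -3, 0, -2, -1, 0, 0; 3, -4, 0, -3, -2, -1, 0; -2, 1, -1, 0, 0, 0, 0; -4, -1, -4, -4, -3, -2, -1])
    (P' := !![-1, 0, 0, 0, 0, 0, 0; 0, -1, 0, 0, 0, 0, 0; 2, -1, 0, 0, 0, -1, 0; -1, 2, -1, 0, 0, 0, 0; 0, -1, 2, -1, 0, 0, 0; 0, 0, -1, 2, -1, 0, 0; 0, 0, 0, -1, 2, 4, -1])
    (Q := !![0, 0, 0, 0, 0, 1, -2; 0, 0, 0, 0, 0, 2, -3; 1, 0, 0, 0, 0, 2, -4; 0, 1, 0, 0, 0, 4, -6; 0, 0, 1, 0, 0, 4, -5; 0, 0, 0, 1, 0, 4, -4; 0, 0, 0, 0, 1, 4, -3])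
    (Q' := !![-2, 0, 1, 0, 0, 0, 0; 0, -2, 0, 1, 0, 0, 0; 2, -3, 0, 0, 1, 0, 0; 4, -4, 0, 0, 0, 1, 0; 6, -5, 0, 0, 0, 0, 1; -3, 2, 0, 0, 0, 0, 0; -2, 1, 0, 0, 0, 0, 0])
    (d := ![1, 1, 1, 1, 1, 1, 2])
    (by decide +kernel) (by decide +kernel) (by decide +kernel) (by decide +kernel)

set_option maxRecDepth 100000 in
theorem card_ker_E8 : Nat.card (powHom C (cartanMat chevE8)).ker =
    ∏ i : Fin 8, (Nat.card C).gcd ((![1, 1, 1, 1, 1, 1, 1, 1] : Fin 8 → ℕ) i) :=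
  card_ker_powHom_of_smith (l := 8) (A := cartanMat chevE8)
    (P := !![-1, 0, 0, 0, 0, 0, 0, 0; 0, -1, 0, 0, 0, 0, 0, 0; 1, -2, 0, -1, 0, 0, 0, 0; 2, -3, 0, -2, -1, 0, 0, 0; 3, -4, 0, -3, -2, -1, 0, 0; 4, -5, 0, -4, -3, -2, -1, 0; -2, 1, -1, 0, 0, 0, 0, 0; -3, -2, -4, -5, -4, -3, -2, -1])
    (P' := !![-1, 0, 0, 0, 0, 0, 0, 0; 0, -1, 0, 0, 0, 0, 0, 0; 2, -1, 0, 0, 0, 0, -1, 0; -1, 2, -1, 0, 0, 0, 0, 0; 0, -1, 2, -1, 0, 0, 0, 0; 0, 0, -1, 2, -1, 0, 0, 0; 0, 0, 0, -1, 2, -1, 0, 0; 0, 0, 0, 0, -1, 2, 4, -1])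
    (Q := !![0, 0, 0, 0, 0, 0, 1, -2; 0, 0, 0, 0, 0, 0, 2, -3; 1, 0, 0, 0, 0, 0, 2, -4; 0, 1, 0, 0, 0, 0, 4, -6; 0, 0, 1, 0, 0, 0, 4, -5; 0, 0, 0, 1, 0, 0, 4, -4; 0, 0, 0, 0, 1, 0, 4, -3; 0, 0, 0, 0, 0, 1, 4, -2])
    (Q' := !![-2, 0, 1, 0, 0, 0, 0, 0; 0, -2, 0, 1, 0, 0, 0, 0; 2, -3, 0, 0, 1, 0, 0, 0; 4, -4, 0, 0, 0, 1, 0, 0; 6, -5, 0, 0, 0, 0, 1, 0; 8, -6, 0, 0, 0, 0, 0, 1; -3, 2, 0, 0, 0, 0, 0, 0; -2, 1, 0, 0, 0, 0, 0, 0])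
    (d := ![1, 1, 1, 1, 1, 1, 1, 1])
    (by decide +kernel) (by decide +kernel) (by decide +kernel) (by decide +kernel)

end Cfsg.Agent.Helper6
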