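import Mathlib
import Cfsg.Agent.Helper6.Chev.UProd
import Cfsg.Agent.Helper6.Chev.CommTrans

set_option autoImplicit false
set_option linter.unusedSectionVars false
set_option linter.unusedSimpArgs false
set_option linter.unusedVariables false

/-!
Root subgroups lie in the derived subgroup of the Chevalley group: the generic lemmas.
-/

namespace Cfsg.Agent.Helper6

open Cfsg.Lie
open scoped commutatorElement

variable {D : ChevalleyDatum} {F : Type*} [Field F]

/-- the root subgroup `X_r` lies in the derived subgroup of the Chevalley group -/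
def InDer (hB : BasicOK D) (F : Type*) [Field F] (r : ℕ) : Prop :=
  ∀ t : F, xU hB r t ∈ ⁅D.group F, D.group F⁆

theorem commWordU_mem (hB : BasicOK D) {a b : ℕ} (ha : a < D.nroots) (hb : b < D.nroots)
    (hC : CommF D F a b) (t u : F) :
    wordU hB (D.commWord F a b t u) ∈ ⁅D.group F, D.group F⁆ := by
  have e : wordU hB (D.commWord F a b t u) = ⁅(xU hB b u)⁻¹, (xU hB a t)⁻¹⁆ := by
    have h1 : xU hB b u * xU hB a t = xU hB a t * xU hB b u * wordU hB (D.commWord F a b t u) := by
      apply Units.ext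
      simp only [Units.val_mul, xU_val, wordU_val]
      exact hC t u
    rw [commutatorElement_def, inv_inv, inv_inv]
    calc wordU hB (D.commWord F a b t u)
        = (xU hB a t * xU hB b u)⁻¹ * (xU hB a t * xU hB b u * wordU hB (D.commWord F a b t u)) := by
          group
      _ = (xU hB a t * xU hB b u)⁻¹ * (xU hB b u * xU hB a t) := by rw [h1]
      _ = _ := by group
  rw [e]
  exact Subgroup.commutator_mem_commutator (Subgroup.inv_mem _ (xU_mem_group hB hb u))
    (Subgroup.inv_mem _ (xU_mem_group hB ha t))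

theorem wordU_cons (hB : BasicOK D) (p : ℕ × F) (w : List (ℕ × F)) :
    wordU hB (p :: w) = xU hB p.1 p.2 * wordU hB w := by
  unfold wordU
  simp only [List.map_cons, List.prod_cons]

theorem wordU_nil (hB : BasicOK D) : wordU hB ([] : List (ℕ × F)) = 1 := by
  unfold wordU
  simp

/-- a single-term commutator `[x_b(u), x_a(t)] = x_r(± t u)` puts `X_r` in the derived subgroup -/
theorem inDer_of_single (hB : BasicOK D) {a b r : ℕ} {c : ℤ} (ha : a < D.nroots) (hb : b < D.nroots)
    (hC : CommF D F a b) (hT : D.commTerms a b = [(r, c, 1, 1)]) (hc : c * c = 1) :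
    InDer hB F r := by
  intro t
  have h := commWordU_mem hB ha hb hC (-(c : F) * t) 1
  have hcF : (c : F) * (c : F) = 1 := by exact_mod_cast congrArg (fun z : ℤ => (z : F)) hc
  have e : D.commWord F a b (-(c : F) * t) 1 = [(r, t)] := by
    unfold ChevalleyDatum.commWord
    rw [hT]
    simp only [List.map_cons, List.map_nil, pow_one, mul_one, neg_mul, neg_neg]
    rw [← mul_assoc, hcF, one_mul]
  rw [e, wordU_cons, wordU_nil, mul_one] at h
  exact h

theorem wordU_mem_of_inDer (hB : BasicOK D) (w : List (ℕ × F)) (hw : ∀ p ∈ w, InDer hB F p.1) :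
    wordU hB w ∈ ⁅D.group F, D.group F⁆ := by
  unfold wordU
  apply Subgroup.list_prod_mem
  intro g hg
  simp only [List.mem_map] at hg
  obtain ⟨p, hp, rfl⟩ := hg
  exact hw p hp p.2

/-- the two-term trick: if `[x_b(u), x_a(t)] = x_{r₁}(± t u) x_{r₂}(± t² u) ⋯` with the remaining
factors in the derived subgroup, and the field has an element other than `0, 1`, then `X_{r₁}` and
`X_{r₂}` lie in the derived subgroup -/
theorem inDer_of_double (hB : BasicOK D) {a b r₁ r₂ : ℕ} {c₁ c₂ : ℤ}
    {rest : List (ℕ × ℤ × ℕ × ℕ)} (ha : a < D.nroots) (hb : b < D.nroots)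
    (hC : CommF D F a b) (hT : D.commTerms a b = (r₁, c₁, 1, 1) :: (r₂, c₂, 2, 1) :: rest)
    (hc₁ : c₁ * c₁ = 1) (hc₂ : c₂ * c₂ = 1) (hrest : ∀ p ∈ rest, InDer hB F p.1)
    {l : F} (hl0 : l ≠ 0) (hl1 : l ≠ 1) :
    InDer hB F r₁ ∧ InDer hB F r₂ := by
  have hc₁F : (c₁ : F) * (c₁ : F) = 1 := by exact_mod_cast congrArg (fun z : ℤ => (z : F)) hc₁
  have hc₂F : (c₂ : F) * (c₂ : F) = 1 := by exact_mod_cast congrArg (fun z : ℤ => (z : F)) hc₂
  -- the product of the first two factors lies in the derived subgroup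
  have hv : ∀ t u : F, xU hB r₁ ((c₁ : F) * (-t) * u) * xU hB r₂ ((c₂ : F) * (t * t) * u) ∈
      ⁅D.group F, D.group F⁆ := by
    intro t u
    have h := commWordU_mem hB ha hb hC t u
    have e : D.commWord F a b t u =
        (r₁, (c₁ : F) * (-t) * u) :: (r₂, (c₂ : F) * (t * t) * u) ::
          rest.map fun c => (c.1, (c.2.1 : F) * (-t) ^ c.2.2.1 * u ^ c.2.2.2) := by
      unfold ChevalleyDatum.commWord
      rw [hT]
      simp only [List.map_cons, pow_one, neg_sq, sq, neg_mul_neg]
    rw [e, wordU_cons, wordU_cons, ← mul_assoc] at h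
    have hr : wordU hB (rest.map fun c => (c.1, (c.2.1 : F) * (-t) ^ c.2.2.1 * u ^ c.2.2.2)) ∈
        ⁅D.group F, D.group F⁆ := by
      apply wordU_mem_of_inDer
      intro p hp
      simp only [List.mem_map] at hp
      obtain ⟨q, hq, rfl⟩ := hp
      exact hrest q hq
    exact (Subgroup.mul_mem_cancel_right _ hr).1 h
  have h2 : InDer hB F r₂ := by
    intro s
    have hl1' : l - 1 ≠ 0 := sub_ne_zero.2 hl1
    set u : F := (c₂ : F) * s * (l - 1)⁻¹ with hu
    have h1 := hv 1 u
    have h2 := hv l (u * l⁻¹)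
    have h3 := Subgroup.mul_mem _ (Subgroup.inv_mem _ h1) h2
    have e : (xU hB r₁ ((c₁ : F) * (-1) * u) * xU hB r₂ ((c₂ : F) * (1 * 1) * u))⁻¹ *
        (xU hB r₁ ((c₁ : F) * (-l) * (u * l⁻¹)) * xU hB r₂ ((c₂ : F) * (l * l) * (u * l⁻¹))) =
        xU hB r₂ s := by
      have e1 : (c₁ : F) * (-l) * (u * l⁻¹) = (c₁ : F) * (-1) * u := by
        field_simp
      rw [e1]
      have hg : ∀ (A B B' : GL D.Idx F), (A * B)⁻¹ * (A * B') = B⁻¹ * B' := by intros; group
      rw [hg, xU_inv, xU_mul]
      congr 1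
      have : (c₂ : F) * (l * l) * (u * l⁻¹) = (c₂ : F) * u * l := by field_simp
      rw [this, hu]
      have : -((c₂ : F) * (1 * 1) * ((c₂ : F) * s * (l - 1)⁻¹)) + (c₂ : F) * ((c₂ : F) * s * (l - 1)⁻¹) * l
          = ((c₂ : F) * (c₂ : F)) * s * ((l - 1) * (l - 1)⁻¹) := by ring
      rw [this, hc₂F, mul_inv_cancel₀ hl1', one_mul, mul_one]
    rw [e] at h3
    exact h3
  refine ⟨?_, h2⟩
  intro s
  have h1 := hv (-(c₁ : F) * s) 1
  have h3 := (Subgroup.mul_mem_cancel_right _ (h2 _)).1 h1
  have e : (c₁ : F) * (-(-(c₁ : F) * s)) * 1 = s := by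
    rw [mul_one, neg_mul, neg_neg, ← mul_assoc, hc₁F, one_mul]
  rw [e] at h3
  exact h3

/-- the Chevalley group is perfect once all its root subgroups lie in its derived subgroup -/
theorem commutator_eq_top_of_inDer (hB : BasicOK D) (h : ∀ r < D.nroots, InDer hB F r) :
    commutator ↥(D.group F) = ⊤ := by
  have hle : D.group F ≤ ⁅D.group F, D.group F⁆ := by
    unfold ChevalleyDatum.group
    rw [Subgroup.closure_le]
    rintro g ⟨r, t, hg⟩
    have : g = xU hB r.val t := by
      apply Units.ext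
      rw [hg, xU_val, x_of_lt r.isLt]
    rw [this]
    exact h r.val r.isLt t
  rw [eq_top_iff]
  intro x _
  have hx : (x : GL D.Idx F) ∈ ⁅D.group F, D.group F⁆ := hle x.2
  rw [← Subgroup.map_subtype_commutator] at hx
  obtain ⟨y, hy, hxy⟩ := hx
  have : y = x := Subtype.ext hxy
  rw [← this]
  exact hy

end Cfsg.Agent.Helper6
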