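import Cfsg.Agent.Helper6.Chev.TablesCommG2

set_option autoImplicit false

namespace Cfsg.Agent.Helper6

open Cfsg.Lie

set_option maxRecDepth 100000 in
theorem reach2ChkR_G2_0 : reach2ChkR chevG2 (ceLit chevG2 commPRow_G2) (wLit commW_G2 chevG2.nroots)
    (eLit commE_G2 chevG2.nroots) (depLit commDepRow_G2) commBases_G2 (12 * 0) 12 = true := by
  decide +kernel

end Cfsg.Agent.Helper6
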