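import Mathlib

set_option autoImplicit false
set_option linter.unusedSectionVars false
set_option linter.unusedSimpArgs false
set_option linter.unusedVariables false

/-!
Polynomials as coefficient lists, to verify polynomial identities by computation.
-/

namespace Cfsg.Agent.Helper6

def plEval : List ℤ → ℤ → ℤ
  | [], _ => 0
  | c :: p, q => c + q * plEval p q

def plAdd : List ℤ → List ℤ → List ℤ
  | [], b => b
  | a :: p, [] => a :: p
  | x :: a, y :: b => (x + y) :: plAdd a b

def plSmul (c : ℤ) : List ℤ → List ℤ
  | [] => []
  | a :: p => (c * a) :: plSmul c p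

def plMul : List ℤ → List ℤ → List ℤ
  | [], _ => []
  | c :: a, b => plAdd (plSmul c b) (0 :: plMul a b)

/-- `X^n` -/
def plMono : ℕ → List ℤ
  | 0 => [1]
  | n + 1 => 0 :: plMono n

/-- `X^d - 1` -/
def plXpowm1 (d : ℕ) : List ℤ := plAdd (plMono d) [-1]

def plProd : List (List ℤ) → List ℤ
  | [] => [1]
  | a :: Ls => plMul a (plProd Ls)

/-- the generating polynomial of the lengths of a list of words -/
def plLen : List (List ℕ) → List ℤ
  | [] => []
  | x :: X => plAdd (plMono x.length) (plLen X)

theorem plEval_plAdd (a b : List ℤ) (q : ℤ) : plEval (plAdd a b) q = plEval a q + plEval b q := by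
  induction a generalizing b with
  | nil => simp [plAdd, plEval]
  | cons x a ih =>
    cases b with
    | nil => simp [plAdd, plEval]
    | cons y b =>
      simp only [plAdd, plEval, ih]
      ring

theorem plEval_plSmul (c : ℤ) (a : List ℤ) (q : ℤ) : plEval (plSmul c a) q = c * plEval a q := by
  induction a with
  | nil => simp [plSmul, plEval]
  | cons x a ih =>
    simp only [plSmul, plEval, ih]
    ring

theorem plEval_plMul (a b : List ℤ) (q : ℤ) : plEval (plMul a b) q = plEval a q * plEval b q := by
  induction a with
  | nil => simp [plMul, plEval]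
  | cons x a ih =>
    simp only [plMul, plEval_plAdd, plEval_plSmul, plEval, ih]
    ring

theorem plEval_plMono (n : ℕ) (q : ℤ) : plEval (plMono n) q = q ^ n := by
  induction n with
  | zero => simp [plMono, plEval]
  | succ n ih =>
    simp only [plMono, plEval, ih]
    ring

theorem plEval_plXpowm1 (d : ℕ) (q : ℤ) : plEval (plXpowm1 d) q = q ^ d - 1 := by
  unfold plXpowm1
  rw [plEval_plAdd, plEval_plMono]
  simp [plEval]
  ring

theorem plEval_plProd (Ls : List (List ℤ)) (q : ℤ) :
    plEval (plProd Ls) q = (Ls.map fun p => plEval p q).prod := by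
  induction Ls with
  | nil => simp [plProd, plEval]
  | cons a Ls ih =>
    simp only [plProd, plEval_plMul, ih, List.map_cons, List.prod_cons]

theorem plEval_plLen (X : List (List ℕ)) (q : ℤ) :
    plEval (plLen X) q = (X.map fun x => q ^ x.length).sum := by
  induction X with
  | nil => simp [plLen, plEval]
  | cons x X ih =>
    simp only [plLen, plEval_plAdd, plEval_plMono, ih, List.map_cons, List.sum_cons]

/-- the polynomial identity behind the order formulas -/
theorem poly_identity (q : ℕ) (hq : 1 ≤ q) (l : ℕ) (Xs : List (List (List ℕ))) (ds : List ℕ)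
    (h : plProd (List.replicate l [-1, 1] ++ Xs.map plLen) = plProd (ds.map plXpowm1)) :
    (q - 1) ^ l * (Xs.map fun X => (X.map fun x => q ^ x.length).sum).prod =
      (ds.map fun d => q ^ d - 1).prod := by
  have h1 := congrArg (fun p => plEval p (q : ℤ)) h
  simp only [plEval_plProd, List.map_append, List.prod_append, List.map_replicate,
    List.prod_replicate, List.map_map] at h1
  apply Nat.cast_injective (R := ℤ)
  rw [Nat.cast_mul, Nat.cast_pow, Nat.cast_sub hq, Nat.cast_one, Nat.cast_list_prod,
    Nat.cast_list_prod, List.map_map, List.map_map]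
  have e1 : plEval [-1, 1] (q : ℤ) = (q : ℤ) - 1 := by simp [plEval]; ring
  rw [e1] at h1
  have e2 : (fun p => plEval p (q : ℤ)) ∘ plLen =
      (Nat.cast : ℕ → ℤ) ∘ fun X : List (List ℕ) => (X.map fun x => q ^ x.length).sum := by
    funext X
    simp only [Function.comp, plEval_plLen, Nat.cast_list_sum, List.map_map]
    congr 1
  have e3 : (fun p => plEval p (q : ℤ)) ∘ plXpowm1 = (Nat.cast : ℕ → ℤ) ∘ fun d => q ^ d - 1 := by
    funext d
    simp only [Function.comp, plEval_plXpowm1]
    rw [Nat.cast_sub (Nat.one_le_pow _ _ hq), Nat.cast_pow, Nat.cast_one]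
  rw [e2, e3] at h1
  exact h1

end Cfsg.Agent.Helper6
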