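import Mathlib
import Cfsg.Agent.Helper6.Chev.BruhatNF2

set_option autoImplicit false
set_option linter.unusedSectionVars false
set_option linter.unusedSimpArgs false
set_option linter.unusedVariables false

/-!
The size of `U_w⁻`: `|U_w⁻| = q^{N(w)}`, `N(w)` the number of positive roots made negative.
-/

namespace Cfsg.Agent.Helper6

open Cfsg.Lie
open Cfsg.Agent.Helper2.BN

variable {D : ChevalleyDatum} {F : Type*} [Field F]

open Classical in
/-- the positive roots made negative by `n` -/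
noncomputable def invSet (D : ChevalleyDatum) (F : Type*) [Field F] (n : GL D.Idx F) : Finset ℕ :=
  (Finset.range D.nroots).filter fun r => D.IsPosRoot r ∧
    (D.rootSubgroup F r).map (MulAut.conj n).toMonoidHom ≤ D.negUnipotent F

namespace BNData

variable (Δ : BNData D F)

include Δ in
theorem mem_invSet {n : GL D.Idx F} {r : ℕ} :
    r ∈ invSet D F n ↔ D.IsPosRoot r ∧ ∀ t : F, n * xU Δ.hB r t * n⁻¹ ∈ D.negUnipotent F := by
  classical
  unfold invSet
  simp only [Finset.mem_filter, Finset.mem_range, map_conj_le_iff Δ.hB]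
  constructor
  · rintro ⟨_, h⟩; exact h
  · intro h; exact ⟨h.1.1, h⟩

include Δ in
theorem mem_unegGen_iff' {n x : GL D.Idx F} :
    x ∈ UnegGen D F n ↔ ∃ r ∈ invSet D F n, ∃ t : F, x = xU Δ.hB r t := by
  rw [Δ.mem_unegGen_iff]
  constructor
  · rintro ⟨r, t, h1, h2, rfl⟩
    exact ⟨r, Δ.mem_invSet.2 ⟨h1, h2⟩, t, rfl⟩
  · rintro ⟨r, hr, t, rfl⟩
    obtain ⟨h1, h2⟩ := Δ.mem_invSet.1 hr
    exact ⟨r, t, h1, h2, rfl⟩

include Δ in
theorem conj_mul_diag_iff {n h : GL D.Idx F} (hh : h ∈ D.diagonalSubgroup F) {r : ℕ}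
    (hr : r < D.nroots) (K : Subgroup (GL D.Idx F)) :
    (∀ t : F, n * h * xU Δ.hB r t * (n * h)⁻¹ ∈ K) ↔ ∀ t : F, n * xU Δ.hB r t * n⁻¹ ∈ K := by
  constructor
  · intro H t
    obtain ⟨d, hd⟩ := Δ.diag_conj_xU (Subgroup.inv_mem _ hh) hr
    have e : n * xU Δ.hB r t * n⁻¹ = n * h * (h⁻¹ * xU Δ.hB r t * h⁻¹⁻¹) * (n * h)⁻¹ := by group
    rw [e, hd]
    exact H _
  · intro H t
    obtain ⟨d, hd⟩ := Δ.diag_conj_xU hh hr
    have e : n * h * xU Δ.hB r t * (n * h)⁻¹ = n * (h * xU Δ.hB r t * h⁻¹) * n⁻¹ := by group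
    rw [e, hd]
    exact H _

include Δ in
theorem invSet_mul_diag {n h : GL D.Idx F} (hh : h ∈ D.diagonalSubgroup F) :
    invSet D F (n * h) = invSet D F n := by
  ext r
  rw [Δ.mem_invSet, Δ.mem_invSet]
  constructor
  · rintro ⟨h1, h2⟩
    exact ⟨h1, (Δ.conj_mul_diag_iff hh h1.1 _).1 h2⟩
  · rintro ⟨h1, h2⟩
    exact ⟨h1, (Δ.conj_mul_diag_iff hh h1.1 _).2 h2⟩

include Δ in
theorem unegGen_mul_diag {n h : GL D.Idx F} (hh : h ∈ D.diagonalSubgroup F) :
    UnegGen D F (n * h) = UnegGen D F n := by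
  ext x
  rw [Δ.mem_unegGen_iff', Δ.mem_unegGen_iff', Δ.invSet_mul_diag hh]

include Δ in
/-- an element of `U` taken into `V` by `n` lies in `U_w⁻` -/
theorem mem_uneg_of_conj_mem {n : GL D.Idx F} (hn : n ∈ D.monomialSubgroup F) {u : GL D.Idx F}
    (hu : u ∈ D.posUnipotent F) (hV : n * u * n⁻¹ ∈ D.negUnipotent F) :
    u ∈ Subgroup.closure (UnegGen D F n) := by
  obtain ⟨a, ha, hna, c, hc, rfl⟩ := Δ.adec_of_mem hn u hu
  have hcV := Δ.conj_uneg_mem hc
  have hmem : n * a * n⁻¹ ∈ D.borelSubgroup F ⊓ D.negUnipotent F := by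
    refine ⟨Δ.posUnipotent_le_borel hna, ?_⟩
    have e : n * a * n⁻¹ = (n * (a * c) * n⁻¹) * (n * c * n⁻¹)⁻¹ := by group
    rw [e]
    exact Subgroup.mul_mem _ hV (Subgroup.inv_mem _ hcV)
  rw [borel_inf_negUnipotent Δ.hB Δ.hH Δ.good2, Subgroup.mem_bot] at hmem
  have ha1 : a = 1 := by
    have e : a = n⁻¹ * (n * a * n⁻¹) * n := by group
    rw [e, hmem]; group
  rw [ha1, one_mul]
  exact hc

include Δ in
/-- no positive root subgroup is taken into both `U` and `V` -/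
theorem not_pos_and_neg {m : GL D.Idx F} {r : ℕ} (hr : r < D.nroots)
    (h1 : m * xU Δ.hB r 1 * m⁻¹ ∈ D.posUnipotent F)
    (h2 : m * xU Δ.hB r 1 * m⁻¹ ∈ D.negUnipotent F) : False := by
  have hmem : m * xU Δ.hB r 1 * m⁻¹ ∈ D.borelSubgroup F ⊓ D.negUnipotent F :=
    ⟨Δ.posUnipotent_le_borel h1, h2⟩
  rw [borel_inf_negUnipotent Δ.hB Δ.hH Δ.good2, Subgroup.mem_bot] at hmem
  have : xU Δ.hB r (1 : F) = 1 := by
    have e : xU Δ.hB r (1 : F) = m⁻¹ * (m * xU Δ.hB r 1 * m⁻¹) * m := by group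
    rw [e, hmem]; group
  exact Δ.xU_one_ne_one hr this

include Δ in
theorem invSet_diag {h : GL D.Idx F} (hh : h ∈ D.diagonalSubgroup F) : invSet D F h = ∅ := by
  rw [Finset.eq_empty_iff_forall_notMem]
  intro r hr
  obtain ⟨h1, h2⟩ := Δ.mem_invSet.1 hr
  obtain ⟨d, hd⟩ := Δ.diag_conj_xU hh h1.1
  apply Δ.not_pos_and_neg h1.1 _ (h2 1)
  rw [hd]
  exact Δ.xU_pos_mem h1 _

include Δ in
theorem x_simple_mem_Uexc_iff {i : ℕ} (hi : i < D.rank) {a : F}
    (h : xU Δ.hB (D.simple i) a ∈ Uexc D F (D.simple i)) : a = 0 := by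
  have hA := Δ.hAll i hi
  have hp := hA.hS.1
  have h1 := Δ.nU_conj_Uexc hi h
  rw [nU_conj_xU Δ.hB hA hp] at h1
  have hwpp : wR D (D.simple i) (D.simple i) = D.neg (D.simple i) := by
    unfold wR; rw [if_pos rfl]
  rw [hwpp] at h1
  have h2 := Δ.eq_zero_of_xU_neg_mem_borel (Δ.hB.neg _ hp).1 (Δ.hnp hi)
    (Δ.posUnipotent_le_borel (Δ.Uexc_le_U hi h1))
  have h3 := etaR_sq (F := F) Δ.hB hA hp
  have : a = ((etaR D (D.simple i) (D.simple i) : ℤ) : F) *
      (((etaR D (D.simple i) (D.simple i) : ℤ) : F) * a) := by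
    rw [← mul_assoc, h3, one_mul]
  rw [this, h2, mul_zero]

section step

variable {i : ℕ} (hi : i < D.rank) {m : GL D.Idx F} (hmN : m ∈ D.monomialSubgroup F)
  (hpos : ∀ t : F, m * xU Δ.hB (D.simple i) t * m⁻¹ ∈ D.posUnipotent F)

include Δ hi hmN hpos

theorem simple_not_mem_invSet : D.simple i ∉ invSet D F m := by
  intro h
  have hp := (Δ.hAll i hi).hS.1
  exact Δ.not_pos_and_neg hp (hpos 1) ((Δ.mem_invSet.1 h).2 1)

theorem conj_step_simple (t : F) :
    m * nU Δ.hB (D.simple i) (one_ne_zero (α := F)) * xU Δ.hB (D.simple i) t *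
      (m * nU Δ.hB (D.simple i) (one_ne_zero (α := F)))⁻¹ ∈ D.negUnipotent F := by
  have hA := Δ.hAll i hi
  have hp := hA.hS.1
  set s := nU Δ.hB (D.simple i) (one_ne_zero (α := F)) with hs
  have e : m * s * xU Δ.hB (D.simple i) t * (m * s)⁻¹ =
      m * (s * xU Δ.hB (D.simple i) t * s⁻¹) * m⁻¹ := by group
  rw [e, nU_conj_xU Δ.hB hA hp]
  have hwpp : wR D (D.simple i) (D.simple i) = D.neg (D.simple i) := by
    unfold wR; rw [if_pos rfl]
  rw [hwpp]
  obtain ⟨σ, cc, hσ⟩ := Δ.rootPermP_of_mem hmN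
  obtain ⟨h1, h2, h3⟩ := hσ (D.simple i) hp
  obtain ⟨h1', _, h3'⟩ := hσ (D.neg (D.simple i)) (Δ.hB.neg _ hp).1
  rw [h3', h2]
  have hσpos : D.IsPosRoot (σ (D.simple i)) := by
    rcases Δ.pos_or_neg h1 with h | h
    · exact h
    · exfalso
      apply Δ.not_pos_and_neg hp (hpos 1)
      rw [h3]; exact Δ.xU_neg_mem h _
  exact Δ.xU_neg_mem (Δ.isNegRoot_neg hσpos) _

theorem invSet_step :
    invSet D F (m * nU Δ.hB (D.simple i) (one_ne_zero (α := F))) =
      insert (D.simple i) ((invSet D F m).image (wR D (D.simple i))) := by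
  have hA := Δ.hAll i hi
  have hp := hA.hS.1
  have hppos : D.IsPosRoot (D.simple i) := (Δ.hsign' _ hp).2 (Δ.hpN i hi)
  set s := nU Δ.hB (D.simple i) (one_ne_zero (α := F)) with hs
  have hnot := Δ.simple_not_mem_invSet hi hmN hpos
  -- the conjugation formula
  have hconj : ∀ r, r < D.nroots → ∀ t : F, m * s * xU Δ.hB r t * (m * s)⁻¹ =
      m * xU Δ.hB (wR D (D.simple i) r) (((etaR D (D.simple i) r : ℤ) : F) * t) * m⁻¹ := by
    intro r hr t
    have e : m * s * xU Δ.hB r t * (m * s)⁻¹ = m * (s * xU Δ.hB r t * s⁻¹) * m⁻¹ := by group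
    rw [e, nU_conj_xU Δ.hB hA hr]
  have hiff : ∀ r, r < D.nroots →
      ((∀ t : F, m * s * xU Δ.hB r t * (m * s)⁻¹ ∈ D.negUnipotent F) ↔
        ∀ t : F, m * xU Δ.hB (wR D (D.simple i) r) t * m⁻¹ ∈ D.negUnipotent F) := by
    intro r hr
    constructor
    · intro H t
      have := H (((etaR D (D.simple i) r : ℤ) : F) * t)
      rw [hconj r hr, ← mul_assoc, etaR_sq Δ.hB hA hr, one_mul] at this
      exact this
    · intro H t
      rw [hconj r hr]
      exact H _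
  ext r
  rw [Finset.mem_insert, Finset.mem_image, Δ.mem_invSet]
  constructor
  · rintro ⟨h1, h2⟩
    by_cases hrp : r = D.simple i
    · exact Or.inl hrp
    · right
      have hw := Δ.wpos hi h1 hrp
      refine ⟨wR D (D.simple i) r, Δ.mem_invSet.2 ⟨hw.1, (hiff r h1.1).1 h2⟩, ?_⟩
      exact wR_wR Δ.hB hA h1.1
  · rintro (rfl | ⟨r', hr', rfl⟩)
    · exact ⟨hppos, fun t => Δ.conj_step_simple hi hmN hpos t⟩
    · obtain ⟨h1, h2⟩ := Δ.mem_invSet.1 hr'
      have hr'p : r' ≠ D.simple i := by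
        rintro rfl; exact hnot hr'
      have hw := Δ.wpos hi h1 hr'p
      refine ⟨hw.1, (hiff _ hw.1.1).2 ?_⟩
      rw [wR_wR Δ.hB hA h1.1]
      exact h2

theorem card_invSet_step :
    (invSet D F (m * nU Δ.hB (D.simple i) (one_ne_zero (α := F)))).card =
      (invSet D F m).card + 1 := by
  have hA := Δ.hAll i hi
  have hp := hA.hS.1
  rw [Δ.invSet_step hi hmN hpos, Finset.card_insert_of_notMem, Finset.card_image_of_injOn]
  · intro a ha b hb hab
    have ha' := (Δ.mem_invSet.1 ha).1.1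
    have hb' := (Δ.mem_invSet.1 hb).1.1
    have := congrArg (wR D (D.simple i)) hab
    rwa [wR_wR Δ.hB hA ha', wR_wR Δ.hB hA hb'] at this
  · rw [Finset.mem_image]
    rintro ⟨r', hr', e⟩
    obtain ⟨h1, _⟩ := Δ.mem_invSet.1 hr'
    have h2 := congrArg (wR D (D.simple i)) e
    rw [wR_wR Δ.hB hA h1.1] at h2
    have hwpp : wR D (D.simple i) (D.simple i) = D.neg (D.simple i) := by
      unfold wR; rw [if_pos rfl]
    rw [hwpp] at h2
    have h3 := (Δ.hsign' _ h1.1).1 h1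
    have h4 := Δ.hnp hi
    omega

/-- `U_w⁻(m) ≤ U_p` -/
theorem uneg_le_Uexc : Subgroup.closure (UnegGen D F m) ≤ Uexc D F (D.simple i) := by
  rw [Subgroup.closure_le]
  intro x hx
  obtain ⟨r, hr, t, rfl⟩ := Δ.mem_unegGen_iff'.1 hx
  apply Subgroup.subset_closure
  refine ⟨r, t, (Δ.mem_invSet.1 hr).1, ?_, rfl⟩
  rintro rfl
  exact Δ.simple_not_mem_invSet hi hmN hpos hr

/-- conjugation by `n_p⁻¹` carries `U_w⁻(m)` into `U_w⁻(m n_p)` -/
theorem conj_uneg_step {c : GL D.Idx F} (hc : c ∈ Subgroup.closure (UnegGen D F m)) :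
    (nU Δ.hB (D.simple i) (one_ne_zero (α := F)))⁻¹ * c *
      nU Δ.hB (D.simple i) (one_ne_zero (α := F)) ∈
      Subgroup.closure (UnegGen D F (m * nU Δ.hB (D.simple i) (one_ne_zero (α := F)))) := by
  have hA := Δ.hAll i hi
  set s := nU Δ.hB (D.simple i) (one_ne_zero (α := F)) with hs
  have key : ∀ c ∈ Subgroup.closure (UnegGen D F m),
      s⁻¹ * c * s⁻¹⁻¹ ∈ Subgroup.closure (UnegGen D F (m * s)) := by
    apply conj_closure_mem
    intro x hx
    obtain ⟨r, hr, t, rfl⟩ := Δ.mem_unegGen_iff'.1 hx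
    have h1 := (Δ.mem_invSet.1 hr).1
    rw [inv_inv, nU_inv_conj_xU Δ.hB hA h1.1]
    apply Subgroup.subset_closure
    refine Δ.mem_unegGen_iff'.2 ⟨wR D (D.simple i) r, ?_, _, rfl⟩
    rw [Δ.invSet_step hi hmN hpos]
    exact Finset.mem_insert_of_mem (Finset.mem_image_of_mem _ hr)
  have := key c hc
  rwa [inv_inv] at this

theorem x_simple_mem_uneg_step (t : F) :
    xU Δ.hB (D.simple i) t ∈
      Subgroup.closure (UnegGen D F (m * nU Δ.hB (D.simple i) (one_ne_zero (α := F)))) := by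
  apply Subgroup.subset_closure
  refine Δ.mem_unegGen_iff'.2 ⟨D.simple i, ?_, t, rfl⟩
  rw [Δ.invSet_step hi hmN hpos]
  exact Finset.mem_insert_self _ _

/-- `U_w⁻(m n_p) ≃ U_w⁻(m) × F` -/
theorem card_uneg_step [Fintype F] :
    Nat.card (Subgroup.closure (UnegGen D F (m * nU Δ.hB (D.simple i) (one_ne_zero (α := F))))) =
      Nat.card (Subgroup.closure (UnegGen D F m)) * Fintype.card F := by
  have hA := Δ.hAll i hi
  have hp := hA.hS.1
  set s := nU Δ.hB (D.simple i) (one_ne_zero (α := F)) with hs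
  have hsN : s ∈ D.monomialSubgroup F := nU_one_mem_monomial Δ.hB hp
  let Φ : (Subgroup.closure (UnegGen D F m)) × F → Subgroup.closure (UnegGen D F (m * s)) :=
    fun ct => ⟨s⁻¹ * ct.1.1 * s * xU Δ.hB (D.simple i) ct.2,
      Subgroup.mul_mem _ (Δ.conj_uneg_step hi hmN hpos ct.1.2)
        (Δ.x_simple_mem_uneg_step hi hmN hpos ct.2)⟩
  have hinj : Function.Injective Φ := by
    rintro ⟨⟨c, hc⟩, t⟩ ⟨⟨c', hc'⟩, t'⟩ h
    have h' : s⁻¹ * c * s * xU Δ.hB (D.simple i) t = s⁻¹ * c' * s * xU Δ.hB (D.simple i) t' :=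
      congrArg Subtype.val h
    have hcU := Δ.nU_inv_conj_Uexc hi (Δ.uneg_le_Uexc hi hmN hpos hc)
    have hc'U := Δ.nU_inv_conj_Uexc hi (Δ.uneg_le_Uexc hi hmN hpos hc')
    have e1 : xU Δ.hB (D.simple i) (t - t') = (s⁻¹ * c * s)⁻¹ * (s⁻¹ * c' * s) := by
      have : xU Δ.hB (D.simple i) (t - t') =
          xU Δ.hB (D.simple i) t * (xU Δ.hB (D.simple i) t')⁻¹ := by
        rw [xU_inv, xU_mul, sub_eq_add_neg]
      rw [this]
      have h2 : xU Δ.hB (D.simple i) t = (s⁻¹ * c * s)⁻¹ * (s⁻¹ * c' * s * xU Δ.hB (D.simple i) t') := by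
        rw [← h']; group
      rw [h2]; group
    have h0 : t - t' = 0 := by
      apply Δ.x_simple_mem_Uexc_iff hi
      rw [e1]
      exact Subgroup.mul_mem _ (Subgroup.inv_mem _ hcU) hc'U
    have htt : t = t' := sub_eq_zero.1 h0
    subst htt
    have h3 : s⁻¹ * c * s = s⁻¹ * c' * s := mul_right_cancel h'
    have h4 : c = c' := by
      have : c = s * (s⁻¹ * c * s) * s⁻¹ := by group
      rw [this, h3]; group
    subst h4
    rfl
  have hsurj : Function.Surjective Φ := by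
    rintro ⟨u, hu⟩
    have huU := Δ.unegGen_le_posUnipotent _ hu
    obtain ⟨v, hv, t, rfl⟩ := Δ.U_decomp hi huU
    have hvneg : v ∈ Subgroup.closure (UnegGen D F (m * s)) := by
      have : v = v * xU Δ.hB (D.simple i) t * (xU Δ.hB (D.simple i) t)⁻¹ := by group
      rw [this]
      exact Subgroup.mul_mem _ hu (Subgroup.inv_mem _ (Δ.x_simple_mem_uneg_step hi hmN hpos t))
    have h1 : s * v * s⁻¹ ∈ D.posUnipotent F := Δ.Uexc_le_U hi (Δ.nU_conj_Uexc hi hv)
    have h2 : m * (s * v * s⁻¹) * m⁻¹ ∈ D.negUnipotent F := by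
      have e : m * (s * v * s⁻¹) * m⁻¹ = m * s * v * (m * s)⁻¹ := by group
      rw [e]
      exact Δ.conj_uneg_mem hvneg
    have h3 := Δ.mem_uneg_of_conj_mem hmN h1 h2
    refine ⟨⟨⟨s * v * s⁻¹, h3⟩, t⟩, ?_⟩
    apply Subtype.ext
    show s⁻¹ * (s * v * s⁻¹) * s * xU Δ.hB (D.simple i) t = v * xU Δ.hB (D.simple i) t
    group
  rw [← Nat.card_congr (Equiv.ofBijective Φ ⟨hinj, hsurj⟩), Nat.card_prod,
    Nat.card_eq_fintype_card (α := F)]

end step

/-- `|U_w⁻| = q^{N(w)}` -/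
theorem card_uneg_of_len [Fintype F] : ∀ (k : ℕ) (n : ↥(D.group F)), n ∈ Δ.bnPair.N →
    len Δ.bnPair Δ.bnPair.S n = k →
    Nat.card (Subgroup.closure (UnegGen D F (n : GL D.Idx F))) =
      Fintype.card F ^ (invSet D F (n : GL D.Idx F)).card := by
  have hSS : Δ.bnPair.S ⊆ Δ.bnPair.S := subset_refl _
  intro k
  induction k with
  | zero =>
    intro n hn hk
    have hH := Δ.mem_H_iff_val.1 ((len_eq_zero_iff hSS (mem_NJS_iff.2 hn)).1 hk)
    have h0 := Δ.invSet_diag hH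
    have hgen : UnegGen D F (n : GL D.Idx F) = ∅ := by
      rw [Set.eq_empty_iff_forall_notMem]
      intro x hx
      obtain ⟨r, hr, _⟩ := Δ.mem_unegGen_iff'.1 hx
      rw [h0] at hr
      exact absurd hr (Finset.notMem_empty r)
    rw [h0, hgen, Subgroup.closure_empty, Finset.card_empty, pow_zero]
    exact Nat.card_unique
  | succ k ih =>
    intro n hn hk
    obtain ⟨r, m, hr, hm, rfl, hlm⟩ := peel_right hSS (mem_NJS_iff.2 hn) hk
    have hmN : m ∈ Δ.bnPair.N := mem_NJS_iff.1 hm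
    obtain ⟨s, hsS, hsr⟩ := hr
    obtain ⟨i, hi, hsv⟩ := hsS
    have hs := Δ.coe_of_mem_Sset hsv
    have e : m * r = m * s * (s⁻¹ * r) := by group
    have hlen : len Δ.bnPair Δ.bnPair.S m ≤ len Δ.bnPair Δ.bnPair.S (m * s) := by
      have e2 : m * s = m * r * (s⁻¹ * r)⁻¹ := by group
      rw [e2, len_mul_H (Subgroup.inv_mem _ hsr), hk, hlm]
      omega
    have hmN' := Δ.mem_N_iff_val.1 hmN
    have hpos := fun t => Δ.pos_of_len_le hi hmN hs hlen t
    have h1 := Δ.card_uneg_step hi hmN' hpos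
    have h2 := Δ.card_invSet_step hi hmN' hpos
    have hd := Δ.mem_H_iff_val.1 hsr
    have e3 : ((m * r : ↥(D.group F)) : GL D.Idx F) =
        (m : GL D.Idx F) * nU Δ.hB (D.simple i) (one_ne_zero (α := F)) *
          ((s⁻¹ * r : ↥(D.group F)) : GL D.Idx F) := by
      rw [e]
      simp only [Subgroup.coe_mul, hs]
    rw [e3, Δ.unegGen_mul_diag hd, Δ.invSet_mul_diag hd, h1, h2, ih m hmN hlm, pow_succ]

include Δ in
theorem card_uneg [Fintype F] {n : GL D.Idx F} (hn : n ∈ D.monomialSubgroup F) :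
    Nat.card (Subgroup.closure (UnegGen D F n)) = Fintype.card F ^ (invSet D F n).card :=
  Δ.card_uneg_of_len _ ⟨n, Δ.monomial_le_group hn⟩ (Δ.mem_N_iff_val.2 hn) rfl

end BNData

end Cfsg.Agent.Helper6
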