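import Mathlib
import Cfsg.Agent.Helper6.Chev.Cells

set_option autoImplicit false
set_option linter.unusedSectionVars false
set_option linter.unusedSimpArgs false
set_option linter.unusedVariables false

/-!
`|G| = |B| · Σ_{w ∈ N/H} q^{N(w)}`.
-/

namespace Cfsg.Agent.Helper6

open Cfsg.Lie
open scoped Pointwise

variable {D : ChevalleyDatum} {F : Type*} [Field F]

/-- the order of a semidirect product inside a group -/
theorem card_sup_of_normalizer {G : Type*} [Group G] (U H : Subgroup G)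
    (hnorm : H ≤ Subgroup.normalizer (U : Set G)) (hdisj : U ⊓ H = ⊥) :
    Nat.card (U ⊔ H : Subgroup G) = Nat.card U * Nat.card H := by
  have hset : ((U ⊔ H : Subgroup G) : Set G) = (U : Set G) * (H : Set G) :=
    Subgroup.coe_mul_of_right_le_normalizer_left _ _ hnorm
  let Φ : U × H → (U ⊔ H : Subgroup G) := fun p =>
    ⟨p.1.1 * p.2.1, Subgroup.mul_mem _ (Subgroup.mem_sup_left p.1.2) (Subgroup.mem_sup_right p.2.2)⟩
  have hinj : Function.Injective Φ := by
    rintro ⟨⟨u, hu⟩, ⟨h, hh⟩⟩ ⟨⟨u', hu'⟩, ⟨h', hh'⟩⟩ e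
    have e' : u * h = u' * h' := congrArg Subtype.val e
    have hmem : u'⁻¹ * u ∈ U ⊓ H := by
      refine ⟨Subgroup.mul_mem _ (Subgroup.inv_mem _ hu') hu, ?_⟩
      have : u'⁻¹ * u = h' * h⁻¹ := by
        have : u = u' * h' * h⁻¹ := by rw [← e']; group
        rw [this]; group
      rw [this]
      exact Subgroup.mul_mem _ hh' (Subgroup.inv_mem _ hh)
    rw [hdisj, Subgroup.mem_bot] at hmem
    have huu : u = u' := by
      have : u = u' * (u'⁻¹ * u) := by group
      rw [this, hmem, mul_one]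
    subst huu
    have hhh : h = h' := mul_left_cancel e'
    subst hhh
    rfl
  have hsurj : Function.Surjective Φ := by
    rintro ⟨g, hg⟩
    have hg' : g ∈ ((U ⊔ H : Subgroup G) : Set G) := hg
    rw [hset, Set.mem_mul] at hg'
    obtain ⟨u, hu, h, hh, rfl⟩ := hg'
    exact ⟨⟨⟨u, hu⟩, ⟨h, hh⟩⟩, rfl⟩
  rw [← Nat.card_congr (Equiv.ofBijective Φ ⟨hinj, hsurj⟩), Nat.card_prod]

/-- the cosets of `H` in `N` -/
abbrev WeylQ (D : ChevalleyDatum) (F : Type*) [Field F] : Type _ :=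
  ↥(D.monomialSubgroup F) ⧸ (D.diagonalSubgroup F).subgroupOf (D.monomialSubgroup F)

namespace BNData

variable (Δ : BNData D F)

include Δ in
theorem card_borel [Fintype F] (hU : Nat.card (D.posUnipotent F) = Fintype.card F ^ (D.nroots / 2)) :
    Nat.card (D.borelSubgroup F) =
      Fintype.card F ^ (D.nroots / 2) * Nat.card (D.diagonalSubgroup F) := by
  unfold ChevalleyDatum.borelSubgroup
  rw [card_sup_of_normalizer _ _
    (diagonal_le_normalizer_posUnipotent Δ.hB Δ.hAll Δ.hAdd Δ.hH)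
    (posUnipotent_inf_diagonal Δ.hB Δ.hH Δ.good), hU]

/-- a representative in `N` of a coset of `H` -/
noncomputable def wrep (w : WeylQ D F) : GL D.Idx F := (Quotient.out w : ↥(D.monomialSubgroup F))

theorem wrep_mem (w : WeylQ D F) : wrep w ∈ D.monomialSubgroup F :=
  (Quotient.out w : ↥(D.monomialSubgroup F)).2

theorem mk_wrep (w : WeylQ D F) :
    (QuotientGroup.mk ⟨wrep w, wrep_mem w⟩ : WeylQ D F) = w := by
  unfold wrep
  exact Quotient.out_eq w

theorem mk_eq_mk_iff {n n' : GL D.Idx F} (hn : n ∈ D.monomialSubgroup F)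
    (hn' : n' ∈ D.monomialSubgroup F) :
    (QuotientGroup.mk ⟨n, hn⟩ : WeylQ D F) = QuotientGroup.mk ⟨n', hn'⟩ ↔
      n⁻¹ * n' ∈ D.diagonalSubgroup F := by
  rw [QuotientGroup.eq, Subgroup.mem_subgroupOf]
  rfl

include Δ in
/-- the cell decomposition as a bijection -/
theorem card_group_eq_sum [Fintype F] [Fintype (WeylQ D F)] :
    Nat.card ↥(D.group F) = Nat.card (D.borelSubgroup F) *
      ∑ w : WeylQ D F, Fintype.card F ^ (invSet D F (wrep w)).card := by
  classical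
  let Ψ : (Σ w : WeylQ D F, ↥(D.borelSubgroup F) × ↥(Subgroup.closure (UnegGen D F (wrep w)))) →
      ↥(D.group F) := fun p =>
    ⟨p.2.1.1 * wrep p.1 * p.2.2.1,
      Subgroup.mul_mem _ (Subgroup.mul_mem _ (Δ.borel_le_group p.2.1.2)
        (Δ.monomial_le_group (wrep_mem p.1)))
        (Δ.borel_le_group (Δ.posUnipotent_le_borel (Δ.unegGen_le_posUnipotent _ p.2.2.2)))⟩
  have hinj : Function.Injective Ψ := by
    rintro ⟨w, ⟨b, hb⟩, ⟨u, hu⟩⟩ ⟨w', ⟨b', hb'⟩, ⟨u', hu'⟩⟩ e
    have e' : b * wrep w * u = b' * wrep w' * u' := congrArg Subtype.val e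
    have huniq := Δ.normal_form_unique hb hb' (wrep_mem w) (wrep_mem w') hu hu' e'
    have hww : w = w' := by
      rw [← mk_wrep w, ← mk_wrep w', mk_eq_mk_iff]
      exact huniq.1
    subst hww
    obtain ⟨h1, h2⟩ := huniq.2 rfl
    subst h1
    subst h2
    rfl
  have hsurj : Function.Surjective Ψ := by
    rintro ⟨g, hg⟩
    obtain ⟨b, hb, n, hn, u, hu, rfl⟩ := Δ.exists_normal_form hg
    let w : WeylQ D F := QuotientGroup.mk ⟨n, hn⟩
    have hrel : n⁻¹ * wrep w ∈ D.diagonalSubgroup F := by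
      rw [← mk_eq_mk_iff hn (wrep_mem w)]
      exact (mk_wrep w).symm
    set h := n⁻¹ * wrep w with hh
    have hrep : wrep w = n * h := by rw [hh]; group
    have hnorm := monomial_le_normalizer Δ.hB Δ.hAll Δ.hH Δ.hReach (wrep_mem w)
    have hc : wrep w * h⁻¹ * (wrep w)⁻¹ ∈ D.diagonalSubgroup F :=
      ((Subgroup.mem_normalizer_iff.1 hnorm) h⁻¹).1 (Subgroup.inv_mem _ hrel)
    have hu' : u ∈ Subgroup.closure (UnegGen D F (wrep w)) := by
      rw [hrep, Δ.unegGen_mul_diag hrel]; exact hu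
    refine ⟨⟨w, ⟨b * (wrep w * h⁻¹ * (wrep w)⁻¹),
      Subgroup.mul_mem _ hb (Δ.diag_le_borel hc)⟩, ⟨u, hu'⟩⟩, ?_⟩
    apply Subtype.ext
    show b * (wrep w * h⁻¹ * (wrep w)⁻¹) * wrep w * u = b * n * u
    have : n = wrep w * h⁻¹ := by rw [hrep]; group
    conv_rhs => rw [this]
    group
  rw [← Nat.card_congr (Equiv.ofBijective Ψ ⟨hinj, hsurj⟩), Nat.card_sigma, Finset.mul_sum]
  apply Finset.sum_congr rfl
  intro w _
  rw [Nat.card_prod, Δ.card_uneg (wrep_mem w)]

end BNData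

end Cfsg.Agent.Helper6
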