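import Mathlib
import Cfsg.Agent.Helper6.Chev.OrderSum

set_option autoImplicit false
set_option linter.unusedSectionVars false
set_option linter.unusedSimpArgs false
set_option linter.unusedVariables false

/-!
Words in the fundamental reflections (last letter first), their action on roots, and the criterion
for an element of `N` to lie in `H`.
-/

namespace Cfsg.Agent.Helper6

open Cfsg.Lie
open Cfsg.Agent.Helper2.BN

variable {D : ChevalleyDatum} {F : Type*} [Field F]

/-- the product `n_{i_k} ⋯ n_{i_1}` of the word `[i_1, …, i_k]`: the head of the list is the last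
factor -/
def nWr (hB : BasicOK D) (F : Type*) [Field F] : List ℕ → GL D.Idx F
  | [] => 1
  | j :: L => nWr hB F L * nU hB (D.simple j) (one_ne_zero (α := F))

/-- the action of `nWr L` on root indices -/
def wFr (D : ChevalleyDatum) : List ℕ → ℕ → ℕ
  | [], r => r
  | j :: L, r => wFr D L (wR D (D.simple j) r)

theorem corootC_nonneg {r : ℕ} (hr : D.IsPosRoot r) (k : ℕ) : 0 ≤ corootC D r k := by
  unfold corootC
  have h2 := hr.2
  generalize D.coroot.getD r #[] = a at h2 ⊢
  by_cases h : k < a.size
  · apply h2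
    rw [Array.getD_eq_getD_getElem?, Array.getElem?_eq_getElem h, Option.getD_some]
    exact Array.getElem_mem_toList h
  · rw [Array.getD_eq_getD_getElem?, Array.getElem?_eq_none (by omega), Option.getD_none]

theorem corootC_nonpos {r : ℕ} (hr : D.IsNegRoot r) (k : ℕ) : corootC D r k ≤ 0 := by
  unfold corootC
  have h2 := hr.2
  generalize D.coroot.getD r #[] = a at h2 ⊢
  by_cases h : k < a.size
  · apply h2
    rw [Array.getD_eq_getD_getElem?, Array.getElem?_eq_getElem h, Option.getD_some]
    exact Array.getElem_mem_toList h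
  · rw [Array.getD_eq_getD_getElem?, Array.getElem?_eq_none (by omega), Option.getD_none]

namespace BNData

variable (Δ : BNData D F)

include Δ in
theorem wFr_lt {L : List ℕ} (hL : ∀ j ∈ L, j < D.rank) {r : ℕ} (hr : r < D.nroots) :
    wFr D L r < D.nroots := by
  induction L generalizing r with
  | nil => exact hr
  | cons j L ih =>
    have hj := hL j List.mem_cons_self
    have hA := Δ.hAll j hj
    exact ih (fun i hi => hL i (List.mem_cons_of_mem _ hi)) (wR_lt Δ.hB hA.hS.1 hA.hR hr)

include Δ in
theorem wFr_neg {L : List ℕ} (hL : ∀ j ∈ L, j < D.rank) {r : ℕ} (hr : r < D.nroots) :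
    wFr D L (D.neg r) = D.neg (wFr D L r) := by
  induction L generalizing r with
  | nil => rfl
  | cons j L ih =>
    have hj := hL j List.mem_cons_self
    have hA := Δ.hAll j hj
    show wFr D L (wR D (D.simple j) (D.neg r)) = D.neg (wFr D L (wR D (D.simple j) r))
    rw [hA.hC.negw r hr]
    exact ih (fun i hi => hL i (List.mem_cons_of_mem _ hi)) (wR_lt Δ.hB hA.hS.1 hA.hR hr)

include Δ in
theorem nWr_mem_monomial {L : List ℕ} (hL : ∀ j ∈ L, j < D.rank) :
    nWr Δ.hB F L ∈ D.monomialSubgroup F := by
  induction L with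
  | nil => exact Subgroup.one_mem _
  | cons j L ih =>
    have hj := hL j List.mem_cons_self
    exact Subgroup.mul_mem _ (ih (fun i hi => hL i (List.mem_cons_of_mem _ hi)))
      (nU_one_mem_monomial Δ.hB (Δ.hAll j hj).hS.1)

include Δ in
/-- the conjugation formula for words -/
theorem nWr_conj {L : List ℕ} (hL : ∀ j ∈ L, j < D.rank) {r : ℕ} (hr : r < D.nroots) :
    ∃ c : F, c * c = 1 ∧ ∀ t : F,
      nWr Δ.hB F L * xU Δ.hB r t * (nWr Δ.hB F L)⁻¹ = xU Δ.hB (wFr D L r) (c * t) := by
  induction L generalizing r with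
  | nil => exact ⟨1, one_mul 1, fun t => by simp [nWr, wFr]⟩
  | cons j L ih =>
    have hj := hL j List.mem_cons_self
    have hA := Δ.hAll j hj
    obtain ⟨c, hc, h⟩ := ih (fun i hi => hL i (List.mem_cons_of_mem _ hi))
      (wR_lt Δ.hB hA.hS.1 hA.hR hr)
    refine ⟨c * ((etaR D (D.simple j) r : ℤ) : F), ?_, fun t => ?_⟩
    · have := etaR_sq (F := F) Δ.hB hA hr
      calc c * ((etaR D (D.simple j) r : ℤ) : F) * (c * ((etaR D (D.simple j) r : ℤ) : F))
          = (c * c) * (((etaR D (D.simple j) r : ℤ) : F) * ((etaR D (D.simple j) r : ℤ) : F)) := by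
            ring
        _ = 1 := by rw [hc, this, one_mul]
    · show nWr Δ.hB F L * nU Δ.hB (D.simple j) (one_ne_zero (α := F)) * xU Δ.hB r t *
          (nWr Δ.hB F L * nU Δ.hB (D.simple j) (one_ne_zero (α := F)))⁻¹ = _
      have e : nWr Δ.hB F L * nU Δ.hB (D.simple j) (one_ne_zero (α := F)) * xU Δ.hB r t *
          (nWr Δ.hB F L * nU Δ.hB (D.simple j) (one_ne_zero (α := F)))⁻¹ =
          nWr Δ.hB F L * (nU Δ.hB (D.simple j) (one_ne_zero (α := F)) * xU Δ.hB r t *
            (nU Δ.hB (D.simple j) (one_ne_zero (α := F)))⁻¹) * (nWr Δ.hB F L)⁻¹ := by group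
      rw [e, nU_conj_xU Δ.hB hA hr, h, mul_assoc]
      rfl

include Δ in
/-- a unit multiple of a root element in `U` has a positive root -/
theorem isPosRoot_of_mem {r : ℕ} (hr : r < D.nroots) {a : F} (ha : a ≠ 0)
    (h : xU Δ.hB r a ∈ D.posUnipotent F) : D.IsPosRoot r := by
  rcases Δ.pos_or_neg hr with hp | hn
  · exact hp
  · exfalso
    have h2 := Δ.eq_zero_of_xU_neg_mem_borel hr (((Δ.hsign r hr).2).1 hn)
      (Δ.posUnipotent_le_borel h)
    exact ha h2

include Δ in
theorem posAt_nWr_iff {L : List ℕ} (hL : ∀ j ∈ L, j < D.rank) {r : ℕ} (hr : r < D.nroots) :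
    (∀ t : F, nWr Δ.hB F L * xU Δ.hB r t * (nWr Δ.hB F L)⁻¹ ∈ D.posUnipotent F) ↔
      D.IsPosRoot (wFr D L r) := by
  obtain ⟨c, hc, h⟩ := Δ.nWr_conj hL hr
  have hc0 : c ≠ 0 := by
    rintro rfl
    rw [mul_zero] at hc
    exact zero_ne_one hc
  constructor
  · intro H
    have h1 := H 1
    rw [h] at h1
    exact Δ.isPosRoot_of_mem (Δ.wFr_lt hL hr) (mul_ne_zero hc0 one_ne_zero) h1
  · intro hp t
    rw [h]
    exact Δ.xU_pos_mem hp _

include Δ in
/-- linearity of the action on coroot coordinates -/
theorem corootC_wFr {L : List ℕ} (hL : ∀ j ∈ L, j < D.rank) {r : ℕ} (hr : r < D.nroots)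
    {k : ℕ} (hk : k < D.rank) :
    corootC D (wFr D L r) k =
      ∑ m ∈ Finset.range D.rank, corootC D r m * corootC D (wFr D L (D.simple m)) k := by
  induction L generalizing r with
  | nil =>
    show corootC D r k = ∑ m ∈ Finset.range D.rank, corootC D r m * corootC D (D.simple m) k
    have h1 : ∀ m ∈ Finset.range D.rank, corootC D r m * corootC D (D.simple m) k =
        if m = k then corootC D r k else 0 := by
      intro m hm
      have := (Δ.hAll m (Finset.mem_range.1 hm)).hE.1 k hk
      rw [this]
      by_cases hkm : k = m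
      · subst hkm; simp
      · rw [if_neg hkm, if_neg (fun h => hkm h.symm), mul_zero]
    rw [Finset.sum_congr rfl h1, Finset.sum_ite_eq' (Finset.range D.rank) k,
      if_pos (Finset.mem_range.2 hk)]
  | cons j L ih =>
    have hj := hL j List.mem_cons_self
    have hA := Δ.hAll j hj
    have hL' : ∀ i ∈ L, i < D.rank := fun i hi => hL i (List.mem_cons_of_mem _ hi)
    have hwr := wR_lt Δ.hB hA.hS.1 hA.hR hr
    show corootC D (wFr D L (wR D (D.simple j) r)) k =
      ∑ m ∈ Finset.range D.rank, corootC D r m * corootC D (wFr D L (wR D (D.simple j) (D.simple m))) k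
    rw [ih hL' hwr]
    -- expand the inner terms by the induction hypothesis
    have h2 : ∀ m ∈ Finset.range D.rank,
        corootC D (wFr D L (wR D (D.simple j) (D.simple m))) k =
        ∑ m' ∈ Finset.range D.rank, corootC D (wR D (D.simple j) (D.simple m)) m' *
          corootC D (wFr D L (D.simple m')) k := by
      intro m hm
      have hm' := Finset.mem_range.1 hm
      exact ih hL' (wR_lt Δ.hB hA.hS.1 hA.hR (Δ.hAll m hm').hS.1)
    have h3 : ∑ m ∈ Finset.range D.rank, corootC D r m *
        corootC D (wFr D L (wR D (D.simple j) (D.simple m))) k =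
        ∑ m' ∈ Finset.range D.rank, (∑ m ∈ Finset.range D.rank, corootC D r m *
          corootC D (wR D (D.simple j) (D.simple m)) m') * corootC D (wFr D L (D.simple m')) k := by
      rw [Finset.sum_congr rfl (fun m hm => by rw [h2 m hm])]
      simp only [Finset.mul_sum, Finset.sum_mul]
      rw [Finset.sum_comm]
      apply Finset.sum_congr rfl
      intro m' _
      apply Finset.sum_congr rfl
      intro m _
      ring
    rw [h3]
    apply Finset.sum_congr rfl
    intro m' hm'
    congr 1
    -- the one-step identity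
    have hm'r := Finset.mem_range.1 hm'
    rw [hA.hC.coroot r hr m' hm'r]
    have h4 : ∀ m ∈ Finset.range D.rank, corootC D r m *
        corootC D (wR D (D.simple j) (D.simple m)) m' =
        corootC D r m * (if m' = m then 1 else 0) -
          (if m' = j then corootC D r m * D.cartan m (D.simple j) else 0) := by
      intro m hm
      have hmr := Finset.mem_range.1 hm
      rw [hA.hC.coroot (D.simple m) (Δ.hAll m hmr).hS.1 m' hm'r]
      have h5 : ∀ k' ∈ Finset.range D.rank, corootC D (D.simple m) k' * D.cartan k' (D.simple j) =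
          if k' = m then D.cartan m (D.simple j) else 0 := by
        intro k' hk'
        rw [(Δ.hAll m hmr).hE.1 k' (Finset.mem_range.1 hk')]
        by_cases h : k' = m
        · subst h; simp
        · simp [h]
      rw [Finset.sum_congr rfl h5, Finset.sum_ite_eq' (Finset.range D.rank) m, if_pos hm,
        (Δ.hAll m hmr).hE.1 m' hm'r]
      split_ifs <;> ring
    rw [Finset.sum_congr rfl h4, Finset.sum_sub_distrib]
    congr 1
    · simp only [mul_ite, mul_one, mul_zero]
      rw [Finset.sum_ite_eq (Finset.range D.rank) m', if_pos hm']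
    · by_cases h : m' = j
      · simp only [h, if_true]
      · simp only [h, if_false, Finset.sum_const_zero]

include Δ in
/-- a word taking the fundamental roots of `J` to positive roots takes all positive roots of `Φ_J`
to positive roots -/
theorem isPosRoot_wFr_of_inRootSub {L : List ℕ} (hL : ∀ j ∈ L, j < D.rank) {J : Set ℕ}
    (hJ : ∀ j ∈ J, j < D.rank → D.IsPosRoot (wFr D L (D.simple j))) {r : ℕ}
    (hr : D.IsPosRoot r) (hrJ : D.InRootSub J r) : D.IsPosRoot (wFr D L r) := by
  have hlt := Δ.wFr_lt hL hr.1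
  apply (Δ.hsign' _ hlt).2
  by_contra hneg
  have hN : D.IsNegRoot (wFr D L r) := ((Δ.hsign _ hlt).2).2 (by omega)
  -- all coordinates are `≥ 0` and `≤ 0`
  have hnn : ∀ k < D.rank, 0 ≤ corootC D (wFr D L r) k := by
    intro k hk
    rw [Δ.corootC_wFr hL hr.1 hk]
    apply Finset.sum_nonneg
    intro m hm
    have hm' := Finset.mem_range.1 hm
    by_cases hmJ : m ∈ J
    · apply mul_nonneg
      · exact corootC_nonneg hr m
      · exact corootC_nonneg (hJ m hmJ hm') k
    · have := hrJ.2 m hm' hmJ
      unfold corootC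
      rw [this, zero_mul]
  have hnp : ∀ k < D.rank, corootC D (wFr D L r) k ≤ 0 := fun k _ => corootC_nonpos hN k
  have hz : ∀ k < D.rank, corootC D (wFr D L r) k = 0 := fun k hk =>
    le_antisymm (hnp k hk) (hnn k hk)
  -- a root with zero coroot is impossible
  have h2 := Δ.hB.coroot _ hlt
  rw [Finset.sum_eq_zero (fun k hk => by rw [hz k (Finset.mem_range.1 hk), zero_mul])] at h2
  norm_num at h2

end BNData

end Cfsg.Agent.Helper6
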