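import Mathlib
import Cfsg.Agent.Helper6.Chev.WeylWords

set_option autoImplicit false
set_option linter.unusedSectionVars false
set_option linter.unusedSimpArgs false
set_option linter.unusedVariables false

/-!
The criterion for an element of `N` to lie in `H`, the subgroups `N_J` of `N` as sets of words, and
the additivity of the number of inversions along minimal coset representatives.
-/

namespace Cfsg.Agent.Helper6

open Cfsg.Lie
open Cfsg.Agent.Helper2.BN

variable {D : ChevalleyDatum} {F : Type*} [Field F]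

theorem nWr_append (hB : BasicOK D) (A B : List ℕ) :
    nWr hB F (A ++ B) = nWr hB F B * nWr hB F A := by
  induction A with
  | nil => simp [nWr]
  | cons j A ih =>
    show nWr hB F (A ++ B) * nU hB (D.simple j) (one_ne_zero (α := F)) =
      nWr hB F B * (nWr hB F A * nU hB (D.simple j) (one_ne_zero (α := F)))
    rw [ih, mul_assoc]

theorem wFr_append (D : ChevalleyDatum) (A B : List ℕ) (r : ℕ) :
    wFr D (A ++ B) r = wFr D B (wFr D A r) := by
  induction A generalizing r with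
  | nil => rfl
  | cons j A ih => exact ih _

/-- every prefix of the word takes the next fundamental root to a positive root -/
def PrefPos (D : ChevalleyDatum) : List ℕ → Prop
  | [] => True
  | j :: L => PrefPos D L ∧ D.IsPosRoot (wFr D L (D.simple j))

namespace BNData

variable (Δ : BNData D F)

include Δ in
/-- an element of `N` outside `H` makes some fundamental root negative -/
theorem exists_simple_mem_invSet {n : GL D.Idx F} (hn : n ∈ D.monomialSubgroup F)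
    (hnH : n ∉ D.diagonalSubgroup F) : ∃ i < D.rank, D.simple i ∈ invSet D F n := by
  have hSS : Δ.bnPair.S ⊆ Δ.bnPair.S := subset_refl _
  let g : ↥(D.group F) := ⟨n, Δ.monomial_le_group hn⟩
  have hg : g ∈ Δ.bnPair.N := Δ.mem_N_iff_val.2 hn
  have hlen : len Δ.bnPair Δ.bnPair.S g ≠ 0 := by
    intro h0
    exact hnH (Δ.mem_H_iff_val.1 ((len_eq_zero_iff hSS (mem_NJS_iff.2 hg)).1 h0))
  obtain ⟨k, hk⟩ := Nat.exists_eq_succ_of_ne_zero hlen
  obtain ⟨r, m, hr, hm, hgm, hlm⟩ := peel_right hSS (mem_NJS_iff.2 hg) hk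
  have hmN : m ∈ Δ.bnPair.N := mem_NJS_iff.1 hm
  obtain ⟨s, hsS, hsr⟩ := hr
  obtain ⟨i, hi, hsv⟩ := hsS
  have hs := Δ.coe_of_mem_Sset hsv
  have e : m * r = m * s * (s⁻¹ * r) := by group
  have hlen' : len Δ.bnPair Δ.bnPair.S m ≤ len Δ.bnPair Δ.bnPair.S (m * s) := by
    have e2 : m * s = m * r * (s⁻¹ * r)⁻¹ := by group
    rw [e2, len_mul_H (Subgroup.inv_mem _ hsr), ← hgm, hk, hlm]
    omega
  have hmN' := Δ.mem_N_iff_val.1 hmN
  have hpos := fun t => Δ.pos_of_len_le hi hmN hs hlen' t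
  have hd := Δ.mem_H_iff_val.1 hsr
  have e3 : n = (m : GL D.Idx F) * nU Δ.hB (D.simple i) (one_ne_zero (α := F)) *
      ((s⁻¹ * r : ↥(D.group F)) : GL D.Idx F) := by
    have : n = ((m * r : ↥(D.group F)) : GL D.Idx F) := by rw [← hgm]
    rw [this, e]
    simp only [Subgroup.coe_mul, hs]
  refine ⟨i, hi, ?_⟩
  rw [e3, Δ.invSet_mul_diag hd, Δ.invSet_step hi hmN' hpos]
  exact Finset.mem_insert_self _ _

include Δ in
/-- an element of `N` without inversions lies in `H` -/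
theorem mem_diag_of_invSet_eq_empty {n : GL D.Idx F} (hn : n ∈ D.monomialSubgroup F)
    (h0 : invSet D F n = ∅) : n ∈ D.diagonalSubgroup F := by
  by_contra hnH
  obtain ⟨i, _, hi⟩ := Δ.exists_simple_mem_invSet hn hnH
  rw [h0] at hi
  exact absurd hi (Finset.notMem_empty _)

include Δ in
/-- an element of `N` taking the fundamental root subgroups into `U` lies in `H` -/
theorem mem_diag_of_simple_pos {n : GL D.Idx F} (hn : n ∈ D.monomialSubgroup F)
    (hpos : ∀ i < D.rank, ∀ t : F, n * xU Δ.hB (D.simple i) t * n⁻¹ ∈ D.posUnipotent F) :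
    n ∈ D.diagonalSubgroup F := by
  by_contra hnH
  obtain ⟨i, hi, hmem⟩ := Δ.exists_simple_mem_invSet hn hnH
  exact Δ.not_pos_and_neg (Δ.hAll i hi).hS.1 (hpos i hi 1) ((Δ.mem_invSet.1 hmem).2 1)

include Δ in
/-- words with the same action on the fundamental roots agree modulo `H` -/
theorem nWr_inv_mul_mem_of_key {L L' : List ℕ} (hL : ∀ j ∈ L, j < D.rank)
    (hL' : ∀ j ∈ L', j < D.rank)
    (hkey : ∀ m < D.rank, wFr D L (D.simple m) = wFr D L' (D.simple m)) :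
    (nWr Δ.hB F L')⁻¹ * nWr Δ.hB F L ∈ D.diagonalSubgroup F := by
  apply Δ.mem_diag_of_simple_pos
  · exact Subgroup.mul_mem _ (Subgroup.inv_mem _ (Δ.nWr_mem_monomial hL')) (Δ.nWr_mem_monomial hL)
  · intro i hi t
    have hp := (Δ.hAll i hi).hS.1
    obtain ⟨c, hc, h1⟩ := Δ.nWr_conj hL hp
    obtain ⟨c', hc', h2⟩ := Δ.nWr_conj hL' hp
    have e : (nWr Δ.hB F L')⁻¹ * nWr Δ.hB F L * xU Δ.hB (D.simple i) t *
        ((nWr Δ.hB F L')⁻¹ * nWr Δ.hB F L)⁻¹ =
        (nWr Δ.hB F L')⁻¹ * (nWr Δ.hB F L * xU Δ.hB (D.simple i) t * (nWr Δ.hB F L)⁻¹) *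
          nWr Δ.hB F L' := by group
    have h3 : xU Δ.hB (wFr D L (D.simple i)) (c * t) =
        nWr Δ.hB F L' * xU Δ.hB (D.simple i) (c' * (c * t)) * (nWr Δ.hB F L')⁻¹ := by
      rw [h2, hkey i hi, ← mul_assoc c' c', hc', one_mul]
    rw [e, h1, h3]
    have e2 : (nWr Δ.hB F L')⁻¹ * (nWr Δ.hB F L' * xU Δ.hB (D.simple i) (c' * (c * t)) *
        (nWr Δ.hB F L')⁻¹) * nWr Δ.hB F L' = xU Δ.hB (D.simple i) (c' * (c * t)) := by group
    rw [e2]
    exact Δ.xU_pos_mem ((Δ.hsign' _ hp).2 (Δ.hpN i hi)) _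

include Δ in
theorem nWr_eq_mul_of_key {L L' : List ℕ} (hL : ∀ j ∈ L, j < D.rank)
    (hL' : ∀ j ∈ L', j < D.rank)
    (hkey : ∀ m < D.rank, wFr D L (D.simple m) = wFr D L' (D.simple m)) :
    ∃ d ∈ D.diagonalSubgroup F, nWr Δ.hB F L = nWr Δ.hB F L' * d :=
  ⟨_, Δ.nWr_inv_mul_mem_of_key hL hL' hkey, by group⟩

include Δ in
theorem conj_diag_mem {n h : GL D.Idx F} (hn : n ∈ D.monomialSubgroup F)
    (hh : h ∈ D.diagonalSubgroup F) : n * h * n⁻¹ ∈ D.diagonalSubgroup F :=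
  ((Subgroup.mem_normalizer_iff.1
    (monomial_le_normalizer Δ.hB Δ.hAll Δ.hH Δ.hReach hn)) h).1 hh

include Δ in
theorem conj_diag_mem' {n h : GL D.Idx F} (hn : n ∈ D.monomialSubgroup F)
    (hh : h ∈ D.diagonalSubgroup F) : n⁻¹ * h * n ∈ D.diagonalSubgroup F := by
  have := Δ.conj_diag_mem (Subgroup.inv_mem _ hn) hh
  rwa [inv_inv] at this

include Δ in
theorem nU_inv_eq' {i : ℕ} (hi : i < D.rank) : ∃ e ∈ D.diagonalSubgroup F,
    (nU Δ.hB (D.simple i) (one_ne_zero (α := F)))⁻¹ =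
      e * nU Δ.hB (D.simple i) (one_ne_zero (α := F)) :=
  ⟨_, hWordU_mem_diagonal Δ.hB (Δ.hAll i hi).hS.1 (neg_ne_zero.2 (one_ne_zero (α := F))),
    Δ.nU_inv_eq hi⟩

include Δ in
/-- the inverse of a word is the reversed word, modulo `H` -/
theorem nWr_inv {L : List ℕ} (hL : ∀ j ∈ L, j < D.rank) :
    ∃ d ∈ D.diagonalSubgroup F, (nWr Δ.hB F L)⁻¹ = nWr Δ.hB F L.reverse * d := by
  induction L with
  | nil => exact ⟨1, Subgroup.one_mem _, by simp [nWr]⟩
  | cons j L ih =>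
    have hj := hL j List.mem_cons_self
    have hL' : ∀ i ∈ L, i < D.rank := fun i hi => hL i (List.mem_cons_of_mem _ hi)
    obtain ⟨d, hd, hinv⟩ := ih hL'
    obtain ⟨e, he, hej⟩ := Δ.nU_inv_eq' (F := F) hj
    have hrev : ∀ i ∈ L.reverse ++ [j], i < D.rank := by
      intro i hi
      rw [List.mem_append, List.mem_reverse, List.mem_singleton] at hi
      rcases hi with hi | rfl
      · exact hL' i hi
      · exact hj
    have hN := Δ.nWr_mem_monomial (F := F) hrev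
    refine ⟨(nWr Δ.hB F (L.reverse ++ [j]))⁻¹ * e * nWr Δ.hB F (L.reverse ++ [j]) * d,
      Subgroup.mul_mem _ (Δ.conj_diag_mem' hN he) hd, ?_⟩
    rw [List.reverse_cons]
    show (nWr Δ.hB F L * nU Δ.hB (D.simple j) (one_ne_zero (α := F)))⁻¹ = _
    rw [mul_inv_rev, hinv, hej]
    have e1 : nWr Δ.hB F (L.reverse ++ [j]) =
        nU Δ.hB (D.simple j) (one_ne_zero (α := F)) * nWr Δ.hB F L.reverse := by
      rw [nWr_append]
      simp [nWr]
    rw [e1]
    group

/-- the subgroup `N_J = ⟨H, n_j (j ∈ J)⟩` of `N`, as the set of the words in `J` times `H` -/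
def Nsub (Δ : BNData D F) (J : List ℕ) : Subgroup (GL D.Idx F) where
  carrier := {n | ∃ L : List ℕ, ∃ h ∈ D.diagonalSubgroup F,
    (∀ j ∈ L, j ∈ J ∧ j < D.rank) ∧ n = nWr Δ.hB F L * h}
  one_mem' := ⟨[], 1, Subgroup.one_mem _, by simp, by simp [nWr]⟩
  mul_mem' := by
    rintro a b ⟨L, h, hh, hL, rfl⟩ ⟨L', h', hh', hL', rfl⟩
    have hN' := Δ.nWr_mem_monomial (F := F) (fun j hj => (hL' j hj).2)
    refine ⟨L' ++ L, (nWr Δ.hB F L')⁻¹ * h * nWr Δ.hB F L' * h',
      Subgroup.mul_mem _ (Δ.conj_diag_mem' hN' hh) hh', ?_, ?_⟩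
    · intro j hj
      rw [List.mem_append] at hj
      rcases hj with hj | hj
      · exact hL' j hj
      · exact hL j hj
    · rw [nWr_append]; group
  inv_mem' := by
    rintro a ⟨L, h, hh, hL, rfl⟩
    have hL2 : ∀ j ∈ L, j < D.rank := fun j hj => (hL j hj).2
    obtain ⟨d, hd, hinv⟩ := Δ.nWr_inv hL2
    have hrev : ∀ j ∈ L.reverse, j ∈ J ∧ j < D.rank := by
      intro j hj
      exact hL j (List.mem_reverse.1 hj)
    have hN := Δ.nWr_mem_monomial (F := F) (fun j hj => (hrev j hj).2)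
    refine ⟨L.reverse, (nWr Δ.hB F L.reverse)⁻¹ * h⁻¹ * nWr Δ.hB F L.reverse * d,
      Subgroup.mul_mem _ (Δ.conj_diag_mem' hN (Subgroup.inv_mem _ hh)) hd, hrev, ?_⟩
    rw [mul_inv_rev, hinv]; group

theorem mem_Nsub {J : List ℕ} {n : GL D.Idx F} : n ∈ Δ.Nsub J ↔
    ∃ L : List ℕ, ∃ h ∈ D.diagonalSubgroup F,
      (∀ j ∈ L, j ∈ J ∧ j < D.rank) ∧ n = nWr Δ.hB F L * h := Iff.rfl

theorem diag_le_Nsub (J : List ℕ) : D.diagonalSubgroup F ≤ Δ.Nsub J := by
  intro h hh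
  exact ⟨[], h, hh, by simp, by simp [nWr]⟩

theorem nWr_mem_Nsub {J : List ℕ} {L : List ℕ} (hL : ∀ j ∈ L, j ∈ J ∧ j < D.rank) :
    nWr Δ.hB F L ∈ Δ.Nsub J :=
  ⟨L, 1, Subgroup.one_mem _, hL, by simp⟩

theorem nU_mem_Nsub {J : List ℕ} {j : ℕ} (hj : j ∈ J) (hjr : j < D.rank) :
    nU Δ.hB (D.simple j) (one_ne_zero (α := F)) ∈ Δ.Nsub J := by
  have := Δ.nWr_mem_Nsub (J := J) (L := [j]) (by
    intro i hi
    rw [List.mem_singleton] at hi
    subst hi
    exact ⟨hj, hjr⟩)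
  simpa [nWr] using this

theorem Nsub_le_monomial (J : List ℕ) : Δ.Nsub J ≤ D.monomialSubgroup F := by
  rintro n ⟨L, h, hh, hL, rfl⟩
  exact Subgroup.mul_mem _ (Δ.nWr_mem_monomial (fun j hj => (hL j hj).2)) (Δ.diag_le_monomial hh)

theorem Nsub_mono {J K : List ℕ} (hJK : ∀ j ∈ J, j ∈ K) : Δ.Nsub J ≤ Δ.Nsub K := by
  rintro n ⟨L, h, hh, hL, rfl⟩
  exact ⟨L, h, hh, fun j hj => ⟨hJK j (hL j hj).1, (hL j hj).2⟩, rfl⟩

theorem Nsub_nil : Δ.Nsub [] = D.diagonalSubgroup F := by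
  apply le_antisymm
  · rintro n ⟨L, h, hh, hL, rfl⟩
    cases L with
    | nil => simpa [nWr] using hh
    | cons j L => exact absurd (hL j List.mem_cons_self).1 (List.not_mem_nil)
  · exact Δ.diag_le_Nsub []

theorem Nsub_eq_monomial {J : List ℕ} (hJ : ∀ i < D.rank, i ∈ J) :
    Δ.Nsub J = D.monomialSubgroup F := by
  apply le_antisymm (Δ.Nsub_le_monomial J)
  apply monomial_le_of Δ.hB Δ.hAll Δ.hReach
  · exact Δ.diag_le_Nsub J
  · intro i hi
    exact Δ.nU_mem_Nsub (hJ i hi) hi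

include Δ in
theorem inRootSub_simple {S : Set ℕ} {j : ℕ} (hj : j ∈ S) (hjr : j < D.rank) :
    D.InRootSub S (D.simple j) := by
  refine ⟨(Δ.hAll j hjr).hS.1, fun i hi hiS => ?_⟩
  have := (Δ.hAll j hjr).hE.1 i hi
  unfold corootC at this
  rw [this, if_neg]
  rintro rfl
  exact hiS hj

include Δ in
theorem not_inRootSub_simple {S : Set ℕ} {i : ℕ} (hi : i ∉ S) (hir : i < D.rank) :
    ¬ D.InRootSub S (D.simple i) := by
  intro h
  have h1 := h.2 i hir hi
  have := (Δ.hAll i hir).hE.1 i hir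
  unfold corootC at this
  rw [this, if_pos rfl] at h1
  exact one_ne_zero h1

include Δ in
theorem inRootSub_wR {S : Set ℕ} {j : ℕ} (hj : j ∈ S) (hjr : j < D.rank) {r : ℕ}
    (hr : D.InRootSub S r) : D.InRootSub S (wR D (D.simple j) r) := by
  have hA := Δ.hAll j hjr
  refine ⟨wR_lt Δ.hB hA.hS.1 hA.hR hr.1, fun i hi hiS => ?_⟩
  have h1 := hA.hC.coroot r hr.1 i hi
  unfold corootC at h1
  rw [h1, hr.2 i hi hiS, if_neg, sub_zero]
  rintro rfl
  exact hiS hj

include Δ in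
theorem inRootSub_wFr {S : Set ℕ} {L : List ℕ} (hL : ∀ j ∈ L, j ∈ S ∧ j < D.rank) {r : ℕ}
    (hr : D.InRootSub S r) : D.InRootSub S (wFr D L r) := by
  induction L generalizing r with
  | nil => exact hr
  | cons j L ih =>
    have hj := hL j List.mem_cons_self
    exact ih (fun i hi => hL i (List.mem_cons_of_mem _ hi)) (Δ.inRootSub_wR hj.1 hj.2 hr)

include Δ in
theorem pos_notIn_wFr {S : Set ℕ} {L : List ℕ} (hL : ∀ j ∈ L, j ∈ S ∧ j < D.rank) {r : ℕ}
    (hr : D.IsPosRoot r) (hrS : ¬ D.InRootSub S r) :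
    D.IsPosRoot (wFr D L r) ∧ ¬ D.InRootSub S (wFr D L r) := by
  induction L generalizing r with
  | nil => exact ⟨hr, hrS⟩
  | cons j L ih =>
    have hj := hL j List.mem_cons_self
    have hA := Δ.hAll j hj.2
    have hne : r ≠ D.simple j := by
      rintro rfl
      exact hrS (Δ.inRootSub_simple hj.1 hj.2)
    have hw := Δ.wpos hj.2 hr hne
    apply ih (fun i hi => hL i (List.mem_cons_of_mem _ hi)) hw.1
    intro hin
    have := Δ.inRootSub_wR hj.1 hj.2 hin
    rw [wR_wR Δ.hB hA hr.1] at this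
    exact hrS this

include Δ in
/-- `N_J` takes the fundamental root subgroups outside `J` into `U` -/
theorem Nsub_pos_of_not_mem {J : List ℕ} {y : GL D.Idx F} (hy : y ∈ Δ.Nsub J) {i : ℕ}
    (hir : i < D.rank) (hi : i ∉ J) (t : F) :
    y * xU Δ.hB (D.simple i) t * y⁻¹ ∈ D.posUnipotent F := by
  obtain ⟨L, h, hh, hL, rfl⟩ := hy
  have hp := (Δ.hAll i hir).hS.1
  have hpos : D.IsPosRoot (D.simple i) := (Δ.hsign' _ hp).2 (Δ.hpN i hir)
  have h1 := (Δ.pos_notIn_wFr (S := {j | j ∈ J}) hL hpos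
    (Δ.not_inRootSub_simple (S := {j | j ∈ J}) hi hir)).1
  have h2 := (Δ.posAt_nWr_iff (F := F) (fun j hj => (hL j hj).2) hp).2 h1
  exact (Δ.conj_mul_diag_iff hh hp _).2 h2 t

include Δ in
/-- if `n` takes `X_r` into `V` then it takes `X_{-r}` into `U` -/
theorem pos_neg_of_neg {n : GL D.Idx F} (hn : n ∈ D.monomialSubgroup F) {r : ℕ}
    (hr : r < D.nroots) (h : ∀ t : F, n * xU Δ.hB r t * n⁻¹ ∈ D.negUnipotent F) (t : F) :
    n * xU Δ.hB (D.neg r) t * n⁻¹ ∈ D.posUnipotent F := by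
  obtain ⟨σ, cc, hσ⟩ := Δ.rootPermP_of_mem hn
  obtain ⟨h1, h2, h3⟩ := hσ r hr
  obtain ⟨h1', _, h3'⟩ := hσ (D.neg r) (Δ.hB.neg _ hr).1
  rw [h3', h2]
  rcases Δ.pos_or_neg h1 with hp | hng
  · exfalso
    apply Δ.not_pos_and_neg hr _ (h 1)
    rw [h3]
    exact Δ.xU_pos_mem hp _
  · exact Δ.xU_pos_mem (Δ.isPosRoot_neg hng) _

include Δ in
/-- additivity of the number of inversions -/
theorem card_invSet_mul {J : List ℕ} {x : List ℕ} (hx : ∀ j ∈ x, j < D.rank)
    (hxJ : ∀ j ∈ J, j < D.rank → D.IsPosRoot (wFr D x (D.simple j))) :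
    ∀ (k : ℕ) (y : GL D.Idx F), y ∈ Δ.Nsub J → (invSet D F y).card = k →
      (invSet D F (nWr Δ.hB F x * y)).card = (invSet D F (nWr Δ.hB F x)).card + k := by
  intro k
  induction k with
  | zero =>
    intro y hy hk
    have hyH := Δ.mem_diag_of_invSet_eq_empty (Δ.Nsub_le_monomial J hy) (Finset.card_eq_zero.1 hk)
    rw [Δ.invSet_mul_diag hyH, add_zero]
  | succ k ih =>
    intro y hy hk
    have hyN := Δ.Nsub_le_monomial J hy
    have hyH : y ∉ D.diagonalSubgroup F := by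
      intro hH
      rw [Δ.invSet_diag hH, Finset.card_empty] at hk
      omega
    obtain ⟨i, hi, hmem⟩ := Δ.exists_simple_mem_invSet hyN hyH
    have hA := Δ.hAll i hi
    have hp := hA.hS.1
    have hneg := (Δ.mem_invSet.1 hmem).2
    have hiJ : i ∈ J := by
      by_contra hiJ
      exact Δ.not_pos_and_neg hp (Δ.Nsub_pos_of_not_mem hy hi hiJ 1) (hneg 1)
    set s := nU Δ.hB (D.simple i) (one_ne_zero (α := F)) with hs
    have hsJ : s ∈ Δ.Nsub J := Δ.nU_mem_Nsub hiJ hi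
    have hy' : y * s ∈ Δ.Nsub J := Subgroup.mul_mem _ hy hsJ
    have hy'N := Δ.Nsub_le_monomial J hy'
    have hd : s * s ∈ D.diagonalSubgroup F := nU_sq_mem_diagonal Δ.hB hp
    have hwpp : wR D (D.simple i) (D.simple i) = D.neg (D.simple i) := by
      unfold wR; rw [if_pos rfl]
    have hpos' : ∀ t : F, y * s * xU Δ.hB (D.simple i) t * (y * s)⁻¹ ∈ D.posUnipotent F := by
      intro t
      have e : y * s * xU Δ.hB (D.simple i) t * (y * s)⁻¹ =
          y * (s * xU Δ.hB (D.simple i) t * s⁻¹) * y⁻¹ := by group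
      rw [e, nU_conj_xU Δ.hB hA hp, hwpp]
      exact Δ.pos_neg_of_neg hyN hp hneg _
    have hc1 := Δ.card_invSet_step hi hy'N hpos'
    have e1 : y * s * s = y * (s * s) := by group
    rw [← hs, e1, Δ.invSet_mul_diag hd, hk] at hc1
    have hk' : (invSet D F (y * s)).card = k := by omega
    have hIH := ih (y * s) hy' hk'
    -- the product `nWr x * (y * s)` takes the fundamental root `i` into `U`
    have hpos2 : ∀ t : F, nWr Δ.hB F x * (y * s) * xU Δ.hB (D.simple i) t *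
        (nWr Δ.hB F x * (y * s))⁻¹ ∈ D.posUnipotent F := by
      obtain ⟨L', h', hh', hL', e'⟩ := hy'
      have hL'2 : ∀ j ∈ L', j < D.rank := fun j hj => (hL' j hj).2
      rw [e'] at hpos'
      have h1 := (Δ.conj_mul_diag_iff hh' hp _).1 hpos'
      have h2 := (Δ.posAt_nWr_iff hL'2 hp).1 h1
      have h3 := Δ.inRootSub_wFr (S := {j | j ∈ J}) hL'
        (Δ.inRootSub_simple (S := {j | j ∈ J}) hiJ hi)
      have h4 := Δ.isPosRoot_wFr_of_inRootSub hx (J := {j | j ∈ J}) hxJ h2 h3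
      rw [← wFr_append] at h4
      have hLx : ∀ j ∈ L' ++ x, j < D.rank := by
        intro j hj
        rw [List.mem_append] at hj
        rcases hj with hj | hj
        · exact hL'2 j hj
        · exact hx j hj
      have h5 := (Δ.posAt_nWr_iff (F := F) hLx hp).2 h4
      rw [nWr_append] at h5
      have h6 := (Δ.conj_mul_diag_iff hh' hp _).2 h5
      rw [e', ← mul_assoc]
      exact h6
    have hxN := Δ.nWr_mem_monomial (F := F) hx
    have hc2 := Δ.card_invSet_step hi (Subgroup.mul_mem _ hxN hy'N) hpos2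
    have e2 : nWr Δ.hB F x * (y * s) * s = nWr Δ.hB F x * y * (s * s) := by group
    rw [← hs, e2, Δ.invSet_mul_diag hd, hIH] at hc2
    rw [hc2]; ring

include Δ in
theorem card_invSet_nWr {x : List ℕ} (hx : ∀ j ∈ x, j < D.rank) (hp : PrefPos D x) :
    (invSet D F (nWr Δ.hB F x)).card = x.length := by
  induction x with
  | nil =>
    have : nWr Δ.hB F [] = 1 := rfl
    rw [this, Δ.invSet_diag (Subgroup.one_mem _)]
    rfl
  | cons j L ih =>
    have hj := hx j List.mem_cons_self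
    have hL : ∀ i ∈ L, i < D.rank := fun i hi => hx i (List.mem_cons_of_mem _ hi)
    have hpos := (Δ.posAt_nWr_iff (F := F) hL (Δ.hAll j hj).hS.1).2 hp.2
    have := Δ.card_invSet_step hj (Δ.nWr_mem_monomial hL) hpos
    show (invSet D F (nWr Δ.hB F L * nU Δ.hB (D.simple j) (one_ne_zero (α := F)))).card = _
    rw [this, ih hL hp.1, List.length_cons]

/-- `Σ_{n ∈ N_J} q^{N(n)}` -/
noncomputable def Tsum (Δ : BNData D F) [Fintype F] (J : List ℕ) : ℕ :=
  ∑ᶠ n : ↥(Δ.Nsub J), Fintype.card F ^ (invSet D F (n : GL D.Idx F)).card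

include Δ in
theorem Tsum_nil [Fintype F] : Δ.Tsum [] = Nat.card (D.diagonalSubgroup F) := by
  unfold Tsum
  rw [Δ.Nsub_nil]
  have : ∀ n : ↥(D.diagonalSubgroup F),
      Fintype.card F ^ (invSet D F (n : GL D.Idx F)).card = 1 := by
    intro n
    rw [Δ.invSet_diag n.2, Finset.card_empty, pow_zero]
  rw [finsum_congr this]
  have : Fintype ↥(D.diagonalSubgroup F) := Fintype.ofFinite _
  rw [finsum_eq_sum_of_fintype, Finset.sum_const, Finset.card_univ, Nat.card_eq_fintype_card,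
    smul_eq_mul, mul_one]

include Δ in
theorem Tsum_top [Fintype F] [Fintype (WeylQ D F)] {J : List ℕ} (hJ : ∀ i < D.rank, i ∈ J) :
    Δ.Tsum J = Nat.card (D.diagonalSubgroup F) *
      ∑ w : WeylQ D F, Fintype.card F ^ (invSet D F (wrep w)).card := by
  unfold Tsum
  rw [Δ.Nsub_eq_monomial hJ]
  let Ψ : WeylQ D F × ↥(D.diagonalSubgroup F) → ↥(D.monomialSubgroup F) := fun p =>
    ⟨wrep p.1 * p.2.1, Subgroup.mul_mem _ (wrep_mem p.1) (Δ.diag_le_monomial p.2.2)⟩
  have hinj : Function.Injective Ψ := by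
    rintro ⟨w, ⟨h, hh⟩⟩ ⟨w', ⟨h', hh'⟩⟩ e
    have e' : wrep w * h = wrep w' * h' := congrArg Subtype.val e
    have hmem : (wrep w)⁻¹ * wrep w' ∈ D.diagonalSubgroup F := by
      have : (wrep w)⁻¹ * wrep w' = h * h'⁻¹ := by
        have : wrep w' = wrep w * h * h'⁻¹ := by rw [e']; group
        rw [this]; group
      rw [this]
      exact Subgroup.mul_mem _ hh (Subgroup.inv_mem _ hh')
    have hww : w = w' := by
      rw [← mk_wrep w, ← mk_wrep w', mk_eq_mk_iff]
      exact hmem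
    subst hww
    have : h = h' := mul_left_cancel e'
    subst this
    rfl
  have hsurj : Function.Surjective Ψ := by
    rintro ⟨n, hn⟩
    let w : WeylQ D F := QuotientGroup.mk ⟨n, hn⟩
    have hrel : n⁻¹ * wrep w ∈ D.diagonalSubgroup F := by
      rw [← mk_eq_mk_iff hn (wrep_mem w)]
      exact (mk_wrep w).symm
    refine ⟨⟨w, ⟨(n⁻¹ * wrep w)⁻¹, Subgroup.inv_mem _ hrel⟩⟩, ?_⟩
    apply Subtype.ext
    show wrep w * (n⁻¹ * wrep w)⁻¹ = n
    group
  rw [← finsum_eq_of_bijective Ψ ⟨hinj, hsurj⟩ (f := fun p : WeylQ D F × ↥(D.diagonalSubgroup F) =>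
    Fintype.card F ^ (invSet D F (wrep p.1)).card)]
  · have : Fintype ↥(D.diagonalSubgroup F) := Fintype.ofFinite _
    rw [finsum_eq_sum_of_fintype, Fintype.sum_prod_type]
    simp only [Finset.sum_const, Finset.card_univ, smul_eq_mul]
    rw [← Finset.mul_sum, Nat.card_eq_fintype_card]
  · rintro ⟨w, ⟨h, hh⟩⟩
    show _ = Fintype.card F ^ (invSet D F (wrep w * h)).card
    rw [Δ.invSet_mul_diag hh]

include Δ in
/-- the step along a chain of subsets of the fundamental roots -/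
theorem Tsum_cons [Fintype F] {J : List ℕ} {a : ℕ} (X : List (List ℕ))
    (h1 : ∀ x ∈ X, ∀ j ∈ x, j ∈ a :: J ∧ j < D.rank)
    (h2 : ∀ x ∈ X, ∀ j ∈ J, j < D.rank → D.IsPosRoot (wFr D x (D.simple j)))
    (h3 : ∀ x ∈ X, PrefPos D x)
    (h4 : [] ∈ X)
    (h5 : ∀ x ∈ X, ∀ i ∈ a :: J, i < D.rank →
      (∃ x' ∈ X, ∀ m < D.rank, wFr D (x ++ [i]) (D.simple m) = wFr D x' (D.simple m)) ∨
      (∃ j ∈ J, j < D.rank ∧
        ∀ m < D.rank, wFr D (x ++ [i]) (D.simple m) = wFr D (j :: x) (D.simple m)))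
    (h6 : ∀ (i j : Fin X.length), (∀ r < D.nroots,
      (D.IsPosRoot (wFr D (X.get i) r) ↔ D.IsPosRoot (wFr D (X.get j) r))) → i = j) :
    Δ.Tsum (a :: J) = (X.map fun x => Fintype.card F ^ x.length).sum * Δ.Tsum J := by
  have hJK : ∀ j ∈ J, j ∈ a :: J := fun j hj => List.mem_cons_of_mem _ hj
  have hXr : ∀ x ∈ X, ∀ j ∈ x, j < D.rank := fun x hx j hj => (h1 x hx j hj).2
  let Φ : Fin X.length × ↥(Δ.Nsub J) → ↥(Δ.Nsub (a :: J)) := fun p =>
    ⟨nWr Δ.hB F (X.get p.1) * p.2.1, Subgroup.mul_mem _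
      (Δ.nWr_mem_Nsub (h1 _ (List.get_mem X p.1))) (Δ.Nsub_mono hJK p.2.2)⟩
  have hinj : Function.Injective Φ := by
    rintro ⟨i, ⟨y, hy⟩⟩ ⟨i', ⟨y', hy'⟩⟩ e
    have e' : nWr Δ.hB F (X.get i) * y = nWr Δ.hB F (X.get i') * y' := congrArg Subtype.val e
    have hxi := List.get_mem X i
    have hxi' := List.get_mem X i'
    set x := X.get i with hx
    set x' := X.get i' with hx'
    have hz : y' * y⁻¹ ∈ Δ.Nsub J := Subgroup.mul_mem _ hy' (Subgroup.inv_mem _ hy)
    have hz' : (y' * y⁻¹)⁻¹ ∈ Δ.Nsub J := Subgroup.inv_mem _ hz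
    have e1 : nWr Δ.hB F x = nWr Δ.hB F x' * (y' * y⁻¹) := by
      have : nWr Δ.hB F x = nWr Δ.hB F x * y * y⁻¹ := by group
      rw [this, e']; group
    have e2 : nWr Δ.hB F x' = nWr Δ.hB F x * (y' * y⁻¹)⁻¹ := by
      rw [e1]; group
    have A1 := Δ.card_invSet_mul (hXr x' hxi') (h2 x' hxi') _ _ hz rfl
    have A2 := Δ.card_invSet_mul (hXr x hxi) (h2 x hxi) _ _ hz' rfl
    rw [← e1] at A1
    rw [← e2] at A2
    have h0 : (invSet D F (y' * y⁻¹)).card = 0 := by omega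
    have hzH := Δ.mem_diag_of_invSet_eq_empty (Δ.Nsub_le_monomial J hz) (Finset.card_eq_zero.1 h0)
    have hii : i = i' := by
      apply h6
      intro r hr
      rw [← Δ.posAt_nWr_iff (F := F) (hXr x hxi) hr, ← Δ.posAt_nWr_iff (F := F) (hXr x' hxi') hr,
        e1]
      exact Δ.conj_mul_diag_iff hzH hr _
    subst hii
    have : y = y' := mul_left_cancel e'
    subst this
    rfl
  have hsurjL : ∀ L : List ℕ, (∀ j ∈ L, j ∈ a :: J ∧ j < D.rank) →
      ∃ x ∈ X, ∃ y ∈ Δ.Nsub J, nWr Δ.hB F L = nWr Δ.hB F x * y := by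
    intro L
    induction L using List.reverseRecOn with
    | nil => intro _; exact ⟨[], h4, 1, Subgroup.one_mem _, by simp⟩
    | append_singleton L i ih =>
      intro hL
      have hi : i ∈ a :: J ∧ i < D.rank := hL i (by simp)
      obtain ⟨x, hx, y, hy, e⟩ := ih (fun j hj => hL j (List.mem_append_left _ hj))
      have e0 : nWr Δ.hB F (L ++ [i]) = nWr Δ.hB F (x ++ [i]) * y := by
        rw [nWr_append, nWr_append, e, mul_assoc]
      have hxi : ∀ j ∈ x ++ [i], j < D.rank := by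
        intro j hj
        rw [List.mem_append, List.mem_singleton] at hj
        rcases hj with hj | rfl
        · exact hXr x hx j hj
        · exact hi.2
      rcases h5 x hx i hi.1 hi.2 with ⟨x', hx', hkey⟩ | ⟨j, hjJ, hjr, hkey⟩
      · obtain ⟨d, hd, ed⟩ := Δ.nWr_eq_mul_of_key (F := F) hxi (hXr x' hx') hkey
        refine ⟨x', hx', d * y, Subgroup.mul_mem _ (Δ.diag_le_Nsub J hd) hy, ?_⟩
        rw [e0, ed, mul_assoc]
      · have hjx : ∀ k ∈ j :: x, k < D.rank := by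
          intro k hk
          rw [List.mem_cons] at hk
          rcases hk with rfl | hk
          · exact hjr
          · exact hXr x hx k hk
        obtain ⟨d, hd, ed⟩ := Δ.nWr_eq_mul_of_key (F := F) hxi hjx hkey
        refine ⟨x, hx, nU Δ.hB (D.simple j) (one_ne_zero (α := F)) * d * y,
          Subgroup.mul_mem _ (Subgroup.mul_mem _ (Δ.nU_mem_Nsub hjJ hjr) (Δ.diag_le_Nsub J hd)) hy,
          ?_⟩
        rw [e0, ed]
        show nWr Δ.hB F x * nU Δ.hB (D.simple j) (one_ne_zero (α := F)) * d * y = _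
        group
  have hsurj : Function.Surjective Φ := by
    rintro ⟨n, L, h, hh, hL, rfl⟩
    obtain ⟨x, hx, y, hy, e⟩ := hsurjL L hL
    obtain ⟨i, hi⟩ := List.get_of_mem hx
    refine ⟨⟨i, ⟨y * h, Subgroup.mul_mem _ hy (Δ.diag_le_Nsub J hh)⟩⟩, ?_⟩
    apply Subtype.ext
    show nWr Δ.hB F (X.get i) * (y * h) = nWr Δ.hB F L * h
    rw [hi, e, mul_assoc]
  unfold Tsum
  rw [← finsum_eq_of_bijective Φ ⟨hinj, hsurj⟩
    (f := fun p : Fin X.length × ↥(Δ.Nsub J) =>
      Fintype.card F ^ (X.get p.1).length * Fintype.card F ^ (invSet D F (p.2 : GL D.Idx F)).card)]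
  · have : Fintype ↥(Δ.Nsub J) := Fintype.ofFinite _
    rw [finsum_eq_sum_of_fintype, finsum_eq_sum_of_fintype, Fintype.sum_prod_type]
    simp only [← Finset.mul_sum]
    rw [← Finset.sum_mul]
    congr 1
    rw [← List.sum_ofFn]
    congr 1
    apply List.ext_get
    · simp
    · intro n h1 h2
      simp
  · rintro ⟨i, ⟨y, hy⟩⟩
    have hxi := List.get_mem X i
    show _ = Fintype.card F ^ (invSet D F (nWr Δ.hB F (X.get i) * y)).card
    rw [Δ.card_invSet_mul (hXr _ hxi) (h2 _ hxi) _ _ hy rfl,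
      Δ.card_invSet_nWr (hXr _ hxi) (h3 _ hxi), pow_add]

end BNData

end Cfsg.Agent.Helper6
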