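import Mathlib
import Cfsg.Agent.Helper6.Chev.WeylChain

set_option autoImplicit false
set_option linter.unusedSectionVars false
set_option linter.unusedSimpArgs false
set_option linter.unusedVariables false

/-!
The table checks behind one step of the chain of parabolic subgroups of the Weyl group.
-/

namespace Cfsg.Agent.Helper6

open Cfsg.Lie

/-- the action of a word on the packed tables -/
def wFrD (D : ChevalleyDatum) : List ℕ → ℕ → ℕ
  | [], r => r
  | j :: L, r => wFrD D L (wD D j r)

/-- membership test -/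
def memN (j : ℕ) : List ℕ → Bool
  | [] => false
  | a :: L => bif Nat.beq j a then true else memN j L

theorem memN_iff {j : ℕ} {L : List ℕ} : memN j L = true ↔ j ∈ L := by
  induction L with
  | nil => simp [memN]
  | cons a L ih =>
    unfold memN
    by_cases h : j = a
    · subst h; simp
    · have : Nat.beq j a = false := by
        rw [← Bool.not_eq_true, Nat.beq_eq]; exact h
      rw [this, cond_false, ih]
      simp [h]

def nodupN : List ℕ → Bool
  | [] => true
  | a :: L => bif memN a L then false else nodupN L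

theorem nodupN_nodup {L : List ℕ} (h : nodupN L = true) : L.Nodup := by
  induction L with
  | nil => exact List.nodup_nil
  | cons a L ih =>
    unfold nodupN at h
    cases hm : memN a L with
    | true => rw [hm] at h; simp at h
    | false =>
      rw [hm, cond_false] at h
      rw [List.nodup_cons]
      refine ⟨fun hmem => ?_, ih h⟩
      rw [← memN_iff, hm] at hmem
      exact Bool.false_ne_true hmem

def prefPosD (D : ChevalleyDatum) (N : ℕ) : List ℕ → Bool
  | [] => true
  | j :: L => prefPosD D N L && Nat.ble N (wFrD D L (D.simple j))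

def keyEqD (D : ChevalleyDatum) (L L' : List ℕ) : Bool :=
  allLt D.rank fun m => Nat.beq (wFrD D L (D.simple m)) (wFrD D L' (D.simple m))

def sigAcc (D : ChevalleyDatum) (N : ℕ) (x : List ℕ) : List ℕ → ℕ → ℕ
  | [], acc => acc
  | r :: R, acc => sigAcc D N x R (Nat.add (Nat.mul 2 acc) (bif Nat.ble N (wFrD D x r) then 1 else 0))

theorem sigAcc_congr {D : ChevalleyDatum} {N : ℕ} {x x' : List ℕ} {R : List ℕ}
    (h : ∀ r ∈ R, Nat.ble N (wFrD D x r) = Nat.ble N (wFrD D x' r)) (acc : ℕ) :
    sigAcc D N x R acc = sigAcc D N x' R acc := by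
  induction R generalizing acc with
  | nil => rfl
  | cons r R ih =>
    unfold sigAcc
    rw [h r List.mem_cons_self]
    exact ih (fun s hs => h s (List.mem_cons_of_mem _ hs)) _

/-- the fundamental reflection `i` after the word `L` agrees with the word `L'` on the fundamental
roots -/
def keyEq2 (D : ChevalleyDatum) (i : ℕ) (L L' : List ℕ) : Bool :=
  allLt D.rank fun m => Nat.beq (wD D i (wFrD D L (D.simple m))) (wFrD D L' (D.simple m))

/-- one entry of the transition table -/
def stepOne (D : ChevalleyDatum) (J : List ℕ) (X : List (List ℕ)) (n : ℕ) (x : List ℕ)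
    (i c : ℕ) : Bool :=
  bif Nat.blt c n then keyEq2 D i x (X.getD c [])
  else memN (Nat.sub c n) J && Nat.blt (Nat.sub c n) D.rank && keyEq2 D i x (Nat.sub c n :: x)

def closRow (D : ChevalleyDatum) (J : List ℕ) (X : List (List ℕ)) (n : ℕ) (x : List ℕ) :
    List ℕ → List ℕ → Bool
  | [], _ => true
  | _ :: _, [] => false
  | i :: K, c :: row => stepOne D J X n x i c && closRow D J X n x K row

def closAll (D : ChevalleyDatum) (J K : List ℕ) (X : List (List ℕ)) (n : ℕ) :
    List (List ℕ) → List (List ℕ) → Bool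
  | [], _ => true
  | _ :: _, [] => false
  | x :: Xs, row :: tr => closRow D J X n x K row && closAll D J K X n Xs tr

theorem closRow_spec {D : ChevalleyDatum} {J : List ℕ} {X : List (List ℕ)} {n : ℕ} {x : List ℕ} :
    ∀ (K row : List ℕ), closRow D J X n x K row = true →
      ∀ i ∈ K, ∃ c, stepOne D J X n x i c = true := by
  intro K
  induction K with
  | nil => intro row _ i hi; exact absurd hi (List.not_mem_nil)
  | cons i K ih =>
    intro row h
    cases row with
    | nil => simp [closRow] at h
    | cons c row =>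
      unfold closRow at h
      rw [Bool.and_eq_true] at h
      intro i' hi'
      rw [List.mem_cons] at hi'
      rcases hi' with rfl | hi'
      · exact ⟨c, h.1⟩
      · exact ih row h.2 i' hi'

theorem closAll_spec {D : ChevalleyDatum} {J K : List ℕ} {X : List (List ℕ)} {n : ℕ} :
    ∀ (Xs tr : List (List ℕ)), closAll D J K X n Xs tr = true →
      ∀ x ∈ Xs, ∀ i ∈ K, ∃ c, stepOne D J X n x i c = true := by
  intro Xs
  induction Xs with
  | nil => intro tr _ x hx; exact absurd hx (List.not_mem_nil)
  | cons x Xs ih =>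
    intro tr h
    cases tr with
    | nil => simp [closAll] at h
    | cons row tr =>
      unfold closAll at h
      rw [Bool.and_eq_true] at h
      intro x' hx'
      rw [List.mem_cons] at hx'
      rcases hx' with rfl | hx'
      · exact closRow_spec K row h.1
      · exact ih tr h.2 x' hx'

/-- all the checks for one step: `J` the smaller set of nodes, `a` the new node, `X` the words of the
minimal coset representatives, `tr` the transition table, `R` the test roots -/
def stepChk (D : ChevalleyDatum) (N : ℕ) (J : List ℕ) (a : ℕ) (X : List (List ℕ)) (n : ℕ)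
    (tr : List (List ℕ)) (R : List ℕ) : Bool :=
  allL (a :: J) (fun j => Nat.blt j D.rank) &&
  allL X (fun x => allL x fun j => memN j (a :: J)) &&
  allL X (fun x => allL J fun j => Nat.ble N (wFrD D x (D.simple j))) &&
  allL X (fun x => prefPosD D N x) &&
  memN 0 (X.map List.length) &&
  Nat.beq n X.length &&
  closAll D J (a :: J) X n X tr &&
  allL R (fun r => Nat.blt r D.nroots) &&
  nodupN (X.map fun x => sigAcc D N x R 0)

variable {D : ChevalleyDatum} {F : Type*} [Field F]

namespace BNData

variable (Δ : BNData D F)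

include Δ in
theorem wFrD_eq {L : List ℕ} (hL : ∀ j ∈ L, j < D.rank) {r : ℕ} (hr : r < D.nroots) :
    wFrD D L r = wFr D L r := by
  induction L generalizing r with
  | nil => rfl
  | cons j L ih =>
    have hj := hL j List.mem_cons_self
    have hA := Δ.hAll j hj
    have hw : wD D j r = wR D (D.simple j) r :=
      wD_eq Δ.hF Δ.hn (fun s hs => wR_lt Δ.hB hA.hS.1 hA.hR hs) hr
    show wFrD D L (wD D j r) = wFr D L (wR D (D.simple j) r)
    rw [hw]
    exact ih (fun i hi => hL i (List.mem_cons_of_mem _ hi)) (wR_lt Δ.hB hA.hS.1 hA.hR hr)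

include Δ in
theorem isPosRoot_iff_ble {r : ℕ} (hr : r < D.nroots) :
    D.IsPosRoot r ↔ Nat.ble (D.nroots / 2) r = true := by
  rw [Δ.hsign' r hr, Nat.ble_eq]

include Δ in
theorem prefPos_of_chk {x : List ℕ} (hx : ∀ j ∈ x, j < D.rank)
    (h : prefPosD D (D.nroots / 2) x = true) : PrefPos D x := by
  induction x with
  | nil => trivial
  | cons j L ih =>
    have hj := hx j List.mem_cons_self
    have hL : ∀ i ∈ L, i < D.rank := fun i hi => hx i (List.mem_cons_of_mem _ hi)
    unfold prefPosD at h
    rw [Bool.and_eq_true] at h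
    refine ⟨ih hL h.1, ?_⟩
    have hp := (Δ.hAll j hj).hS.1
    rw [Δ.isPosRoot_iff_ble (Δ.wFr_lt hL hp), ← Δ.wFrD_eq hL hp]
    exact h.2

include Δ in
theorem key_of_chk {L L' : List ℕ} (hL : ∀ j ∈ L, j < D.rank) (hL' : ∀ j ∈ L', j < D.rank)
    (h : keyEqD D L L' = true) : ∀ m < D.rank, wFr D L (D.simple m) = wFr D L' (D.simple m) := by
  intro m hm
  have hp := (Δ.hAll m hm).hS.1
  have := allLt_iff.1 h m hm
  rw [Nat.beq_eq] at this
  rw [← Δ.wFrD_eq hL hp, ← Δ.wFrD_eq hL' hp]
  exact this

include Δ in
/-- one step of the chain, from the table check -/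
theorem Tsum_cons_of_chk [Fintype F] {J : List ℕ} {a : ℕ} {X : List (List ℕ)} {n : ℕ}
    {tr : List (List ℕ)} {R : List ℕ} (h : stepChk D (D.nroots / 2) J a X n tr R = true) :
    Δ.Tsum (a :: J) = (X.map fun x => Fintype.card F ^ x.length).sum * Δ.Tsum J := by
  unfold stepChk at h
  simp only [Bool.and_eq_true] at h
  obtain ⟨⟨⟨⟨⟨⟨⟨⟨c0, c1⟩, c2⟩, c3⟩, c4⟩, cn⟩, c5⟩, c6⟩, c7⟩ := h
  rw [Nat.beq_eq] at cn
  subst cn
  have hK : ∀ j ∈ a :: J, j < D.rank := by
    intro j hj
    have := allL_iff.1 c0 j hj
    rwa [Nat.blt_eq] at this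
  have h1 : ∀ x ∈ X, ∀ j ∈ x, j ∈ a :: J ∧ j < D.rank := by
    intro x hx j hj
    have := memN_iff.1 (allL_iff.1 (allL_iff.1 c1 x hx) j hj)
    exact ⟨this, hK j this⟩
  have hXr : ∀ x ∈ X, ∀ j ∈ x, j < D.rank := fun x hx j hj => (h1 x hx j hj).2
  apply Δ.Tsum_cons X h1
  · intro x hx j hj hjr
    have hp := (Δ.hAll j hjr).hS.1
    have := allL_iff.1 (allL_iff.1 c2 x hx) j hj
    rw [Δ.isPosRoot_iff_ble (Δ.wFr_lt (hXr x hx) hp), ← Δ.wFrD_eq (hXr x hx) hp]
    exact this
  · intro x hx
    exact Δ.prefPos_of_chk (hXr x hx) (allL_iff.1 c3 x hx)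
  · have := memN_iff.1 c4
    rw [List.mem_map] at this
    obtain ⟨x, hx, hlen⟩ := this
    rw [List.length_eq_zero_iff] at hlen
    rwa [hlen] at hx
  · intro x hx i hi hir
    obtain ⟨c, hc⟩ := closAll_spec X tr c5 x hx i hi
    unfold stepOne at hc
    have hxr := hXr x hx
    have hxi : ∀ j ∈ x ++ [i], j < D.rank := by
      intro j hj
      rw [List.mem_append, List.mem_singleton] at hj
      rcases hj with hj | rfl
      · exact hxr j hj
      · exact hir
    have hA := Δ.hAll i hir
    -- the key of `x ++ [i]`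
    have hkey : ∀ {L' : List ℕ}, (∀ j ∈ L', j < D.rank) → keyEq2 D i x L' = true →
        ∀ m < D.rank, wFr D (x ++ [i]) (D.simple m) = wFr D L' (D.simple m) := by
      intro L' hL' hk m hm
      have hp := (Δ.hAll m hm).hS.1
      have := allLt_iff.1 hk m hm
      rw [Nat.beq_eq, Δ.wFrD_eq hxr hp, Δ.wFrD_eq hL' hp,
        wD_eq Δ.hF Δ.hn (fun s hs => wR_lt Δ.hB hA.hS.1 hA.hR hs) (Δ.wFr_lt hxr hp)] at this
      rw [wFr_append]
      exact this
    by_cases hlt : c < X.length
    · have hb : Nat.blt c X.length = true := by rw [Nat.blt_eq]; exact hlt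
      rw [hb, cond_true, List.getD_eq_getElem _ _ hlt] at hc
      left
      exact ⟨X[c], List.getElem_mem hlt, hkey (hXr _ (List.getElem_mem hlt)) hc⟩
    · have hb : Nat.blt c X.length = false := by
        rw [← Bool.not_eq_true, Nat.blt_eq]; exact hlt
      rw [hb, cond_false, Bool.and_eq_true, Bool.and_eq_true] at hc
      obtain ⟨⟨d1, d2⟩, d3⟩ := hc
      rw [Nat.blt_eq] at d2
      right
      refine ⟨Nat.sub c X.length, memN_iff.1 d1, d2, hkey ?_ d3⟩
      intro j hj
      rw [List.mem_cons] at hj
      rcases hj with rfl | hj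
      · exact d2
      · exact hxr j hj
  · intro i j hij
    have hnd := nodupN_nodup c7
    have hi' : i.1 < (X.map fun x => sigAcc D (D.nroots / 2) x R 0).length := by
      rw [List.length_map]; exact i.2
    have hj' : j.1 < (X.map fun x => sigAcc D (D.nroots / 2) x R 0).length := by
      rw [List.length_map]; exact j.2
    have heq : (X.map fun x => sigAcc D (D.nroots / 2) x R 0)[i.1] =
        (X.map fun x => sigAcc D (D.nroots / 2) x R 0)[j.1] := by
      rw [List.getElem_map, List.getElem_map]
      apply sigAcc_congr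
      intro r hr
      have hrn : r < D.nroots := by
        have := allL_iff.1 c6 r hr
        rwa [Nat.blt_eq] at this
      have hxi := hXr _ (List.get_mem X i)
      have hxj := hXr _ (List.get_mem X j)
      have := hij r hrn
      rw [Δ.isPosRoot_iff_ble (Δ.wFr_lt hxi hrn), Δ.isPosRoot_iff_ble (Δ.wFr_lt hxj hrn),
        ← Δ.wFrD_eq hxi hrn, ← Δ.wFrD_eq hxj hrn] at this
      exact Bool.eq_iff_iff.2 this
    exact Fin.ext ((List.Nodup.getElem_inj_iff hnd).1 heq)

end BNData

end Cfsg.Agent.Helper6
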