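import Mathlib
import Cfsg.Agent.Helper6.Chev.WeylChk

set_option autoImplicit false
set_option linter.unusedSectionVars false
set_option linter.unusedSimpArgs false
set_option linter.unusedVariables false

/-!
Chains of subgroups of `N ∩ G¹` for a subgroup `G¹` containing products `n_w` of fundamental
reflections along a list of words (the orbits of a symmetry of the Dynkin diagram): the analogue of
`WeylChain` for the twisted groups.
-/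

namespace Cfsg.Agent.Helper6

open Cfsg.Lie

variable {D : ChevalleyDatum} {F : Type*} [Field F]

/-- the words over the letters `Ws` -/
def WordsOver (Ws : List (List ℕ)) (L : List ℕ) : Prop :=
  ∃ Ls : List (List ℕ), (∀ w ∈ Ls, w ∈ Ws) ∧ L = Ls.flatten

theorem WordsOver.nil (Ws : List (List ℕ)) : WordsOver Ws [] := ⟨[], by simp, rfl⟩

theorem WordsOver.letter {Ws : List (List ℕ)} {w : List ℕ} (hw : w ∈ Ws) : WordsOver Ws w :=
  ⟨[w], by simpa using hw, by simp⟩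

theorem WordsOver.append {Ws : List (List ℕ)} {A B : List ℕ} (hA : WordsOver Ws A)
    (hB : WordsOver Ws B) : WordsOver Ws (A ++ B) := by
  obtain ⟨LA, h1, rfl⟩ := hA
  obtain ⟨LB, h2, rfl⟩ := hB
  refine ⟨LA ++ LB, ?_, by simp⟩
  intro w hw
  rw [List.mem_append] at hw
  rcases hw with hw | hw
  · exact h1 w hw
  · exact h2 w hw

theorem WordsOver.mono {Ws Ws' : List (List ℕ)} (h : ∀ w ∈ Ws, w ∈ Ws') {L : List ℕ}
    (hL : WordsOver Ws L) : WordsOver Ws' L := by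
  obtain ⟨Ls, h1, rfl⟩ := hL
  exact ⟨Ls, fun w hw => h w (h1 w hw), rfl⟩

theorem WordsOver.mem_flatten {Ws : List (List ℕ)} {L : List ℕ} (hL : WordsOver Ws L) :
    ∀ j ∈ L, j ∈ Ws.flatten := by
  obtain ⟨Ls, h1, rfl⟩ := hL
  intro j hj
  rw [List.mem_flatten] at hj ⊢
  obtain ⟨w, hw, hjw⟩ := hj
  exact ⟨w, h1 w hw, hjw⟩

/-- the hypotheses on the letters -/
structure TwOK (Δ : BNData D F) (G1 : Subgroup (GL D.Idx F)) (Ws : List (List ℕ)) : Prop where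
  lt : ∀ w ∈ Ws, ∀ j ∈ w, j < D.rank
  mem : ∀ w ∈ Ws, nWr Δ.hB F w ∈ G1
  sq : ∀ w ∈ Ws, ∀ m < D.rank, wFr D (w ++ w) (D.simple m) = D.simple m

namespace BNData

variable (Δ : BNData D F) {G1 : Subgroup (GL D.Idx F)} {Ws : List (List ℕ)}

theorem TwOK.mono {Ws' : List (List ℕ)} (hok : TwOK Δ G1 Ws) (h : ∀ w ∈ Ws', w ∈ Ws) :
    TwOK Δ G1 Ws' :=
  ⟨fun w hw => hok.lt w (h w hw), fun w hw => hok.mem w (h w hw), fun w hw => hok.sq w (h w hw)⟩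

theorem wordsOver_lt (hok : TwOK Δ G1 Ws) {L : List ℕ} (hL : WordsOver Ws L) :
    ∀ j ∈ L, j < D.rank := by
  obtain ⟨Ls, h1, rfl⟩ := hL
  intro j hj
  rw [List.mem_flatten] at hj
  obtain ⟨w, hw, hjw⟩ := hj
  exact hok.lt w (h1 w hw) j hjw

theorem nWr_mem_G1 (hok : TwOK Δ G1 Ws) {L : List ℕ} (hL : WordsOver Ws L) :
    nWr Δ.hB F L ∈ G1 := by
  obtain ⟨Ls, h1, rfl⟩ := hL
  induction Ls with
  | nil => exact Subgroup.one_mem _
  | cons w Ls ih =>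
    rw [List.flatten_cons, nWr_append]
    exact Subgroup.mul_mem _ (ih (fun v hv => h1 v (List.mem_cons_of_mem _ hv)))
      (hok.mem w (h1 w List.mem_cons_self))

theorem letter_sq_mem (hok : TwOK Δ G1 Ws) {w : List ℕ} (hw : w ∈ Ws) :
    nWr Δ.hB F w * nWr Δ.hB F w ∈ D.diagonalSubgroup F ⊓ G1 := by
  have hlt := hok.lt w hw
  have hww : ∀ j ∈ w ++ w, j < D.rank := by
    intro j hj
    rw [List.mem_append] at hj
    rcases hj with hj | hj <;> exact hlt j hj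
  have h1 := Δ.nWr_inv_mul_mem_of_key (F := F) hww (L' := []) (by simp) (hok.sq w hw)
  rw [nWr_append] at h1
  refine ⟨by simpa [nWr] using h1, Subgroup.mul_mem _ (hok.mem w hw) (hok.mem w hw)⟩

theorem conj_mem_H1 (hok : TwOK Δ G1 Ws) {L : List ℕ} (hL : WordsOver Ws L) {h : GL D.Idx F}
    (hh : h ∈ D.diagonalSubgroup F ⊓ G1) :
    (nWr Δ.hB F L)⁻¹ * h * nWr Δ.hB F L ∈ D.diagonalSubgroup F ⊓ G1 := by
  have hG := Δ.nWr_mem_G1 hok hL
  exact ⟨Δ.conj_diag_mem' (Δ.nWr_mem_monomial (Δ.wordsOver_lt hok hL)) hh.1,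
    Subgroup.mul_mem _ (Subgroup.mul_mem _ (Subgroup.inv_mem _ hG) hh.2) hG⟩

/-- the inverse of a word over the letters, modulo `H ∩ G¹` -/
theorem nWr_inv1 (hok : TwOK Δ G1 Ws) {L : List ℕ} (hL : WordsOver Ws L) :
    ∃ L', WordsOver Ws L' ∧ ∃ d ∈ D.diagonalSubgroup F ⊓ G1,
      (nWr Δ.hB F L)⁻¹ = nWr Δ.hB F L' * d := by
  obtain ⟨Ls, h1, rfl⟩ := hL
  induction Ls with
  | nil => exact ⟨[], WordsOver.nil _, 1, Subgroup.one_mem _, by simp [nWr]⟩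
  | cons w Ls ih =>
    have hw := h1 w List.mem_cons_self
    obtain ⟨L', hL', d, hd, e⟩ := ih (fun v hv => h1 v (List.mem_cons_of_mem _ hv))
    have hsq := Δ.letter_sq_mem hok hw
    have hLw : WordsOver Ws (L' ++ w) := hL'.append (WordsOver.letter hw)
    refine ⟨L' ++ w, hLw,
      (nWr Δ.hB F (L' ++ w))⁻¹ * (nWr Δ.hB F w * nWr Δ.hB F w)⁻¹ * nWr Δ.hB F (L' ++ w) * d,
      Subgroup.mul_mem _ (Δ.conj_mem_H1 hok hLw (Subgroup.inv_mem _ hsq)) hd, ?_⟩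
    rw [List.flatten_cons, nWr_append, mul_inv_rev, e, nWr_append]
    group

/-- the subgroup generated by the letters and `H ∩ G¹`, as a set of words -/
def Nsub1 (Δ : BNData D F) (G1 : Subgroup (GL D.Idx F)) (Ws : List (List ℕ))
    (hok : TwOK Δ G1 Ws) : Subgroup (GL D.Idx F) where
  carrier := {n | ∃ L : List ℕ, WordsOver Ws L ∧ ∃ h ∈ D.diagonalSubgroup F ⊓ G1,
    n = nWr Δ.hB F L * h}
  one_mem' := ⟨[], WordsOver.nil _, 1, Subgroup.one_mem _, by simp [nWr]⟩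
  mul_mem' := by
    rintro a b ⟨L, hL, h, hh, rfl⟩ ⟨L', hL', h', hh', rfl⟩
    refine ⟨L' ++ L, hL'.append hL, (nWr Δ.hB F L')⁻¹ * h * nWr Δ.hB F L' * h',
      Subgroup.mul_mem _ (Δ.conj_mem_H1 hok hL' hh) hh', ?_⟩
    rw [nWr_append]; group
  inv_mem' := by
    rintro a ⟨L, hL, h, hh, rfl⟩
    obtain ⟨L', hL', d, hd, e⟩ := Δ.nWr_inv1 hok hL
    refine ⟨L', hL', (nWr Δ.hB F L')⁻¹ * h⁻¹ * nWr Δ.hB F L' * d,
      Subgroup.mul_mem _ (Δ.conj_mem_H1 hok hL' (Subgroup.inv_mem _ hh)) hd, ?_⟩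
    rw [mul_inv_rev, e]; group

theorem mem_Nsub1 (hok : TwOK Δ G1 Ws) {n : GL D.Idx F} : n ∈ Δ.Nsub1 G1 Ws hok ↔
    ∃ L : List ℕ, WordsOver Ws L ∧ ∃ h ∈ D.diagonalSubgroup F ⊓ G1, n = nWr Δ.hB F L * h :=
  Iff.rfl

theorem H1_le_Nsub1 (hok : TwOK Δ G1 Ws) : D.diagonalSubgroup F ⊓ G1 ≤ Δ.Nsub1 G1 Ws hok := by
  intro h hh
  exact ⟨[], WordsOver.nil _, h, hh, by simp [nWr]⟩

theorem nWr_mem_Nsub1 (hok : TwOK Δ G1 Ws) {L : List ℕ} (hL : WordsOver Ws L) :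
    nWr Δ.hB F L ∈ Δ.Nsub1 G1 Ws hok :=
  ⟨L, hL, 1, Subgroup.one_mem _, by simp⟩

theorem Nsub1_le_G1 (hok : TwOK Δ G1 Ws) : Δ.Nsub1 G1 Ws hok ≤ G1 := by
  rintro n ⟨L, hL, h, hh, rfl⟩
  exact Subgroup.mul_mem _ (Δ.nWr_mem_G1 hok hL) hh.2

theorem Nsub1_le_Nsub (hok : TwOK Δ G1 Ws) : Δ.Nsub1 G1 Ws hok ≤ Δ.Nsub Ws.flatten := by
  rintro n ⟨L, hL, h, hh, rfl⟩
  exact ⟨L, h, hh.1, fun j hj => ⟨hL.mem_flatten j hj, Δ.wordsOver_lt hok hL j hj⟩, rfl⟩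

theorem Nsub1_le_monomial (hok : TwOK Δ G1 Ws) : Δ.Nsub1 G1 Ws hok ≤ D.monomialSubgroup F :=
  le_trans (Δ.Nsub1_le_Nsub hok) (Δ.Nsub_le_monomial _)

theorem Nsub1_mono {Ws' : List (List ℕ)} (hok : TwOK Δ G1 Ws) (hok' : TwOK Δ G1 Ws')
    (h : ∀ w ∈ Ws', w ∈ Ws) : Δ.Nsub1 G1 Ws' hok' ≤ Δ.Nsub1 G1 Ws hok := by
  rintro n ⟨L, hL, d, hd, rfl⟩
  exact ⟨L, hL.mono h, d, hd, rfl⟩

theorem Nsub1_nil (hok : TwOK Δ G1 []) : Δ.Nsub1 G1 [] hok = D.diagonalSubgroup F ⊓ G1 := by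
  apply le_antisymm
  · rintro n ⟨L, ⟨Ls, h1, rfl⟩, h, hh, rfl⟩
    cases Ls with
    | nil => simpa [nWr] using hh
    | cons w Ls => exact absurd (h1 w List.mem_cons_self) (List.not_mem_nil)
  · exact Δ.H1_le_Nsub1 hok

/-- `Σ_{n ∈ N¹_{Ws}} q^{N(n)}` -/
noncomputable def Tsum1 (Δ : BNData D F) (G1 : Subgroup (GL D.Idx F)) (q : ℕ) (Ws : List (List ℕ))
    (hok : TwOK Δ G1 Ws) : ℕ :=
  ∑ᶠ n : ↥(Δ.Nsub1 G1 Ws hok), q ^ (invSet D F (n : GL D.Idx F)).card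

include Δ in
theorem Tsum1_nil [Finite F] (q : ℕ) (hok : TwOK Δ G1 []) :
    Δ.Tsum1 G1 q [] hok = Nat.card ↥(D.diagonalSubgroup F ⊓ G1) := by
  unfold Tsum1
  rw [Δ.Nsub1_nil hok]
  have : ∀ n : ↥(D.diagonalSubgroup F ⊓ G1), q ^ (invSet D F (n : GL D.Idx F)).card = 1 := by
    intro n
    rw [Δ.invSet_diag n.2.1, Finset.card_empty, pow_zero]
  rw [finsum_congr this]
  have : Fintype ↥(D.diagonalSubgroup F ⊓ G1) := Fintype.ofFinite _
  rw [finsum_eq_sum_of_fintype, Finset.sum_const, Finset.card_univ, Nat.card_eq_fintype_card,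
    smul_eq_mul, mul_one]

include Δ in
/-- the step along a chain of sets of letters -/
theorem Tsum1_cons [Finite F] (q : ℕ) {w₀ : List ℕ} {Ws' : List (List ℕ)}
    (hok : TwOK Δ G1 (w₀ :: Ws')) (hok' : TwOK Δ G1 Ws') (X : List (List ℕ))
    (h1 : ∀ x ∈ X, WordsOver (w₀ :: Ws') x)
    (h2 : ∀ x ∈ X, ∀ j ∈ Ws'.flatten, j < D.rank → D.IsPosRoot (wFr D x (D.simple j)))
    (h3 : ∀ x ∈ X, PrefPos D x)
    (h4 : [] ∈ X)
    (h5 : ∀ x ∈ X, ∀ w ∈ w₀ :: Ws',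
      (∃ x' ∈ X, ∀ m < D.rank, wFr D (x ++ w) (D.simple m) = wFr D x' (D.simple m)) ∨
      (∃ w' ∈ Ws', ∀ m < D.rank, wFr D (x ++ w) (D.simple m) = wFr D (w' ++ x) (D.simple m)))
    (h6 : ∀ (i j : Fin X.length), (∀ r < D.nroots,
      (D.IsPosRoot (wFr D (X.get i) r) ↔ D.IsPosRoot (wFr D (X.get j) r))) → i = j) :
    Δ.Tsum1 G1 q (w₀ :: Ws') hok = (X.map fun x => q ^ x.length).sum * Δ.Tsum1 G1 q Ws' hok' := by
  have hsub : ∀ w ∈ Ws', w ∈ w₀ :: Ws' := fun w hw => List.mem_cons_of_mem _ hw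
  have hXr : ∀ x ∈ X, ∀ j ∈ x, j < D.rank := fun x hx => Δ.wordsOver_lt hok (h1 x hx)
  let Φ : Fin X.length × ↥(Δ.Nsub1 G1 Ws' hok') → ↥(Δ.Nsub1 G1 (w₀ :: Ws') hok) := fun p =>
    ⟨nWr Δ.hB F (X.get p.1) * p.2.1, Subgroup.mul_mem _
      (Δ.nWr_mem_Nsub1 hok (h1 _ (List.get_mem X p.1))) (Δ.Nsub1_mono hok hok' hsub p.2.2)⟩
  have hinj : Function.Injective Φ := by
    rintro ⟨i, ⟨y, hy⟩⟩ ⟨i', ⟨y', hy'⟩⟩ e
    have e' : nWr Δ.hB F (X.get i) * y = nWr Δ.hB F (X.get i') * y' := congrArg Subtype.val e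
    have hxi := List.get_mem X i
    have hxi' := List.get_mem X i'
    set x := X.get i with hx
    set x' := X.get i' with hx'
    have hz : y' * y⁻¹ ∈ Δ.Nsub1 G1 Ws' hok' := Subgroup.mul_mem _ hy' (Subgroup.inv_mem _ hy)
    have hz' : (y' * y⁻¹)⁻¹ ∈ Δ.Nsub1 G1 Ws' hok' := Subgroup.inv_mem _ hz
    have e1 : nWr Δ.hB F x = nWr Δ.hB F x' * (y' * y⁻¹) := by
      have : nWr Δ.hB F x = nWr Δ.hB F x * y * y⁻¹ := by group
      rw [this, e']; group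
    have e2 : nWr Δ.hB F x' = nWr Δ.hB F x * (y' * y⁻¹)⁻¹ := by
      rw [e1]; group
    have A1 := Δ.card_invSet_mul (hXr x' hxi') (h2 x' hxi') _ _ (Δ.Nsub1_le_Nsub hok' hz) rfl
    have A2 := Δ.card_invSet_mul (hXr x hxi) (h2 x hxi) _ _ (Δ.Nsub1_le_Nsub hok' hz') rfl
    rw [← e1] at A1
    rw [← e2] at A2
    have h0 : (invSet D F (y' * y⁻¹)).card = 0 := by omega
    have hzH := Δ.mem_diag_of_invSet_eq_empty (Δ.Nsub1_le_monomial hok' hz)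
      (Finset.card_eq_zero.1 h0)
    have hii : i = i' := by
      apply h6
      intro r hr
      rw [← Δ.posAt_nWr_iff (F := F) (hXr x hxi) hr, ← Δ.posAt_nWr_iff (F := F) (hXr x' hxi') hr,
        e1]
      exact Δ.conj_mul_diag_iff hzH hr _
    subst hii
    have : y = y' := mul_left_cancel e'
    subst this
    rfl
  have hsurjL : ∀ Ls : List (List ℕ), (∀ w ∈ Ls, w ∈ w₀ :: Ws') →
      ∃ x ∈ X, ∃ y ∈ Δ.Nsub1 G1 Ws' hok', nWr Δ.hB F Ls.flatten = nWr Δ.hB F x * y := by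
    intro Ls
    induction Ls using List.reverseRecOn with
    | nil => intro _; exact ⟨[], h4, 1, Subgroup.one_mem _, by simp⟩
    | append_singleton Ls w ih =>
      intro hLs
      have hw : w ∈ w₀ :: Ws' := hLs w (by simp)
      obtain ⟨x, hx, y, hy, e⟩ := ih (fun v hv => hLs v (List.mem_append_left _ hv))
      have e0 : nWr Δ.hB F (Ls ++ [w]).flatten = nWr Δ.hB F (x ++ w) * y := by
        rw [List.flatten_append, nWr_append, nWr_append, e, mul_assoc]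
        simp
      have hxwW : WordsOver (w₀ :: Ws') (x ++ w) := (h1 x hx).append (WordsOver.letter hw)
      have hxw := Δ.wordsOver_lt hok hxwW
      rcases h5 x hx w hw with ⟨x', hx', hkey⟩ | ⟨w', hw', hkey⟩
      · obtain ⟨d, hd, ed⟩ := Δ.nWr_eq_mul_of_key (F := F) hxw (hXr x' hx') hkey
        have hdG : d ∈ G1 := by
          have : d = (nWr Δ.hB F x')⁻¹ * nWr Δ.hB F (x ++ w) := by rw [ed]; group
          rw [this]
          exact Subgroup.mul_mem _ (Subgroup.inv_mem _ (Δ.nWr_mem_G1 hok (h1 x' hx')))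
            (Δ.nWr_mem_G1 hok hxwW)
        refine ⟨x', hx', d * y, Subgroup.mul_mem _ (Δ.H1_le_Nsub1 hok' ⟨hd, hdG⟩) hy, ?_⟩
        rw [e0, ed, mul_assoc]
      · have hw'x : WordsOver (w₀ :: Ws') (w' ++ x) :=
          (WordsOver.letter (hsub w' hw')).append (h1 x hx)
        obtain ⟨d, hd, ed⟩ := Δ.nWr_eq_mul_of_key (F := F) hxw (Δ.wordsOver_lt hok hw'x) hkey
        have hdG : d ∈ G1 := by
          have : d = (nWr Δ.hB F (w' ++ x))⁻¹ * nWr Δ.hB F (x ++ w) := by rw [ed]; group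
          rw [this]
          exact Subgroup.mul_mem _ (Subgroup.inv_mem _ (Δ.nWr_mem_G1 hok hw'x))
            (Δ.nWr_mem_G1 hok hxwW)
        refine ⟨x, hx, nWr Δ.hB F w' * d * y,
          Subgroup.mul_mem _ (Subgroup.mul_mem _ (Δ.nWr_mem_Nsub1 hok' (WordsOver.letter hw'))
            (Δ.H1_le_Nsub1 hok' ⟨hd, hdG⟩)) hy, ?_⟩
        rw [e0, ed, nWr_append]
        group
  have hsurj : Function.Surjective Φ := by
    rintro ⟨n, L, ⟨Ls, hLs, rfl⟩, h, hh, rfl⟩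
    obtain ⟨x, hx, y, hy, e⟩ := hsurjL Ls hLs
    obtain ⟨i, hi⟩ := List.get_of_mem hx
    refine ⟨⟨i, ⟨y * h, Subgroup.mul_mem _ hy (Δ.H1_le_Nsub1 hok' hh)⟩⟩, ?_⟩
    apply Subtype.ext
    show nWr Δ.hB F (X.get i) * (y * h) = nWr Δ.hB F Ls.flatten * h
    rw [hi, e, mul_assoc]
  unfold Tsum1
  rw [← finsum_eq_of_bijective Φ ⟨hinj, hsurj⟩
    (f := fun p : Fin X.length × ↥(Δ.Nsub1 G1 Ws' hok') =>
      q ^ (X.get p.1).length * q ^ (invSet D F (p.2 : GL D.Idx F)).card)]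
  · have : Fintype ↥(Δ.Nsub1 G1 Ws' hok') := Fintype.ofFinite _
    rw [finsum_eq_sum_of_fintype, finsum_eq_sum_of_fintype, Fintype.sum_prod_type]
    simp only [← Finset.mul_sum]
    rw [← Finset.sum_mul]
    congr 1
    rw [← List.sum_ofFn]
    congr 1
    apply List.ext_get
    · simp
    · intro n h1 h2
      simp
  · rintro ⟨i, ⟨y, hy⟩⟩
    have hxi := List.get_mem X i
    show _ = q ^ (invSet D F (nWr Δ.hB F (X.get i) * y)).card
    rw [Δ.card_invSet_mul (hXr _ hxi) (h2 _ hxi) _ _ (Δ.Nsub1_le_Nsub hok' hy) rfl,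
      Δ.card_invSet_nWr (hXr _ hxi) (h3 _ hxi), pow_add]

end BNData

end Cfsg.Agent.Helper6
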