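import Mathlib
import Cfsg.Agent.Helper6.Chev.TwChain

set_option autoImplicit false
set_option linter.unusedSectionVars false
set_option linter.unusedSimpArgs false
set_option linter.unusedVariables false

/-!
The factorisation `U_w⁻(m n_L) = n_L⁻¹ U_w⁻(m) n_L · U_w⁻(n_L)` along a word `L` each step of which
makes a new positive root negative, as a bijection.
-/

namespace Cfsg.Agent.Helper6

open Cfsg.Lie
open Cfsg.Agent.Helper2.BN

variable {D : ChevalleyDatum} {F : Type*} [Field F]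

namespace BNData

variable (Δ : BNData D F)

/-- `U_w⁻` of the element `n` -/
abbrev Un (Δ : BNData D F) (n : GL D.Idx F) : Subgroup (GL D.Idx F) :=
  Subgroup.closure (UnegGen D F n)

include Δ in
/-- the characterisation of `U_w⁻` -/
theorem mem_Un_iff {n : GL D.Idx F} (hn : n ∈ D.monomialSubgroup F) {u : GL D.Idx F} :
    u ∈ Δ.Un n ↔ u ∈ D.posUnipotent F ∧ n * u * n⁻¹ ∈ D.negUnipotent F :=
  ⟨fun h => ⟨Δ.unegGen_le_posUnipotent _ h, Δ.conj_uneg_mem h⟩,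
    fun h => Δ.mem_uneg_of_conj_mem hn h.1 h.2⟩

include Δ in
theorem Un_diag {h : GL D.Idx F} (hh : h ∈ D.diagonalSubgroup F) : Δ.Un h = ⊥ := by
  have h0 := Δ.invSet_diag hh
  have hgen : UnegGen D F h = ∅ := by
    rw [Set.eq_empty_iff_forall_notMem]
    intro x hx
    obtain ⟨r, hr, _⟩ := Δ.mem_unegGen_iff'.1 hx
    rw [h0] at hr
    exact absurd hr (Finset.notMem_empty r)
  unfold Un
  rw [hgen, Subgroup.closure_empty]

include Δ in
/-- `U ∩ V = 1` -/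
theorem eq_one_of_mem_U_of_mem_V {g : GL D.Idx F} (h1 : g ∈ D.posUnipotent F)
    (h2 : g ∈ D.negUnipotent F) : g = 1 := by
  have hmem : g ∈ D.borelSubgroup F ⊓ D.negUnipotent F := ⟨Δ.posUnipotent_le_borel h1, h2⟩
  rwa [borel_inf_negUnipotent Δ.hB Δ.hH Δ.good2, Subgroup.mem_bot] at hmem

section step

variable {i : ℕ} (hi : i < D.rank) {m : GL D.Idx F} (hmN : m ∈ D.monomialSubgroup F)
  (hpos : ∀ t : F, m * xU Δ.hB (D.simple i) t * m⁻¹ ∈ D.posUnipotent F)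

include Δ hi hmN hpos

/-- every element of `U_w⁻(m n_p)` is `n_p⁻¹ c n_p x_p(t)` with `c ∈ U_w⁻(m)` -/
theorem uneg_step_decomp {u : GL D.Idx F}
    (hu : u ∈ Δ.Un (m * nU Δ.hB (D.simple i) (one_ne_zero (α := F)))) :
    ∃ c ∈ Δ.Un m, ∃ t : F, u = (nU Δ.hB (D.simple i) (one_ne_zero (α := F)))⁻¹ * c *
      nU Δ.hB (D.simple i) (one_ne_zero (α := F)) * xU Δ.hB (D.simple i) t := by
  have hA := Δ.hAll i hi
  have hp := hA.hS.1
  set s := nU Δ.hB (D.simple i) (one_ne_zero (α := F)) with hs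
  have huU := Δ.unegGen_le_posUnipotent _ hu
  obtain ⟨v, hv, t, rfl⟩ := Δ.U_decomp hi huU
  have hvneg : v ∈ Subgroup.closure (UnegGen D F (m * s)) := by
    have : v = v * xU Δ.hB (D.simple i) t * (xU Δ.hB (D.simple i) t)⁻¹ := by group
    rw [this]
    exact Subgroup.mul_mem _ hu (Subgroup.inv_mem _ (Δ.x_simple_mem_uneg_step hi hmN hpos t))
  have h1 : s * v * s⁻¹ ∈ D.posUnipotent F := Δ.Uexc_le_U hi (Δ.nU_conj_Uexc hi hv)
  have h2 : m * (s * v * s⁻¹) * m⁻¹ ∈ D.negUnipotent F := by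
    have e : m * (s * v * s⁻¹) * m⁻¹ = m * s * v * (m * s)⁻¹ := by group
    rw [e]
    exact Δ.conj_uneg_mem hvneg
  have h3 := Δ.mem_uneg_of_conj_mem hmN h1 h2
  refine ⟨s * v * s⁻¹, h3, t, ?_⟩
  group

end step

/-- each step of the word `L` after `m` takes the next fundamental root subgroup into `U` -/
def StepPos (Δ : BNData D F) (m : GL D.Idx F) : List ℕ → Prop
  | [] => True
  | j :: L => StepPos Δ m L ∧ ∀ t : F, m * nWr Δ.hB F L * xU Δ.hB (D.simple j) t *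
      (m * nWr Δ.hB F L)⁻¹ ∈ D.posUnipotent F

include Δ in
theorem mul_nWr_mem {m : GL D.Idx F} (hmN : m ∈ D.monomialSubgroup F) {L : List ℕ}
    (hL : ∀ j ∈ L, j < D.rank) : m * nWr Δ.hB F L ∈ D.monomialSubgroup F :=
  Subgroup.mul_mem _ hmN (Δ.nWr_mem_monomial hL)

include Δ in
theorem mul_nWr_cons (m : GL D.Idx F) (j : ℕ) (L : List ℕ) :
    m * nWr Δ.hB F (j :: L) =
      m * nWr Δ.hB F L * nU Δ.hB (D.simple j) (one_ne_zero (α := F)) := by
  show m * (nWr Δ.hB F L * nU Δ.hB (D.simple j) (one_ne_zero (α := F))) = _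
  rw [mul_assoc]

include Δ in
/-- the number of inversions along the steps -/
theorem card_invSet_stepPos {m : GL D.Idx F} (hmN : m ∈ D.monomialSubgroup F) {L : List ℕ}
    (hL : ∀ j ∈ L, j < D.rank) (hsp : Δ.StepPos m L) :
    (invSet D F (m * nWr Δ.hB F L)).card = (invSet D F m).card + L.length := by
  induction L with
  | nil =>
    have : nWr Δ.hB F [] = 1 := rfl
    rw [this, mul_one, List.length_nil, add_zero]
  | cons j L ih =>
    have hj := hL j List.mem_cons_self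
    have hL' : ∀ i ∈ L, i < D.rank := fun i hi => hL i (List.mem_cons_of_mem _ hi)
    rw [Δ.mul_nWr_cons, Δ.card_invSet_step hj (Δ.mul_nWr_mem hmN hL') hsp.2, ih hL' hsp.1,
      List.length_cons, add_assoc]

include Δ in
/-- conjugation by `n_L⁻¹` carries `U_w⁻(m)` into `U_w⁻(m n_L)` -/
theorem conj_uneg_stepPos {m : GL D.Idx F} (hmN : m ∈ D.monomialSubgroup F) {L : List ℕ}
    (hL : ∀ j ∈ L, j < D.rank) (hsp : Δ.StepPos m L) {c : GL D.Idx F} (hc : c ∈ Δ.Un m) :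
    (nWr Δ.hB F L)⁻¹ * c * nWr Δ.hB F L ∈ Δ.Un (m * nWr Δ.hB F L) := by
  induction L with
  | nil =>
    have : nWr Δ.hB F [] = 1 := rfl
    rw [this, mul_one, inv_one, one_mul, mul_one]
    exact hc
  | cons j L ih =>
    have hj := hL j List.mem_cons_self
    have hL' : ∀ i ∈ L, i < D.rank := fun i hi => hL i (List.mem_cons_of_mem _ hi)
    have h1 := Δ.conj_uneg_step hj (Δ.mul_nWr_mem hmN hL') hsp.2 (ih hL' hsp.1)
    rw [Δ.mul_nWr_cons]
    have e : (nWr Δ.hB F (j :: L))⁻¹ * c * nWr Δ.hB F (j :: L) =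
        (nU Δ.hB (D.simple j) (one_ne_zero (α := F)))⁻¹ *
          ((nWr Δ.hB F L)⁻¹ * c * nWr Δ.hB F L) *
          nU Δ.hB (D.simple j) (one_ne_zero (α := F)) := by
      show (nWr Δ.hB F L * nU Δ.hB (D.simple j) (one_ne_zero (α := F)))⁻¹ * c *
        (nWr Δ.hB F L * nU Δ.hB (D.simple j) (one_ne_zero (α := F))) = _
      group
    rw [e]
    exact h1

include Δ in
theorem prefPos_pos {j : ℕ} {L : List ℕ} (hL : ∀ i ∈ j :: L, i < D.rank)
    (hp : PrefPos D (j :: L)) (t : F) :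
    nWr Δ.hB F L * xU Δ.hB (D.simple j) t * (nWr Δ.hB F L)⁻¹ ∈ D.posUnipotent F :=
  (Δ.posAt_nWr_iff (F := F) (fun i hi => hL i (List.mem_cons_of_mem _ hi))
    (Δ.hAll j (hL j List.mem_cons_self)).hS.1).2 hp.2 t

include Δ in
/-- `U_w⁻(n_L) ≤ U_w⁻(m n_L)` -/
theorem uneg_nWr_le {m : GL D.Idx F} (hmN : m ∈ D.monomialSubgroup F) {L : List ℕ}
    (hL : ∀ j ∈ L, j < D.rank) (hp : PrefPos D L) (hsp : Δ.StepPos m L) {x : GL D.Idx F}
    (hx : x ∈ Δ.Un (nWr Δ.hB F L)) : x ∈ Δ.Un (m * nWr Δ.hB F L) := by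
  induction L generalizing x with
  | nil =>
    have : nWr Δ.hB F [] = 1 := rfl
    rw [this, Δ.Un_diag (Subgroup.one_mem _), Subgroup.mem_bot] at hx
    rw [hx]
    exact Subgroup.one_mem _
  | cons j L ih =>
    have hj := hL j List.mem_cons_self
    have hL' : ∀ i ∈ L, i < D.rank := fun i hi => hL i (List.mem_cons_of_mem _ hi)
    have hpos1 := Δ.prefPos_pos hL hp
    obtain ⟨c, hc, t, rfl⟩ := Δ.uneg_step_decomp hj (Δ.nWr_mem_monomial hL') hpos1 hx
    rw [Δ.mul_nWr_cons]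
    exact Subgroup.mul_mem _
      (Δ.conj_uneg_step hj (Δ.mul_nWr_mem hmN hL') hsp.2 (ih hL' hp.1 hsp.1 hc))
      (Δ.x_simple_mem_uneg_step hj (Δ.mul_nWr_mem hmN hL') hsp.2 t)

include Δ in
/-- the factorisation is onto -/
theorem uneg_fac_surj {m : GL D.Idx F} (hmN : m ∈ D.monomialSubgroup F) {L : List ℕ}
    (hL : ∀ j ∈ L, j < D.rank) (hp : PrefPos D L) (hsp : Δ.StepPos m L) {y : GL D.Idx F}
    (hy : y ∈ Δ.Un (m * nWr Δ.hB F L)) :
    ∃ v ∈ Δ.Un m, ∃ x ∈ Δ.Un (nWr Δ.hB F L), y = (nWr Δ.hB F L)⁻¹ * v * nWr Δ.hB F L * x := by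
  induction L generalizing y with
  | nil =>
    have e1 : nWr Δ.hB F [] = 1 := rfl
    rw [e1, mul_one] at hy
    refine ⟨y, hy, 1, Subgroup.one_mem _, ?_⟩
    rw [e1]; group
  | cons j L ih =>
    have hj := hL j List.mem_cons_self
    have hL' : ∀ i ∈ L, i < D.rank := fun i hi => hL i (List.mem_cons_of_mem _ hi)
    have hpos1 := Δ.prefPos_pos hL hp
    rw [Δ.mul_nWr_cons] at hy
    obtain ⟨c, hc, t, rfl⟩ := Δ.uneg_step_decomp hj (Δ.mul_nWr_mem hmN hL') hsp.2 hy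
    obtain ⟨v, hv, x, hx, rfl⟩ := ih hL' hp.1 hsp.1 hc
    refine ⟨v, hv, (nU Δ.hB (D.simple j) (one_ne_zero (α := F)))⁻¹ * x *
      nU Δ.hB (D.simple j) (one_ne_zero (α := F)) * xU Δ.hB (D.simple j) t, ?_, ?_⟩
    · show _ ∈ Δ.Un (nWr Δ.hB F L * nU Δ.hB (D.simple j) (one_ne_zero (α := F)))
      exact Subgroup.mul_mem _ (Δ.conj_uneg_step hj (Δ.nWr_mem_monomial hL') hpos1 hx)
        (Δ.x_simple_mem_uneg_step hj (Δ.nWr_mem_monomial hL') hpos1 t)
    · show _ = (nWr Δ.hB F L * nU Δ.hB (D.simple j) (one_ne_zero (α := F)))⁻¹ * v *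
        (nWr Δ.hB F L * nU Δ.hB (D.simple j) (one_ne_zero (α := F))) * _
      group

include Δ in
/-- the factorisation is one to one -/
theorem uneg_fac_inj {m n : GL D.Idx F} {v v' x x' : GL D.Idx F} (hv : v ∈ Δ.Un m)
    (hv' : v' ∈ Δ.Un m) (hx : x ∈ Δ.Un n) (hx' : x' ∈ Δ.Un n)
    (e : n⁻¹ * v * n * x = n⁻¹ * v' * n * x') : v = v' ∧ x = x' := by
  have h1 : v'⁻¹ * v = n * (x' * x⁻¹) * n⁻¹ := by
    have : v = n * (n⁻¹ * v * n * x) * x⁻¹ * n⁻¹ := by group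
    rw [this, e]; group
  have hU : v'⁻¹ * v ∈ D.posUnipotent F :=
    Subgroup.mul_mem _ (Subgroup.inv_mem _ (Δ.unegGen_le_posUnipotent _ hv'))
      (Δ.unegGen_le_posUnipotent _ hv)
  have hV : v'⁻¹ * v ∈ D.negUnipotent F := by
    rw [h1]
    exact Δ.conj_uneg_mem (Subgroup.mul_mem _ hx' (Subgroup.inv_mem _ hx))
  have h2 := Δ.eq_one_of_mem_U_of_mem_V hU hV
  have hvv : v = v' := by
    have : v = v' * (v'⁻¹ * v) := by group
    rw [this, h2, mul_one]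
  subst hvv
  exact ⟨rfl, mul_left_cancel e⟩

end BNData

end Cfsg.Agent.Helper6
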