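import Mathlib
import Cfsg.Agent.Helper14.ExchCoxBN
import Cfsg.Agent.Helper6.Chev.WeylChk

set_option autoImplicit false
set_option linter.unusedSectionVars false
set_option linter.unusedSimpArgs false
set_option linter.unusedVariables false

/-!
`N / H` is the Coxeter group of the type of the datum.
-/

namespace Cfsg.Agent.Helper6

open Cfsg.Lie
open Cfsg.Agent.Helper2.BN
open Cfsg.Agent.Helper14.ExchCox

/-- the word of `(n_i n_j)^k` -/
def pwr (i j : ℕ) : ℕ → List ℕ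
  | 0 => []
  | k + 1 => j :: i :: pwr i j k

/-- the word makes some fundamental root negative -/
def negSomeD (D : ChevalleyDatum) (N : ℕ) (L : List ℕ) : Bool :=
  anyLt D.rank fun t => Nat.blt (wFrD D L (D.simple t)) N

/-- `(n_i n_j)^m ∈ H` and `(n_i n_j)^k ∉ H` for `0 < k < m` -/
def ordChkD (D : ChevalleyDatum) (N : ℕ) (i j m : ℕ) : Bool :=
  keyEqD D (pwr i j m) [] && allLt m fun k => Nat.beq k 0 || negSomeD D N (pwr i j k)

variable {D : ChevalleyDatum} {F : Type*} [Field F]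

theorem pwr_lt {i j : ℕ} (hi : i < D.rank) (hj : j < D.rank) (k : ℕ) :
    ∀ a ∈ pwr i j k, a < D.rank := by
  induction k with
  | zero => intro a ha; exact absurd ha (List.not_mem_nil)
  | succ k ih =>
    intro a ha
    unfold pwr at ha
    rw [List.mem_cons, List.mem_cons] at ha
    rcases ha with rfl | rfl | ha
    · exact hj
    · exact hi
    · exact ih a ha

theorem nWr_pwr (hB : BasicOK D) (i j k : ℕ) :
    nWr hB F (pwr i j k) = (nU hB (D.simple i) (one_ne_zero (α := F)) *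
      nU hB (D.simple j) (one_ne_zero (α := F))) ^ k := by
  induction k with
  | zero => rfl
  | succ k ih =>
    show nWr hB F (pwr i j k) * nU hB (D.simple i) (one_ne_zero (α := F)) *
      nU hB (D.simple j) (one_ne_zero (α := F)) = _
    rw [ih, pow_succ, mul_assoc]

namespace BNData

variable (Δ : BNData D F)

instance normalH : ((Δ.bnPair.B ⊓ Δ.bnPair.N).subgroupOf Δ.bnPair.N).Normal := by
  constructor
  intro h hh n
  rw [Subgroup.mem_subgroupOf] at hh ⊢
  simp only [Subgroup.coe_mul, Subgroup.coe_inv]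
  exact ⟨Δ.bnPair.conj_mem _ n.2 _ hh, Subgroup.mul_mem _ (Subgroup.mul_mem _ n.2 hh.2)
    (Subgroup.inv_mem _ n.2)⟩

/-- the fundamental reflection as an element of the group -/
def sElt {i : ℕ} (hi : i < D.rank) : ↥(D.group F) :=
  ⟨nU Δ.hB (D.simple i) (one_ne_zero (α := F)),
    Δ.monomial_le_group (nU_one_mem_monomial Δ.hB (Δ.hAll i hi).hS.1)⟩

theorem sElt_mem {i : ℕ} (hi : i < D.rank) : Δ.sElt hi ∈ Δ.bnPair.S := ⟨i, hi, rfl⟩

include Δ in
theorem simple_injective {i j : ℕ} (hi : i < D.rank) (hj : j < D.rank)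
    (h : D.simple i = D.simple j) : i = j := by
  have h1 := (Δ.hAll i hi).hE.1 i hi
  have h2 := (Δ.hAll j hj).hE.1 i hi
  rw [h, h2, if_pos rfl] at h1
  by_contra hne
  rw [if_neg hne] at h1
  exact zero_ne_one h1

theorem sElt_injective {i j : ℕ} (hi : i < D.rank) (hj : j < D.rank)
    (h : Δ.sElt hi = Δ.sElt hj) : i = j := by
  apply Δ.simple_injective hi hj
  by_contra hne
  have hA := Δ.hAll i hi
  have hp := hA.hS.1
  have hAj := Δ.hAll j hj
  have hppos : D.IsPosRoot (D.simple i) := (Δ.hsign' _ hp).2 (Δ.hpN i hi)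
  have e : nU Δ.hB (D.simple i) (one_ne_zero (α := F)) =
      nU Δ.hB (D.simple j) (one_ne_zero (α := F)) := congrArg Subtype.val h
  have hwpp : wR D (D.simple i) (D.simple i) = D.neg (D.simple i) := by
    unfold wR; rw [if_pos rfl]
  have hw := Δ.wpos hj hppos hne
  apply Δ.not_pos_and_neg (m := nU Δ.hB (D.simple i) (one_ne_zero (α := F))) hp
  · rw [e, nU_conj_xU (F := F) Δ.hB hAj hp 1]
    exact Δ.xU_pos_mem hw.1 _
  · rw [nU_conj_xU (F := F) Δ.hB hA hp 1, hwpp]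
    exact Δ.xU_neg_mem (Δ.isNegRoot_neg hppos) _

include Δ in
theorem nWr_mem_diag_of_keyEq {L : List ℕ} (hL : ∀ a ∈ L, a < D.rank)
    (h : keyEqD D L [] = true) : nWr Δ.hB F L ∈ D.diagonalSubgroup F := by
  have := Δ.nWr_inv_mul_mem_of_key (F := F) hL (L' := []) (by simp)
    (Δ.key_of_chk hL (by simp) h)
  simpa [nWr] using this

include Δ in
theorem nWr_not_mem_diag_of_neg {L : List ℕ} (hL : ∀ a ∈ L, a < D.rank)
    (h : negSomeD D (D.nroots / 2) L = true) : nWr Δ.hB F L ∉ D.diagonalSubgroup F := by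
  intro hH
  obtain ⟨t, ht, hlt⟩ := anyLt_iff.1 h
  rw [Nat.blt_eq] at hlt
  have hp := (Δ.hAll t ht).hS.1
  rw [Δ.wFrD_eq hL hp] at hlt
  have hneg : D.IsNegRoot (wFr D L (D.simple t)) := ((Δ.hsign _ (Δ.wFr_lt hL hp)).2).2 hlt
  have hmem : D.simple t ∈ invSet D F (nWr Δ.hB F L) := by
    rw [Δ.mem_invSet]
    refine ⟨(Δ.hsign' _ hp).2 (Δ.hpN t ht), fun u => ?_⟩
    obtain ⟨c, _, hc⟩ := Δ.nWr_conj (F := F) hL hp
    rw [hc]; exact Δ.xU_neg_mem hneg _
  rw [Δ.invSet_diag hH] at hmem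
  exact absurd hmem (Finset.notMem_empty _)

theorem sgen_mul_pow_eq_one_iff {i j : ℕ} (hi : i < D.rank) (hj : j < D.rank) (k : ℕ) :
    (sgen Δ.bnPair ⟨Δ.sElt hi, Δ.sElt_mem hi⟩ * sgen Δ.bnPair ⟨Δ.sElt hj, Δ.sElt_mem hj⟩) ^ k = 1 ↔
      nWr Δ.hB F (pwr i j k) ∈ D.diagonalSubgroup F := by
  have hNi := Δ.bnPair.subset (Δ.sElt_mem hi)
  have hNj := Δ.bnPair.subset (Δ.sElt_mem hj)
  have hN : (Δ.sElt hi * Δ.sElt hj) ^ k ∈ Δ.bnPair.N :=
    Subgroup.pow_mem _ (Subgroup.mul_mem _ hNi hNj) k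
  have e : (sgen Δ.bnPair ⟨Δ.sElt hi, Δ.sElt_mem hi⟩ *
      sgen Δ.bnPair ⟨Δ.sElt hj, Δ.sElt_mem hj⟩) ^ k =
      QuotientGroup.mk ⟨(Δ.sElt hi * Δ.sElt hj) ^ k, hN⟩ := by
    unfold sgen
    rw [← QuotientGroup.mk_mul, ← QuotientGroup.mk_pow]
    rfl
  rw [e, mk_eq_one_iff hN, Δ.mem_H_iff_val, nWr_pwr]
  rfl

theorem orderOf_sgen_mul {i j m : ℕ} (hi : i < D.rank) (hj : j < D.rank) (hm : 0 < m)
    (h : ordChkD D (D.nroots / 2) i j m = true) :
    orderOf (sgen Δ.bnPair ⟨Δ.sElt hi, Δ.sElt_mem hi⟩ *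
      sgen Δ.bnPair ⟨Δ.sElt hj, Δ.sElt_mem hj⟩) = m := by
  unfold ordChkD at h
  rw [Bool.and_eq_true] at h
  rw [orderOf_eq_iff hm]
  constructor
  · rw [Δ.sgen_mul_pow_eq_one_iff hi hj]
    exact Δ.nWr_mem_diag_of_keyEq (pwr_lt hi hj m) h.1
  · intro k hk hk0
    rw [Ne, Δ.sgen_mul_pow_eq_one_iff hi hj]
    have := allLt_iff.1 h.2 k hk
    rw [Bool.or_eq_true, Nat.beq_eq] at this
    rcases this with h0 | h1
    · omega
    · exact Δ.nWr_not_mem_diag_of_neg (pwr_lt hi hj k) h1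

/-- the indexing of the distinguished generators -/
noncomputable def sEquiv : Fin D.rank ≃ Δ.bnPair.S :=
  Equiv.ofBijective (fun i => ⟨Δ.sElt i.2, Δ.sElt_mem i.2⟩) (by
    constructor
    · intro i j h
      exact Fin.ext (Δ.sElt_injective i.2 j.2 (congrArg Subtype.val h))
    · rintro ⟨s, i, hi, hs⟩
      refine ⟨⟨i, hi⟩, ?_⟩
      apply Subtype.ext
      apply Subtype.ext
      apply Units.ext
      rw [hs]
      rfl)

theorem sEquiv_apply (i : Fin D.rank) : Δ.sEquiv i = ⟨Δ.sElt i.2, Δ.sElt_mem i.2⟩ := rfl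

include Δ in
/-- `N / H` is the Coxeter group of the matrix `M` -/
theorem exists_weyl_hom (M : CoxeterMatrix (Fin D.rank))
    (hM : ∀ i j : Fin D.rank, 0 < M i j ∧ ordChkD D (D.nroots / 2) i j (M i j) = true) :
    ∃ φ : ↥(D.monomialSubgroup F) →* M.Group, Function.Surjective φ ∧
      φ.ker = (D.diagonalSubgroup F).subgroupOf (D.monomialSubgroup F) ∧
      ∀ (i : Fin D.rank) (g : ↥(D.monomialSubgroup F)),
        ((g : GL D.Idx F) : Matrix D.Idx D.Idx F) = D.nMat F (D.simple i) 1 → φ g = M.simple i := by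
  set P := Δ.bnPair with hP
  have hs := hyp_sgen (P := P)
  have hinj := sgen_injective (P := P)
  set M₀ := ordMatrix (sgen P) hs hinj with hM₀
  have hMeq : M₀.reindex Δ.sEquiv.symm = M := by
    apply CoxeterMatrix.ext
    ext i j
    show M₀ (Δ.sEquiv.symm.symm i) (Δ.sEquiv.symm.symm j) = M i j
    rw [Equiv.symm_symm, hM₀, ordMatrix_apply, sEquiv_apply, sEquiv_apply]
    exact Δ.orderOf_sgen_mul i.2 j.2 (hM i j).1 (hM i j).2
  subst hMeq
  let E := coxEquiv hs hinj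
  let ι : ↥(D.monomialSubgroup F) ≃* ↥P.N :=
    (Subgroup.subgroupOfEquivOfLe Δ.monomial_le_group).symm
  let φ : ↥(D.monomialSubgroup F) →* (M₀.reindex Δ.sEquiv.symm).Group :=
    ((M₀.reindexGroupEquiv Δ.sEquiv.symm).symm.toMonoidHom.comp E.toMonoidHom).comp
      ((QuotientGroup.mk' _).comp ι.toMonoidHom)
  have hφ : ∀ g, φ g = (M₀.reindexGroupEquiv Δ.sEquiv.symm).symm (E (QuotientGroup.mk (ι g))) :=
    fun g => rfl
  have hι : ∀ g : ↥(D.monomialSubgroup F), (((ι g : ↥P.N) : ↥(D.group F)) : GL D.Idx F) = g :=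
    fun g => rfl
  refine ⟨φ, ?_, ?_, ?_⟩
  · intro y
    obtain ⟨w, rfl⟩ := (M₀.reindexGroupEquiv Δ.sEquiv.symm).symm.surjective y
    obtain ⟨v, rfl⟩ := E.surjective w
    obtain ⟨n, rfl⟩ := QuotientGroup.mk_surjective v
    obtain ⟨g, rfl⟩ := ι.surjective n
    exact ⟨g, rfl⟩
  · ext g
    rw [MonoidHom.mem_ker, hφ, Subgroup.mem_subgroupOf]
    rw [MulEquiv.map_eq_one_iff, MulEquiv.map_eq_one_iff]
    have : (QuotientGroup.mk (ι g) : ↥P.N ⧸ (P.B ⊓ P.N).subgroupOf P.N) =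
        QuotientGroup.mk ⟨((ι g : ↥P.N) : ↥(D.group F)), (ι g).2⟩ := rfl
    rw [this, mk_eq_one_iff (ι g).2, Δ.mem_H_iff_val, hι]
  · intro i g hg
    rw [hφ]
    have h1 : (QuotientGroup.mk (ι g) : ↥P.N ⧸ (P.B ⊓ P.N).subgroupOf P.N) =
        sgen P (Δ.sEquiv i) := by
      unfold sgen
      congr 1
      apply Subtype.ext
      apply Subtype.ext
      apply Units.ext
      rw [hι, hg]
      rfl
    have h2 : E (sgen P (Δ.sEquiv i)) = M₀.simple (Δ.sEquiv i) := by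
      have h3 : E.symm (M₀.simple (Δ.sEquiv i)) = sgen P (Δ.sEquiv i) := by
        show M₀.toCoxeterSystem.lift ⟨sgen P, liftable hs hinj⟩
          (PresentedGroup.of (Δ.sEquiv i)) = sgen P (Δ.sEquiv i)
        have := M₀.toCoxeterSystem.lift_apply_simple (liftable hs hinj) (Δ.sEquiv i)
        rwa [CoxeterMatrix.toCoxeterSystem_simple] at this
      rw [← h3, MulEquiv.apply_symm_apply]
    rw [h1, h2, CoxeterMatrix.reindexGroupEquiv_symm_apply_simple, Equiv.symm_apply_apply]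

include Δ in
/-- the same, with a boolean table check -/
theorem exists_weyl_hom' (M : CoxeterMatrix (Fin D.rank))
    (hM : ((List.finRange D.rank).all fun i => (List.finRange D.rank).all fun j =>
      Nat.blt 0 (M i j) && ordChkD D (D.nroots / 2) i j (M i j)) = true) :
    ∃ φ : ↥(D.monomialSubgroup F) →* M.Group, Function.Surjective φ ∧
      φ.ker = (D.diagonalSubgroup F).subgroupOf (D.monomialSubgroup F) ∧
      ∀ (i : Fin D.rank) (g : ↥(D.monomialSubgroup F)),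
        ((g : GL D.Idx F) : Matrix D.Idx D.Idx F) = D.nMat F (D.simple i) 1 → φ g = M.simple i := by
  apply Δ.exists_weyl_hom M
  intro i j
  rw [List.all_eq_true] at hM
  have h1 := hM i (List.mem_finRange i)
  rw [List.all_eq_true] at h1
  have h2 := h1 j (List.mem_finRange j)
  rw [Bool.and_eq_true, Nat.blt_eq] at h2
  exact h2

end BNData

end Cfsg.Agent.Helper6
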