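import Mathlib
import Cfsg.Agent.Helper6.Chev.WeylChk
import Cfsg.Agent.Helper6.Chev.PolyList

set_option autoImplicit false
set_option linter.unusedSectionVars false
set_option linter.unusedSimpArgs false
set_option linter.unusedVariables false

/-!
The order formula of a Chevalley group from the chain of parabolic subgroups of its Weyl group.
-/

namespace Cfsg.Agent.Helper6

open Cfsg.Lie

variable {D : ChevalleyDatum} {F : Type*} [Field F]

namespace BNData

variable (Δ : BNData D F)

include Δ in
theorem card_group_of_chain [Fintype F]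
    (hU : Nat.card (D.posUnipotent F) = Fintype.card F ^ (D.nroots / 2)) {J : List ℕ}
    (hJ : ∀ i < D.rank, i ∈ J) {P : ℕ} (hT : Δ.Tsum J = P * Δ.Tsum []) :
    Nat.card ↥(D.group F) =
      Fintype.card F ^ (D.nroots / 2) * Nat.card (D.diagonalSubgroup F) * P := by
  classical
  let _ : Fintype (WeylQ D F) := Fintype.ofFinite _
  rw [Δ.card_group_eq_sum, Δ.card_borel hU]
  have h1 := Δ.Tsum_top hJ
  rw [hT, Δ.Tsum_nil] at h1
  have hpos : 0 < Nat.card (D.diagonalSubgroup F) := Nat.card_pos
  have h2 : P = ∑ w : WeylQ D F, Fintype.card F ^ (invSet D F (wrep w)).card := by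
    apply Nat.eq_of_mul_eq_mul_left hpos
    rw [← h1, mul_comm]
  rw [h2]

include Δ in
/-- the order formula -/
theorem order_formula [Fintype F]
    (hU : Nat.card (D.posUnipotent F) = Fintype.card F ^ (D.nroots / 2)) {J : List ℕ}
    (hJ : ∀ i < D.rank, i ∈ J) {Xs : List (List (List ℕ))}
    (hT : Δ.Tsum J =
      (Xs.map fun X => (X.map fun x => Fintype.card F ^ x.length).sum).prod * Δ.Tsum [])
    {d : ℕ} (hd : d * Nat.card (D.diagonalSubgroup F) = (Fintype.card F - 1) ^ D.rank)
    (ds : List ℕ)
    (hpoly : plProd (List.replicate D.rank [-1, 1] ++ Xs.map plLen) = plProd (ds.map plXpowm1)) :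
    d * Nat.card ↥(D.group F) =
      Fintype.card F ^ (D.nroots / 2) * (ds.map fun e => Fintype.card F ^ e - 1).prod := by
  have hq1 : 1 ≤ Fintype.card F := Fintype.card_pos
  rw [Δ.card_group_of_chain hU hJ hT, ← poly_identity (Fintype.card F) hq1 D.rank Xs ds hpoly, ← hd]
  ring

end BNData

end Cfsg.Agent.Helper6
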