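import Mathlib
import Cfsg.Agent.Helper6.Chev.WeylChk

set_option autoImplicit false

/-!
Minimal coset representatives along the chain of parabolic subgroups of the Weyl group of type E6.
-/

namespace Cfsg.Agent.Helper6

open Cfsg.Lie

/-- words of the minimal coset representatives, step 0 -/
def wX_E6_0 : List (List ℕ) :=
  [[],
  [0]]

/-- transition table, step 0 -/
def wT_E6_0 : List (List ℕ) :=
  [[1],
  [0]]

/-- test roots, step 0 -/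
def wS_E6_0 : List ℕ := [56]

set_option maxRecDepth 100000 in
theorem wChk_E6_0 : stepChk chevE6 (chevE6.nroots / 2) [] 0 wX_E6_0 2 wT_E6_0 wS_E6_0 = true := by
  decide +kernel

/-- words of the minimal coset representatives, step 1 -/
def wX_E6_1 : List (List ℕ) :=
  [[],
  [1]]

/-- transition table, step 1 -/
def wT_E6_1 : List (List ℕ) :=
  [[1, 2],
  [0, 2]]

/-- test roots, step 1 -/
def wS_E6_1 : List ℕ := [46]

set_option maxRecDepth 100000 in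
theorem wChk_E6_1 : stepChk chevE6 (chevE6.nroots / 2) [0] 1 wX_E6_1 2 wT_E6_1 wS_E6_1 = true := by
  decide +kernel

/-- words of the minimal coset representatives, step 2 -/
def wX_E6_2 : List (List ℕ) :=
  [[],
  [2],
  [2, 0]]

/-- transition table, step 2 -/
def wT_E6_2 : List (List ℕ) :=
  [[1, 4, 3],
  [0, 4, 2],
  [3, 4, 1]]

/-- test roots, step 2 -/
def wS_E6_2 : List ℕ := [42, 57]

set_option maxRecDepth 100000 in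
theorem wChk_E6_2 : stepChk chevE6 (chevE6.nroots / 2) [1, 0] 2 wX_E6_2 3 wT_E6_2 wS_E6_2 = true := by
  decide +kernel

/-- words of the minimal coset representatives, step 3 -/
def wX_E6_3 : List (List ℕ) :=
  [[],
  [3],
  [3, 2],
  [3, 1],
  [3, 2, 1],
  [3, 2, 0],
  [3, 2, 1, 3],
  [3, 2, 1, 0],
  [3, 2, 1, 3, 0],
  [3, 2, 1, 3, 0, 2]]

/-- transition table, step 3 -/
def wT_E6_3 : List (List ℕ) :=
  [[1, 12, 11, 10],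
  [0, 2, 3, 10],
  [12, 1, 4, 5],
  [11, 4, 1, 10],
  [6, 3, 2, 7],
  [12, 10, 7, 2],
  [4, 11, 12, 8],
  [8, 10, 5, 4],
  [7, 9, 12, 6],
  [10, 8, 12, 11]]

/-- test roots, step 3 -/
def wS_E6_3 : List ℕ := [47, 58, 43, 50, 39, 61]

set_option maxRecDepth 100000 in
theorem wChk_E6_3 : stepChk chevE6 (chevE6.nroots / 2) [2, 1, 0] 3 wX_E6_3 10 wT_E6_3 wS_E6_3 = true := by
  decide +kernel

/-- words of the minimal coset representatives, step 4 -/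
def wX_E6_4 : List (List ℕ) :=
  [[],
  [4],
  [4, 3],
  [4, 3, 2],
  [4, 3, 1],
  [4, 3, 2, 1],
  [4, 3, 2, 0],
  [4, 3, 2, 1, 3],
  [4, 3, 2, 1, 0],
  [4, 3, 2, 1, 3, 4],
  [4, 3, 2, 1, 3, 0],
  [4, 3, 2, 1, 3, 4, 0],
  [4, 3, 2, 1, 3, 0, 2],
  [4, 3, 2, 1, 3, 4, 0, 2],
  [4, 3, 2, 1, 3, 4, 0, 2, 3],
  [4, 3, 2, 1, 3, 4, 0, 2, 3, 1]]

/-- transition table, step 4 -/
def wT_E6_4 : List (List ℕ) :=
  [[1, 19, 18, 17, 16],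
  [0, 2, 18, 17, 16],
  [19, 1, 3, 4, 16],
  [19, 18, 2, 5, 6],
  [19, 17, 5, 2, 16],
  [19, 7, 4, 3, 8],
  [19, 18, 16, 8, 3],
  [9, 5, 17, 18, 10],
  [19, 10, 16, 6, 5],
  [7, 19, 17, 18, 11],
  [11, 8, 12, 18, 7],
  [10, 19, 13, 18, 9],
  [13, 16, 10, 18, 17],
  [12, 14, 11, 18, 17],
  [16, 13, 19, 15, 17],
  [16, 18, 19, 14, 17]]

/-- test roots, step 4 -/
def wS_E6_4 : List ℕ := [51, 44, 59, 48, 53, 62, 37, 40, 64, 67]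

set_option maxRecDepth 100000 in
theorem wChk_E6_4 : stepChk chevE6 (chevE6.nroots / 2) [3, 2, 1, 0] 4 wX_E6_4 16 wT_E6_4 wS_E6_4 = true := by
  decide +kernel

/-- words of the minimal coset representatives, step 5 -/
def wX_E6_5 : List (List ℕ) :=
  [[],
  [5],
  [5, 4],
  [5, 4, 3],
  [5, 4, 3, 2],
  [5, 4, 3, 1],
  [5, 4, 3, 2, 1],
  [5, 4, 3, 2, 0],
  [5, 4, 3, 2, 1, 3],
  [5, 4, 3, 2, 1, 0],
  [5, 4, 3, 2, 1, 3, 4],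
  [5, 4, 3, 2, 1, 3, 0],
  [5, 4, 3, 2, 1, 3, 4, 5],
  [5, 4, 3, 2, 1, 3, 4, 0],
  [5, 4, 3, 2, 1, 3, 0, 2],
  [5, 4, 3, 2, 1, 3, 4, 5, 0],
  [5, 4, 3, 2, 1, 3, 4, 0, 2],
  [5, 4, 3, 2, 1, 3, 4, 5, 0, 2],
  [5, 4, 3, 2, 1, 3, 4, 0, 2, 3],
  [5, 4, 3, 2, 1, 3, 4, 5, 0, 2, 3],
  [5, 4, 3, 2, 1, 3, 4, 0, 2, 3, 1],
  [5, 4, 3, 2, 1, 3, 4, 5, 0, 2, 3, 4],
  [5, 4, 3, 2, 1, 3, 4, 5, 0, 2, 3, 1],
  [5, 4, 3, 2, 1, 3, 4, 5, 0, 2, 3, 4, 1],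
  [5, 4, 3, 2, 1, 3, 4, 5, 0, 2, 3, 4, 1, 3],
  [5, 4, 3, 2, 1, 3, 4, 5, 0, 2, 3, 4, 1, 3, 2],
  [5, 4, 3, 2, 1, 3, 4, 5, 0, 2, 3, 4, 1, 3, 2, 0]]

/-- transition table, step 5 -/
def wT_E6_5 : List (List ℕ) :=
  [[1, 31, 30, 29, 28, 27],
  [0, 2, 30, 29, 28, 27],
  [31, 1, 3, 29, 28, 27],
  [31, 30, 2, 4, 5, 27],
  [31, 30, 29, 3, 6, 7],
  [31, 30, 28, 6, 3, 27],
  [31, 30, 8, 5, 4, 9],
  [31, 30, 29, 27, 9, 4],
  [31, 10, 6, 28, 29, 11],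
  [31, 30, 11, 27, 7, 6],
  [12, 8, 30, 28, 29, 13],
  [31, 13, 9, 14, 29, 8],
  [10, 31, 30, 28, 29, 15],
  [15, 11, 30, 16, 29, 10],
  [31, 16, 27, 11, 29, 28],
  [13, 31, 30, 17, 29, 12],
  [17, 14, 18, 13, 29, 28],
  [16, 31, 19, 15, 29, 28],
  [19, 27, 16, 30, 20, 28],
  [18, 21, 17, 30, 22, 28],
  [22, 27, 29, 30, 18, 28],
  [27, 19, 31, 30, 23, 28],
  [20, 23, 29, 30, 19, 28],
  [27, 22, 24, 30, 21, 28],
  [27, 29, 23, 25, 31, 28],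
  [27, 29, 30, 24, 31, 26],
  [27, 29, 30, 28, 31, 25]]

/-- test roots, step 5 -/
def wS_E6_5 : List ℕ := [54, 49, 60, 68, 55, 63, 38, 45, 52, 65, 66, 70, 36, 41, 69, 71]

set_option maxRecDepth 100000 in
theorem wChk_E6_5 : stepChk chevE6 (chevE6.nroots / 2) [4, 3, 2, 1, 0] 5 wX_E6_5 27 wT_E6_5 wS_E6_5 = true := by
  decide +kernel

end Cfsg.Agent.Helper6
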