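import Mathlib
import Cfsg.Agent.Helper6.Chev.TablesWeylE6
import Cfsg.Agent.Helper6.Chev.OrderMain

set_option autoImplicit false

/-!
The chain of parabolic subgroups of the Weyl group of type E6: the sum of `q^(l(w))` and the
polynomial identity.
-/

namespace Cfsg.Agent.Helper6

open Cfsg.Lie

theorem tsum_E6 {F : Type*} [Field F] [Fintype F] (Δ : BNData chevE6 F) :
    Δ.Tsum [5, 4, 3, 2, 1, 0] =
      (([wX_E6_5, wX_E6_4, wX_E6_3, wX_E6_2, wX_E6_1, wX_E6_0] : List (List (List ℕ))).map fun X =>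
        (X.map fun x => Fintype.card F ^ x.length).sum).prod * Δ.Tsum [] := by
  rw [Δ.Tsum_cons_of_chk wChk_E6_5, Δ.Tsum_cons_of_chk wChk_E6_4, Δ.Tsum_cons_of_chk wChk_E6_3, Δ.Tsum_cons_of_chk wChk_E6_2, Δ.Tsum_cons_of_chk wChk_E6_1, Δ.Tsum_cons_of_chk wChk_E6_0]
  simp only [List.map_cons, List.map_nil, List.prod_cons, List.prod_nil, mul_one, mul_assoc]

set_option maxRecDepth 100000 in
theorem poly_E6 : plProd (List.replicate chevE6.rank [-1, 1] ++
    ([wX_E6_5, wX_E6_4, wX_E6_3, wX_E6_2, wX_E6_1, wX_E6_0] : List (List (List ℕ))).map plLen) = plProd (([2, 5, 6, 8, 9, 12] : List ℕ).map plXpowm1) := by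
  decide +kernel

end Cfsg.Agent.Helper6
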