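import Mathlib
import Cfsg.Agent.Helper6.Chev.Formal
import Cfsg.Agent.Helper6.Chev.NCols

set_option autoImplicit false
set_option linter.unusedSectionVars false
set_option linter.unusedVariables false
set_option linter.unusedSimpArgs false

/-!
Formal evaluation of root elements `x_r(σ)`, `σ` an integer, on arbitrary integer combinations of the
Chevalley basis (the `h_i` included).
-/

namespace Cfsg.Agent.Helper6

open Cfsg.Lie

variable (D : ChevalleyDatum) (F : Type*) [Field F]

/-- the vector denoted by a formal integer combination of the `h_i` -/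
def evalH (v : List (ℕ × ℤ)) : D.Idx → F := (v.map fun q => ((q.2 : ℤ) : F) • hv D F q.1).sum

/-- the vector denoted by a formal vector (toral part, root part) -/
def evalF (v : List (ℕ × ℤ) × List (ℕ × ℤ)) : D.Idx → F := evalH D F v.1 + evalV D F v.2

/-- the root part of the image of `c h_i` under `x_r(σ)` -/
def stepH1 (r : ℕ) (σ : ℤ) (q : ℕ × ℤ) : List (ℕ × ℤ) := [(r, -(q.2 * D.cartan q.1 r * σ))]

/-- the image of `c e_s` under `x_r(σ)` -/
def stepE1 (r : ℕ) (σ : ℤ) (q : ℕ × ℤ) : List (ℕ × ℤ) × List (ℕ × ℤ) :=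
  if q.1 = r then ([], [q])
  else if q.1 = D.neg r then
    ((List.range D.rank).map fun i => (i, q.2 * σ * corootC D r i), [q, (r, -(q.2 * σ ^ 2))])
  else ([], q :: (D.chainEntry r q.1).zipIdx.map fun e => (e.1.1, q.2 * e.1.2 * σ ^ (e.2 + 1)))

/-- the image of a formal vector under `x_r(σ)` -/
def stepF (r : ℕ) (σ : ℤ) (v : List (ℕ × ℤ) × List (ℕ × ℤ)) : List (ℕ × ℤ) × List (ℕ × ℤ) :=
  (v.1 ++ v.2.flatMap (fun q => (stepE1 D r σ q).1),
   v.1.flatMap (stepH1 D r σ) ++ v.2.flatMap (fun q => (stepE1 D r σ q).2))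

variable {D F}

theorem evalH_nil : evalH D F [] = 0 := rfl

theorem evalH_cons (q : ℕ × ℤ) (v : List (ℕ × ℤ)) :
    evalH D F (q :: v) = ((q.2 : ℤ) : F) • hv D F q.1 + evalH D F v := by
  simp [evalH]

theorem evalH_append (v w : List (ℕ × ℤ)) : evalH D F (v ++ w) = evalH D F v + evalH D F w := by
  simp [evalH]

theorem evalH_apply_inr (v : List (ℕ × ℤ)) (u : Fin D.nroots) : evalH D F v (Sum.inr u) = 0 := by
  induction v with
  | nil => rfl
  | cons q v ih => rw [evalH_cons]; simp [hv_apply_inr, ih]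

/-- the coordinate of a formal vector at a root vector -/
theorem evalF_apply_inr (v : List (ℕ × ℤ) × List (ℕ × ℤ)) (u : Fin D.nroots) :
    evalF D F v (Sum.inr u) = ((coeffOf v.2 u.val : ℤ) : F) := by
  unfold evalF
  rw [Pi.add_apply, evalH_apply_inr, evalV_apply_inr, zero_add]

theorem evalH_range_hr (a : ℤ) (r : ℕ) :
    evalH D F ((List.range D.rank).map fun i => (i, a * corootC D r i)) = ((a : ℤ) : F) • hr D F r := by
  unfold hr evalH
  rw [Finset.smul_sum, List.map_map, ← List.sum_toFinset _ (List.nodup_range), List.toFinset_range]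
  apply Finset.sum_congr rfl
  intro i _
  simp only [Function.comp]
  rw [smul_smul]
  push_cast
  rfl

section step

variable (hB : BasicOK D) {r : ℕ} (hr' : r < D.nroots)
include hB hr'

theorem x_mulVec_evalH (σ : ℤ) (v : List (ℕ × ℤ)) (hv' : ∀ q ∈ v, q.1 < D.rank) :
    (D.x F r ((σ : ℤ) : F)).mulVec (evalH D F v) =
      evalH D F v + evalV D F (v.flatMap (stepH1 D r σ)) := by
  induction v with
  | nil => simp [evalH_nil, evalV_nil]
  | cons q v ih =>
    rw [evalH_cons, Matrix.mulVec_add, Matrix.mulVec_smul, List.flatMap_cons, evalV_append,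
      ih (fun q' hq' => hv' q' (List.mem_cons_of_mem _ hq')),
      x_mulVec_hv hB hr' _ (hv' q List.mem_cons_self)]
    unfold stepH1
    rw [evalV_cons, evalV_nil]
    simp only
    push_cast
    module

theorem x_mulVec_evalV (σ : ℤ) (v : List (ℕ × ℤ)) (hv' : ∀ q ∈ v, q.1 < D.nroots) :
    (D.x F r ((σ : ℤ) : F)).mulVec (evalV D F v) =
      evalH D F (v.flatMap fun q => (stepE1 D r σ q).1) +
        evalV D F (v.flatMap fun q => (stepE1 D r σ q).2) := by
  induction v with
  | nil => simp [evalH_nil, evalV_nil]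
  | cons q v ih =>
    rw [evalV_cons, Matrix.mulVec_add, Matrix.mulVec_smul, List.flatMap_cons, List.flatMap_cons,
      evalV_append, evalH_append, ih (fun q' hq' => hv' q' (List.mem_cons_of_mem _ hq'))]
    have hq := hv' q List.mem_cons_self
    have key : ((q.2 : ℤ) : F) • (D.x F r ((σ : ℤ) : F)).mulVec (ev D F q.1) =
        evalH D F (stepE1 D r σ q).1 + evalV D F (stepE1 D r σ q).2 := by
      unfold stepE1
      by_cases e1 : q.1 = r
      · rw [if_pos e1, e1, x_mulVec_ev_self hB hr']
        simp only [evalH_nil, zero_add, evalV_cons, evalV_nil, add_zero, e1]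
      · rw [if_neg e1]
        by_cases e2 : q.1 = D.neg r
        · rw [if_pos e2, e2, x_mulVec_ev_neg hB hr']
          simp only [evalV_cons, evalV_nil, add_zero]
          have := evalH_range_hr (D := D) (F := F) (q.2 * σ) r
          rw [this, e2]
          push_cast
          module
        · rw [if_neg e2, x_of_lt hr', x_mulVec_ev' hB.keys ⟨r, hr'⟩ _ ⟨hq, e1, e2⟩]
          simp only [evalH_nil, zero_add, evalV_cons]
          rw [smul_add, smul_chainVec_eq_evalV]
    rw [key]
    abel

/-- correctness of the formal step -/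
theorem evalF_step (σ : ℤ) (v : List (ℕ × ℤ) × List (ℕ × ℤ)) (h1 : ∀ q ∈ v.1, q.1 < D.rank)
    (h2 : ∀ q ∈ v.2, q.1 < D.nroots) :
    (D.x F r ((σ : ℤ) : F)).mulVec (evalF D F v) = evalF D F (stepF D r σ v) := by
  unfold evalF stepF
  rw [Matrix.mulVec_add, x_mulVec_evalH hB hr' σ v.1 h1, x_mulVec_evalV hB hr' σ v.2 h2]
  simp only [evalH_append, evalV_append]
  abel

end step

/-- range conditions of a formal vector -/
def FOK (D : ChevalleyDatum) (v : List (ℕ × ℤ) × List (ℕ × ℤ)) : Prop :=
  (∀ q ∈ v.1, q.1 < D.rank) ∧ (∀ q ∈ v.2, q.1 < D.nroots)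

instance (D : ChevalleyDatum) (v : List (ℕ × ℤ) × List (ℕ × ℤ)) : Decidable (FOK D v) := by
  unfold FOK; infer_instance

theorem evalF_single (s : ℕ) : evalF D F ([], [(s, 1)]) = ev D F s := by
  unfold evalF
  rw [evalH_nil, evalV_cons, evalV_nil]
  simp

end Cfsg.Agent.Helper6
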