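import Mathlib
import Cfsg.Agent.Helper6.Chev.TablesPerf

set_option autoImplicit false
set_option linter.unusedSectionVars false
set_option linter.unusedSimpArgs false
set_option linter.unusedVariables false

/-!
The Chevalley group of a tabulated datum is perfect (except `G₂(2)`, `B₂(2)`).
-/

namespace Cfsg.Agent.Helper6

open Cfsg.Lie

theorem inDer_G2 {F : Type*} [Field F] (hB : BasicOK chevG2)
    (hC : ∀ r < chevG2.nroots, ∀ s < chevG2.nroots, s ≠ r → s ≠ chevG2.neg r → CommF chevG2 F r s)
    {l : F} (hl0 : l ≠ 0) (hl1 : l ≠ 1) : ∀ r < chevG2.nroots, InDer hB F r := by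
  have hT_1_5 : chevG2.commTerms 1 5 = [(0, 1, 1, 1)] := by decide +kernel
  have h0 : InDer hB F 0 := inDer_of_single hB (by decide) (by decide) (hC 1 (by decide) 5 (by decide) (by decide) (by decide)) hT_1_5 (by norm_num)
  have hT_0_6 : chevG2.commTerms 0 6 = [(1, 1, 1, 1)] := by decide +kernel
  have h1 : InDer hB F 1 := inDer_of_single hB (by decide) (by decide) (hC 0 (by decide) 6 (by decide) (by decide) (by decide)) hT_0_6 (by norm_num)
  have hT_0_10 : chevG2.commTerms 0 10 = [(5, -1, 1, 1)] := by decide +kernel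
  have h5 : InDer hB F 5 := inDer_of_single hB (by decide) (by decide) (hC 0 (by decide) 10 (by decide) (by decide) (by decide)) hT_0_10 (by norm_num)
  have hT_1_11 : chevG2.commTerms 1 11 = [(6, -1, 1, 1)] := by decide +kernel
  have h6 : InDer hB F 6 := inDer_of_single hB (by decide) (by decide) (hC 1 (by decide) 11 (by decide) (by decide) (by decide)) hT_1_11 (by norm_num)
  have hT_5_11 : chevG2.commTerms 5 11 = [(10, 1, 1, 1)] := by decide +kernel
  have h10 : InDer hB F 10 := inDer_of_single hB (by decide) (by decide) (hC 5 (by decide) 11 (by decide) (by decide) (by decide)) hT_5_11 (by norm_num)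
  have hT_6_10 : chevG2.commTerms 6 10 = [(11, 1, 1, 1)] := by decide +kernel
  have h11 : InDer hB F 11 := inDer_of_single hB (by decide) (by decide) (hC 6 (by decide) 10 (by decide) (by decide) (by decide)) hT_6_10 (by norm_num)
  have hT_2_10 : chevG2.commTerms 2 10 = [(7, -1, 1, 1), (3, 1, 2, 1), (0, 1, 3, 1), (5, 1, 3, 2)] := by decide +kernel
  have hd_2_10 := inDer_of_double hB (by decide) (by decide) (hC 2 (by decide) 10 (by decide) (by decide) (by decide)) hT_2_10 (by norm_num) (by norm_num)
    (by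
      intro p hp
      simp only [List.mem_cons, List.not_mem_nil, or_false] at hp
      rcases hp with rfl | rfl
      · exact h0
      · exact h5) hl0 hl1
  have h7 : InDer hB F 7 := hd_2_10.1
  have h3 : InDer hB F 3 := hd_2_10.2
  have hT_2_11 : chevG2.commTerms 2 11 = [(8, -1, 1, 1), (4, -1, 2, 1), (1, -1, 3, 1), (6, -1, 3, 2)] := by decide +kernel
  have hd_2_11 := inDer_of_double hB (by decide) (by decide) (hC 2 (by decide) 11 (by decide) (by decide) (by decide)) hT_2_11 (by norm_num) (by norm_num)
    (by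
      intro p hp
      simp only [List.mem_cons, List.not_mem_nil, or_false] at hp
      rcases hp with rfl | rfl
      · exact h1
      · exact h6) hl0 hl1
  have h8 : InDer hB F 8 := hd_2_11.1
  have h4 : InDer hB F 4 := hd_2_11.2
  have hT_3_6 : chevG2.commTerms 3 6 = [(4, 1, 1, 1), (2, -1, 2, 1), (0, 1, 3, 1), (1, -1, 3, 2)] := by decide +kernel
  have hd_3_6 := inDer_of_double hB (by decide) (by decide) (hC 3 (by decide) 6 (by decide) (by decide) (by decide)) hT_3_6 (by norm_num) (by norm_num)
    (by
      intro p hp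
      simp only [List.mem_cons, List.not_mem_nil, or_false] at hp
      rcases hp with rfl | rfl
      · exact h0
      · exact h1) hl0 hl1
  have h4 : InDer hB F 4 := hd_3_6.1
  have h2 : InDer hB F 2 := hd_3_6.2
  have hT_3_11 : chevG2.commTerms 3 11 = [(9, 1, 1, 1), (7, 1, 2, 1), (5, -1, 3, 1), (10, 1, 3, 2)] := by decide +kernel
  have hd_3_11 := inDer_of_double hB (by decide) (by decide) (hC 3 (by decide) 11 (by decide) (by decide) (by decide)) hT_3_11 (by norm_num) (by norm_num)
    (by
      intro p hp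
      simp only [List.mem_cons, List.not_mem_nil, or_false] at hp
      rcases hp with rfl | rfl
      · exact h5
      · exact h10) hl0 hl1
  have h9 : InDer hB F 9 := hd_3_11.1
  have h7 : InDer hB F 7 := hd_3_11.2
  intro r hr
  have hr' : r < 12 := hr
  interval_cases r
  · exact h0
  · exact h1
  · exact h2
  · exact h3
  · exact h4
  · exact h5
  · exact h6
  · exact h7
  · exact h8
  · exact h9
  · exact h10
  · exact h11

theorem inDer_B2 {F : Type*} [Field F] (hB : BasicOK chevB2)
    (hC : ∀ r < chevB2.nroots, ∀ s < chevB2.nroots, s ≠ r → s ≠ chevB2.neg r → CommF chevB2 F r s)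
    {l : F} (hl0 : l ≠ 0) (hl1 : l ≠ 1) : ∀ r < chevB2.nroots, InDer hB F r := by
  have hT_1_4 : chevB2.commTerms 1 4 = [(2, 1, 1, 1), (0, 1, 2, 1)] := by decide +kernel
  have hd_1_4 := inDer_of_double hB (by decide) (by decide) (hC 1 (by decide) 4 (by decide) (by decide) (by decide)) hT_1_4 (by norm_num) (by norm_num)
    (by intro p hp; simp at hp) hl0 hl1
  have h2 : InDer hB F 2 := hd_1_4.1
  have h0 : InDer hB F 0 := hd_1_4.2
  have hT_1_7 : chevB2.commTerms 1 7 = [(5, -1, 1, 1), (3, 1, 2, 1)] := by decide +kernel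
  have hd_1_7 := inDer_of_double hB (by decide) (by decide) (hC 1 (by decide) 7 (by decide) (by decide) (by decide)) hT_1_7 (by norm_num) (by norm_num)
    (by intro p hp; simp at hp) hl0 hl1
  have h5 : InDer hB F 5 := hd_1_7.1
  have h3 : InDer hB F 3 := hd_1_7.2
  have hT_2_3 : chevB2.commTerms 2 3 = [(1, 1, 1, 1), (0, -1, 2, 1)] := by decide +kernel
  have hd_2_3 := inDer_of_double hB (by decide) (by decide) (hC 2 (by decide) 3 (by decide) (by decide) (by decide)) hT_2_3 (by norm_num) (by norm_num)
    (by intro p hp; simp at hp) hl0 hl1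
  have h1 : InDer hB F 1 := hd_2_3.1
  have h0 : InDer hB F 0 := hd_2_3.2
  have hT_2_7 : chevB2.commTerms 2 7 = [(6, 1, 1, 1), (4, -1, 2, 1)] := by decide +kernel
  have hd_2_7 := inDer_of_double hB (by decide) (by decide) (hC 2 (by decide) 7 (by decide) (by decide) (by decide)) hT_2_7 (by norm_num) (by norm_num)
    (by intro p hp; simp at hp) hl0 hl1
  have h6 : InDer hB F 6 := hd_2_7.1
  have h4 : InDer hB F 4 := hd_2_7.2
  have hT_5_4 : chevB2.commTerms 5 4 = [(6, -1, 1, 1), (7, -1, 2, 1)] := by decide +kernel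
  have hd_5_4 := inDer_of_double hB (by decide) (by decide) (hC 5 (by decide) 4 (by decide) (by decide) (by decide)) hT_5_4 (by norm_num) (by norm_num)
    (by intro p hp; simp at hp) hl0 hl1
  have h6 : InDer hB F 6 := hd_5_4.1
  have h7 : InDer hB F 7 := hd_5_4.2
  intro r hr
  have hr' : r < 8 := hr
  interval_cases r
  · exact h0
  · exact h1
  · exact h2
  · exact h3
  · exact h4
  · exact h5
  · exact h6
  · exact h7

theorem inDer_of_tabulated {D : ChevalleyDatum} {F : Type*} [Field F] (hD : IsTabulated D)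
    (h2 : D = chevG2 ∨ D = chevB2 → ∃ a : F, a ≠ 0 ∧ a ≠ 1) :
    ∀ r < D.nroots, InDer (basicOK_of_tabulated hD) F r := by
  have hC : ∀ r < D.nroots, ∀ s < D.nroots, s ≠ r → s ≠ D.neg r → CommF D F r s :=
    fun r hr s hs e1 e2 => commF_of_tabulated hD hr hs e1 e2
  generalize basicOK_of_tabulated hD = hB
  simp only [IsTabulated, List.mem_cons, List.not_mem_nil, or_false] at hD
  rcases hD with rfl | rfl | rfl | rfl | rfl | rfl | rfl
  · obtain ⟨l, hl0, hl1⟩ := h2 (Or.inl rfl)
    exact inDer_G2 hB hC hl0 hl1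
  · obtain ⟨l, hl0, hl1⟩ := h2 (Or.inr rfl)
    exact inDer_B2 hB hC hl0 hl1
  · exact inDer_of_singleChk hB hC singleChkD4
  · exact inDer_of_singleChk hB hC singleChkF4
  · exact inDer_of_singleChk hB hC singleChkE6
  · exact inDer_of_singleChk hB hC singleChkE7
  · exact inDer_of_singleChk hB hC singleChkE8

/-- the Chevalley group of a tabulated datum is perfect, `G₂(2)` and `B₂(2)` excepted -/
theorem perfect_of_tabulated {D : ChevalleyDatum} {F : Type*} [Field F] (hD : IsTabulated D)
    (h2 : D = chevG2 ∨ D = chevB2 → ∃ a : F, a ≠ 0 ∧ a ≠ 1) :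
    commutator ↥(D.group F) = ⊤ :=
  commutator_eq_top_of_inDer (basicOK_of_tabulated hD) (inDer_of_tabulated hD h2)

end Cfsg.Agent.Helper6
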