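import Mathlib
import Cfsg.Agent.Helper6.Chev.TablesIrred
import Cfsg.Agent.Helper6.Chev.TablesBN
import Cfsg.Agent.Helper6.Chev.PerfMain
import Cfsg.Agent.S1050
import Cfsg.Agent.S1051

set_option autoImplicit false

/-!
Simplicity of the Chevalley groups of the tabulated data.
-/

namespace Cfsg.Agent.Helper6

open Cfsg.Lie

/-- the Chevalley group of a tabulated datum is simple (and not commutative), `G₂(2)` and `B₂(2)`
excepted -/
theorem simple_of_tabulated {D : ChevalleyDatum} {F : Type*} [Field F] (hD : IsTabulated D)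
    (h2 : D = chevG2 ∨ D = chevB2 → ∃ a : F, a ≠ 0 ∧ a ≠ 1) :
    IsSimpleGroup ↥(D.group F) ∧ ¬ IsMulCommutative ↥(D.group F) := by
  obtain ⟨adj, hadj⟩ := connChk_of_tabulated hD
  exact (bnData_of_tabulated F hD).isSimpleGroup hadj (rank_pos_of_tabulated hD)
    (Cfsg.Agent.S1050.result D hD) (perfect_of_tabulated hD h2) (Cfsg.Agent.S1051.result D hD)

end Cfsg.Agent.Helper6
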