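import Mathlib
import Cfsg.Agent.Helper6.Chev.BNPairDef
import Cfsg.Agent.Helper6.Chev.Perfect

set_option autoImplicit false
set_option linter.unusedSectionVars false
set_option linter.unusedSimpArgs false
set_option linter.unusedVariables false

/-!
`P_J = ⟨H, X_r : r ∈ Φ⁺ ∪ Φ_J⟩`.
-/

namespace Cfsg.Agent.Helper6

open Cfsg.Lie

variable {D : ChevalleyDatum} {F : Type*} [Field F]

/-- the sum of the coefficients of the coroot on the fundamental coroots -/
def htC (D : ChevalleyDatum) (s : ℕ) : ℤ := sumLt D.rank fun i => corootC D s i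

/-- every non-fundamental root `s` of the upper half has a fundamental reflection `w_j`, with `j` in
the support of `s`, taking it to a root of the upper half of smaller height -/
def parChk (D : ChevalleyDatum) (N : ℕ) : Bool :=
  allLt D.nroots fun s => Nat.blt s N || (anyLt D.rank fun j => Nat.beq s (D.simple j)) ||
    anyLt D.rank fun j => decide (0 < corootC D s j) && Nat.ble N (wD D j s) &&
      decide (htC D (wD D j s) < htC D s)

namespace BNData

variable (Δ : BNData D F)

/-- the subgroup `⟨H, X_r : r ∈ Φ⁺ ∪ Φ_J⟩` -/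
def leviGen (D : ChevalleyDatum) (F : Type*) [Field F] (J : Set ℕ) : Subgroup (GL D.Idx F) :=
  D.diagonalSubgroup F ⊔ Subgroup.closure {g : GL D.Idx F | ∃ (r : ℕ) (t : F),
    (D.IsPosRoot r ∨ D.InRootSub J r) ∧ (g : Matrix D.Idx D.Idx F) = D.x F r t}

include Δ in
theorem xU_mem_leviGen {J : Set ℕ} {r : ℕ} (hr : D.IsPosRoot r ∨ D.InRootSub J r) (t : F) :
    xU Δ.hB r t ∈ leviGen D F J :=
  Subgroup.mem_sup_right (Subgroup.subset_closure ⟨r, t, hr, rfl⟩)

include Δ in
theorem inRootSub_simple_parab {J : Set ℕ} {j : ℕ} (hj : j < D.rank) (hjJ : j ∈ J) :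
    D.InRootSub J (D.simple j) := by
  refine ⟨(Δ.hAll j hj).hS.1, fun i hi hiJ => ?_⟩
  have := (Δ.hAll j hj).hE.1 i hi
  unfold corootC at this
  rw [this, if_neg]
  rintro rfl
  exact hiJ hjJ

include Δ in
theorem inRootSub_neg {J : Set ℕ} {r : ℕ} (hr : D.InRootSub J r) : D.InRootSub J (D.neg r) := by
  refine ⟨(Δ.hB.neg r hr.1).1, fun i hi hiJ => ?_⟩
  have h1 := (Δ.hB.negTab r hr.1).2 i hi
  have h2 := hr.2 i hi hiJ
  unfold corootC at h1
  rw [h1, h2, neg_zero]

include Δ in
theorem parabolic_le_leviGen (J : Set ℕ) : D.parabolicSubgroup F J ≤ leviGen D F J := by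
  unfold ChevalleyDatum.parabolicSubgroup ChevalleyDatum.borelSubgroup
  apply sup_le
  · apply sup_le
    · unfold ChevalleyDatum.posUnipotent leviGen
      refine le_trans (Subgroup.closure_mono ?_) le_sup_right
      rintro g ⟨r, t, h1, h2⟩
      exact ⟨r, t, Or.inl h1, h2⟩
    · exact le_sup_left
  · rw [Subgroup.closure_le]
    rintro g ⟨j, hjJ, hj, hg⟩
    have hp := (Δ.hAll j hj).hS.1
    have e : g = wordU Δ.hB (D.nWord (D.simple j) (1 : F)) :=
      Units.ext (by rw [hg, wordU_val]; rfl)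
    rw [e]
    have h1 := Δ.inRootSub_simple_parab hj hjJ
    have h2 := Δ.inRootSub_neg h1
    unfold ChevalleyDatum.nWord
    rw [wordU_cons, wordU_cons, wordU_cons, wordU_nil, mul_one]
    exact Subgroup.mul_mem _ (Δ.xU_mem_leviGen (Or.inr h1) _)
      (Subgroup.mul_mem _ (Δ.xU_mem_leviGen (Or.inr h2) _) (Δ.xU_mem_leviGen (Or.inr h1) _))

include Δ in
theorem nU_mem_parabolic {J : Set ℕ} {j : ℕ} (hj : j < D.rank) (hjJ : j ∈ J) :
    nU Δ.hB (D.simple j) (one_ne_zero (α := F)) ∈ D.parabolicSubgroup F J := by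
  unfold ChevalleyDatum.parabolicSubgroup
  apply Subgroup.mem_sup_right
  exact Subgroup.subset_closure ⟨j, hjJ, hj, nU_val Δ.hB _ _⟩

include Δ in
theorem xU_pos_mem_parabolic {J : Set ℕ} {r : ℕ} (hr : D.IsPosRoot r) (t : F) :
    xU Δ.hB r t ∈ D.parabolicSubgroup F J := by
  unfold ChevalleyDatum.parabolicSubgroup ChevalleyDatum.borelSubgroup
    ChevalleyDatum.posUnipotent
  exact Subgroup.mem_sup_left (Subgroup.mem_sup_left (Subgroup.subset_closure ⟨r, t, hr, rfl⟩))

include Δ in
theorem htC_nonneg {s : ℕ} (hs : D.IsPosRoot s) : 0 ≤ htC D s := by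
  unfold htC
  rw [sumLt_eq]
  apply Finset.sum_nonneg
  intro i hi
  unfold corootC
  have h2 := hs.2
  generalize D.coroot.getD s #[] = a at h2 ⊢
  by_cases h : i < a.size
  · apply h2
    rw [Array.getD_eq_getD_getElem?, Array.getElem?_eq_getElem h, Option.getD_some]
    exact Array.getElem_mem_toList h
  · rw [Array.getD_eq_getD_getElem?, Array.getElem?_eq_none (by omega), Option.getD_none]

include Δ in
/-- the negative of a positive root of `Φ_J` has its root subgroup in `P_J` -/
theorem xU_neg_mem_parabolic (hPar : parChk D (D.nroots / 2) = true) {J : Set ℕ} :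
    ∀ (k : ℕ) (s : ℕ), D.IsPosRoot s → D.InRootSub J s → (htC D s).toNat = k →
      ∀ t : F, xU Δ.hB (D.neg s) t ∈ D.parabolicSubgroup F J := by
  intro k
  induction k using Nat.strong_induction_on with
  | _ k ih =>
    intro s hs hsJ hk t
    have hsN := (Δ.hsign' s hs.1).1 hs
    have hchk := allLt_iff.1 hPar s hs.1
    simp only [Bool.or_eq_true, Nat.blt_eq] at hchk
    rcases hchk with (h1 | h1) | h1
    · omega
    · -- fundamental root
      obtain ⟨j, hj, hsj⟩ := anyLt_iff.1 h1
      rw [Nat.beq_eq] at hsj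
      subst hsj
      have hA := Δ.hAll j hj
      have hjJ : j ∈ J := by
        by_contra hjJ
        have h2 := hsJ.2 j hj hjJ
        have h3 := hA.hE.1 j hj
        unfold corootC at h3
        rw [h3, if_pos rfl] at h2
        exact one_ne_zero h2
      have hn := Δ.nU_mem_parabolic (F := F) hj hjJ
      have hx := Δ.xU_pos_mem_parabolic (J := J) hs (((etaR D (D.simple j) (D.simple j) : ℤ) : F) * t)
      have e := nU_conj_xU Δ.hB hA hA.hS.1
        (((etaR D (D.simple j) (D.simple j) : ℤ) : F) * t)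
      have hwpp : wR D (D.simple j) (D.simple j) = D.neg (D.simple j) := by
        unfold wR; rw [if_pos rfl]
      rw [hwpp, ← mul_assoc, etaR_sq Δ.hB hA hA.hS.1, one_mul] at e
      rw [← e]
      exact Subgroup.mul_mem _ (Subgroup.mul_mem _ hn hx) (Subgroup.inv_mem _ hn)
    · obtain ⟨j, hj, h2⟩ := anyLt_iff.1 h1
      simp only [Bool.and_eq_true, decide_eq_true_eq, Nat.ble_eq] at h2
      obtain ⟨⟨hcj, hwN⟩, hht⟩ := h2
      have hA := Δ.hAll j hj
      have hwD : wD D j s = wR D (D.simple j) s :=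
        wD_eq Δ.hF Δ.hn (fun s hs => wR_lt Δ.hB hA.hS.1 hA.hR hs) hs.1
      rw [hwD] at hwN hht
      have hws := wR_lt Δ.hB hA.hS.1 hA.hR hs.1
      have hs'pos : D.IsPosRoot (wR D (D.simple j) s) := (Δ.hsign' _ hws).2 hwN
      have hjJ : j ∈ J := by
        by_contra hjJ
        have h2 := hsJ.2 j hj hjJ
        unfold corootC at hcj
        rw [h2] at hcj
        exact lt_irrefl _ hcj
      have hs'J : D.InRootSub J (wR D (D.simple j) s) := by
        refine ⟨hws, fun i hi hiJ => ?_⟩
        have h3 := hA.hC.coroot s hs.1 i hi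
        unfold corootC at h3
        rw [h3, if_neg (by rintro rfl; exact hiJ hjJ), sub_zero]
        exact hsJ.2 i hi hiJ
      have hlt : (htC D (wR D (D.simple j) s)).toNat < k := by
        have h0 := Δ.htC_nonneg hs'pos
        have h0' := Δ.htC_nonneg hs
        omega
      have hn := Δ.nU_mem_parabolic (F := F) hj hjJ
      have hneg' := (Δ.hB.neg _ hws).1
      have hx := ih _ hlt _ hs'pos hs'J rfl
        (((etaR D (D.simple j) (D.neg (wR D (D.simple j) s)) : ℤ) : F) * t)
      have e := nU_conj_xU Δ.hB hA hneg'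
        (((etaR D (D.simple j) (D.neg (wR D (D.simple j) s)) : ℤ) : F) * t)
      rw [hA.hC.negw _ hws, wR_wR Δ.hB hA hs.1, ← mul_assoc, etaR_sq Δ.hB hA hneg', one_mul] at e
      rw [← e]
      exact Subgroup.mul_mem _ (Subgroup.mul_mem _ hn hx) (Subgroup.inv_mem _ hn)

include Δ in
theorem leviGen_le_parabolic (hPar : parChk D (D.nroots / 2) = true) (J : Set ℕ) :
    leviGen D F J ≤ D.parabolicSubgroup F J := by
  unfold leviGen
  apply sup_le
  · unfold ChevalleyDatum.parabolicSubgroup
    exact le_trans Δ.diag_le_borel le_sup_left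
  · rw [Subgroup.closure_le]
    rintro g ⟨r, t, hr, hg⟩
    have e : g = xU Δ.hB r t := Units.ext (by rw [hg, xU_val])
    rw [e]
    have hrlt : r < D.nroots := by
      rcases hr with h | h
      · exact h.1
      · exact h.1
    by_cases hpos : D.nroots / 2 ≤ r
    · exact Δ.xU_pos_mem_parabolic ((Δ.hsign' r hrlt).2 hpos) t
    · rcases hr with h | h
      · exact absurd ((Δ.hsign' r hrlt).1 h) hpos
      · have hneg : D.IsNegRoot r := ((Δ.hsign r hrlt).2).2 (by omega)
        have h1 : D.IsPosRoot (D.neg r) := by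
          have hlt : D.neg r < D.nroots := (Δ.hB.neg r hrlt).1
          exact (Δ.hsign' _ hlt).2 (Δ.hnegpos hrlt (by omega))
        have h2 := Δ.xU_neg_mem_parabolic hPar _ _ h1 (Δ.inRootSub_neg h) rfl t
        rwa [(Δ.hB.neg r hrlt).2.2] at h2

include Δ in
theorem parabolic_eq_leviGen (hPar : parChk D (D.nroots / 2) = true) (J : Set ℕ) :
    D.parabolicSubgroup F J = leviGen D F J :=
  le_antisymm (Δ.parabolic_le_leviGen J) (Δ.leviGen_le_parabolic hPar J)

end BNData

end Cfsg.Agent.Helper6
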