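import Mathlib
import Cfsg.Agent.Helper6.Chev.Add

set_option autoImplicit false

namespace Cfsg.Agent.Helper6

open Cfsg.Lie

/-- merge-style disjointness test for two strictly increasing lists -/
def disjMerge : ℕ → List ℕ → List ℕ → Bool
  | 0, _, _ => false
  | _ + 1, [], _ => true
  | _ + 1, _, [] => true
  | n + 1, x :: xs, y :: ys =>
    if x < y then disjMerge n xs (y :: ys) else if y < x then disjMerge n (x :: xs) ys else false

theorem disjMerge_sound : ∀ (n : ℕ) (l₁ l₂ : List ℕ), disjMerge n l₁ l₂ = true →
    l₁.Pairwise (· < ·) → l₂.Pairwise (· < ·) → ∀ x ∈ l₁, x ∉ l₂ := by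
  intro n
  induction n with
  | zero => intro l₁ l₂ h; simp [disjMerge] at h
  | succ n ih =>
    intro l₁ l₂ h h1 h2 x hx hx2
    match l₁, l₂, h, h1, h2, hx, hx2 with
    | [], _, _, _, _, hx, _ => simp at hx
    | _ :: _, [], _, _, _, _, hx2 => simp at hx2
    | a :: xs, b :: ys, h, h1, h2, hx, hx2 =>
      simp only [disjMerge] at h
      rw [List.pairwise_cons] at h1 h2
      split_ifs at h with hab hba
      · -- a < b
        rcases List.mem_cons.1 hx with rfl | hx'
        · rcases List.mem_cons.1 hx2 with rfl | hx2'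
          · exact lt_irrefl _ hab
          · exact lt_asymm hab (h2.1 _ hx2')
        · exact ih xs (b :: ys) h h1.2 (List.pairwise_cons.2 h2) x hx' hx2
      · -- b < a
        rcases List.mem_cons.1 hx2 with rfl | hx2'
        · rcases List.mem_cons.1 hx with rfl | hx'
          · exact lt_irrefl _ hba
          · exact lt_asymm hba (h1.1 _ hx')
        · exact ih (a :: xs) ys h (List.pairwise_cons.2 h1) h2.2 x hx hx2'

/-- fast sufficient criterion for `ChainRel` at the root `r` in simply-laced tables -/
def SLChainAt (D : ChevalleyDatum) (r : ℕ) : Prop :=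
  (∀ e ∈ (D.chain.getD r #[]).toList, e.2.toList.length = 1 ∧ ∀ a ∈ e.2.toList, MemOK D r a.1) ∧
  ((D.chain.getD r #[]).toList.flatMap (fun e => e.2.toList.map Prod.fst)).IsChain (· < ·) ∧
  disjMerge (2 * (D.chain.getD r #[]).toList.length + 1)
    ((D.chain.getD r #[]).toList.flatMap (fun e => e.2.toList.map Prod.fst))
    ((D.chain.getD r #[]).toList.map Prod.fst) = true

instance (D : ChevalleyDatum) (r : ℕ) : Decidable (SLChainAt D r) := by unfold SLChainAt; infer_instance

theorem chainOK_of_SL {D : ChevalleyDatum} (hK : KeysSorted D)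
    (h : ∀ r < D.nroots, SLChainAt D r) : ChainOK D := by
  intro r hr e he
  obtain ⟨h1, h2, h3⟩ := h r hr
  obtain ⟨hlen, hmem⟩ := h1 e he
  have hkeys := hK r hr
  rw [List.isChain_iff_pairwise] at hkeys h2
  have hdisj := disjMerge_sound _ _ _ h3 h2 hkeys
  match hL : e.2.toList, hlen, hmem with
  | [a], _, hmem =>
    refine ⟨hmem a (List.mem_singleton_self a), ?_⟩
    unfold ChevalleyDatum.chainEntry
    have : (D.chain.getD r #[]).toList.find? (fun e' => e'.1 = a.1) = none := by
      rw [List.find?_eq_none]
      intro e' he'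
      simp only [decide_eq_true_eq]
      intro heq
      apply hdisj a.1
      · rw [List.mem_flatMap]
        refine ⟨e, he, ?_⟩
        rw [hL]; simp
      · rw [← heq]; exact List.mem_map_of_mem he'
    rw [this]

end Cfsg.Agent.Helper6
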