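import Mathlib
import Cfsg.Agent.Helper6.Chev.BruhatNF2

set_option autoImplicit false
set_option linter.unusedSectionVars false
set_option linter.unusedSimpArgs false
set_option linter.unusedVariables false

/-!
Elements of `H` conjugate in the Chevalley group are conjugate under `N`.
-/

namespace Cfsg.Agent.Helper6

open Cfsg.Lie

variable {D : ChevalleyDatum} {F : Type*} [Field F]

namespace BNData

variable (Δ : BNData D F)

include Δ in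
/-- `H` normalises `U_w⁻` -/
theorem diag_conj_uneg {n h : GL D.Idx F} (hh : h ∈ D.diagonalSubgroup F) {c : GL D.Idx F}
    (hc : c ∈ Subgroup.closure (UnegGen D F n)) :
    h * c * h⁻¹ ∈ Subgroup.closure (UnegGen D F n) := by
  apply conj_closure_mem h _ c hc
  intro x hx
  obtain ⟨r, t, h1, h2, rfl⟩ := Δ.mem_unegGen_iff.1 hx
  obtain ⟨d, hd⟩ := Δ.diag_conj_xU hh h1.1
  rw [hd]
  apply Subgroup.subset_closure
  exact Δ.mem_unegGen_iff.2 ⟨r, d * t, h1, h2, rfl⟩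

include Δ in
theorem diag_conj_of_conj {h₁ h₂ g : GL D.Idx F} (h1 : h₁ ∈ D.diagonalSubgroup F)
    (h2 : h₂ ∈ D.diagonalSubgroup F) (hg : g ∈ D.group F) (hc : g * h₁ * g⁻¹ = h₂) :
    ∃ n ∈ D.monomialSubgroup F, n * h₁ * n⁻¹ = h₂ := by
  obtain ⟨b, hb, n, hn, u, hu, rfl⟩ := Δ.exists_normal_form hg
  have hnorm := monomial_le_normalizer Δ.hB Δ.hAll Δ.hH Δ.hReach hn
  have hnh : n * h₁ * n⁻¹ ∈ D.diagonalSubgroup F :=
    ((Subgroup.mem_normalizer_iff.1 hnorm) h₁).1 h1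
  have hu₁ : h₁⁻¹ * u * h₁ ∈ Subgroup.closure (UnegGen D F n) := by
    have := Δ.diag_conj_uneg (Subgroup.inv_mem _ h1) hu
    rwa [inv_inv] at this
  have e : b * (n * h₁ * n⁻¹) * n * (h₁⁻¹ * u * h₁) = h₂ * b * n * u := by
    rw [← hc]; group
  have huniq := Δ.normal_form_unique (Subgroup.mul_mem _ hb (Δ.diag_le_borel hnh))
    (Subgroup.mul_mem _ (Δ.diag_le_borel h2) hb) hn hn hu₁ hu e
  have e2 := (huniq.2 rfl).1
  -- `b = u₀ h₀`
  have hb' : b ∈ ((D.posUnipotent F ⊔ D.diagonalSubgroup F : Subgroup (GL D.Idx F)) :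
      Set (GL D.Idx F)) := hb
  rw [Subgroup.coe_mul_of_right_le_normalizer_left _ _
    (diagonal_le_normalizer_posUnipotent Δ.hB Δ.hAll Δ.hAdd Δ.hH), Set.mem_mul] at hb'
  obtain ⟨u₀, hu₀, h₀, hh₀, rfl⟩ := hb'
  have hn' : h₀ * n ∈ D.monomialSubgroup F := Subgroup.mul_mem _ (Δ.diag_le_monomial hh₀) hn
  refine ⟨h₀ * n, hn', ?_⟩
  have hnorm' := monomial_le_normalizer Δ.hB Δ.hAll Δ.hH Δ.hReach hn'
  have h3 : h₀ * n * h₁ * (h₀ * n)⁻¹ ∈ D.diagonalSubgroup F :=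
    ((Subgroup.mem_normalizer_iff.1 hnorm') h₁).1 h1
  set h₃ := h₀ * n * h₁ * (h₀ * n)⁻¹ with hh₃
  -- `u₀ h₃ u₀⁻¹ = h₂`
  have e3 : u₀ * h₃ * u₀⁻¹ = h₂ := by
    have : u₀ * h₃ * u₀⁻¹ = u₀ * h₀ * (n * h₁ * n⁻¹) * (u₀ * h₀)⁻¹ := by rw [hh₃]; group
    rw [this, e2]; group
  have hmem : h₂ * h₃⁻¹ ∈ D.posUnipotent F ⊓ D.diagonalSubgroup F := by
    refine ⟨?_, Subgroup.mul_mem _ h2 (Subgroup.inv_mem _ h3)⟩
    have : h₂ * h₃⁻¹ = u₀ * (h₃ * u₀⁻¹ * h₃⁻¹) := by rw [← e3]; group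
    rw [this]
    exact Subgroup.mul_mem _ hu₀ (Δ.diag_conj_posUnipotent h3 (Subgroup.inv_mem _ hu₀))
  rw [posUnipotent_inf_diagonal Δ.hB Δ.hH Δ.good, Subgroup.mem_bot] at hmem
  exact (mul_inv_eq_one.1 hmem).symm

end BNData

end Cfsg.Agent.Helper6
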