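import Cfsg.Agent.Helper6.Chev.CommReach
import Cfsg.Agent.Helper6.Chev.TablesFast

set_option autoImplicit false

namespace Cfsg.Agent.Helper6

open Cfsg.Lie

/-- representatives of the orbits of the Weyl group on ordered pairs of independent roots -/
def commBases_B2 : List (ℕ × ℕ) := [(0, 1), (0, 3), (0, 5), (1, 0), (1, 2), (1, 4)]

/-- the rows of the table of the distances of the pairs from the representatives -/
def commDepRow_B2 (r : ℕ) : ℕ :=
  bif Nat.blt r 4 then
    bif Nat.blt r 2 then
      bif Nat.blt r 1 then
        0x40010004000
      else
        0x2000800200000
    else
      bif Nat.blt r 3 then
        0x4080020200081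
      else
        0x4081000004081
  else
    bif Nat.blt r 6 then
      bif Nat.blt r 5 then
        0x60c1800008102
      else
        0x60c0030400102
    else
      bif Nat.blt r 7 then
        0x800203080c003
      else
        0x101840610180

/-- the rows of the chain table -/
def commPRow_B2 (r : ℕ) : ℕ :=
  bif Nat.blt r 4 then
    bif Nat.blt r 2 then
      bif Nat.blt r 1 then
        0xc09000001405000000000000000000000000000000000000000000000
      else
        0xa06c1600000000000000080d000a0140a000000000000001801000000000000000000
    else
      bif Nat.blt r 3 then
        0x60941a000000811000000000000000000000601406000000000000000801000000000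
      else
        0x1415000000000000000000000000000000000c05000000000000000000
  else
    bif Nat.blt r 6 then
      bif Nat.blt r 5 then
        0x1419000000000000000000000000000000000c09000000000
      else
        0x181d00000000000060ec1a00000000000000000000000180d000606c06
    else
      bif Nat.blt r 7 then
        0x81d000000000000a0ec16000001811000000000000a0940a
      else
        0xc19000001415000000000

/-- the packed table of the fundamental reflections -/
def commW_B2 : ℕ := 0x7050603040102000406020700050103

/-- the packed table of the signs of the fundamental reflections -/
def commE_B2 : ℕ := 0x5aff

set_option maxRecDepth 100000 in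
theorem basesChk_B2 : basesChk chevB2 commBases_B2 = true := by decide +kernel

set_option maxRecDepth 100000 in
theorem litChkC_B2 : litChkC chevB2 commPRow_B2 = true := by decide +kernel

end Cfsg.Agent.Helper6
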