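import Cfsg.Agent.Helper6.Chev.CommReach
import Cfsg.Agent.Helper6.Chev.TablesFast

set_option autoImplicit false

namespace Cfsg.Agent.Helper6

open Cfsg.Lie

/-- representatives of the orbits of the Weyl group on ordered pairs of independent roots -/
def commBases_G2 : List (ℕ × ℕ) := [(0, 1), (0, 2), (0, 4), (0, 6), (0, 8), (2, 0), (2, 3), (2, 5), (2, 7), (2, 10)]

/-- the rows of the table of the distances of the pairs from the representatives -/
def commDepRow_G2 (r : ℕ) : ℕ :=
  bif Nat.blt r 6 then
    bif Nat.blt r 3 then
      bif Nat.blt r 1 then
        0x408002000800200000
      else
        bif Nat.blt r 2 then
          0x40010202080820204001
        else
          0x20000100040010000080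
    else
      bif Nat.blt r 4 then
        0x40810004041010004081
      else
        bif Nat.blt r 5 then
          0x60c183000c1000408102
        else
          0x60c18306000020408102
  else
    bif Nat.blt r 9 then
      bif Nat.blt r 7 then
        0x8102040800003060c183
      else
        bif Nat.blt r 8 then
          0x8102040010180060c183
        else
          0xa142800a102840010204
    else
      bif Nat.blt r 10 then
        0xc140060a182860a00305
      else
        bif Nat.blt r 11 then
          0xa0028508142050810004
        else
          0x183050c143050c14280

/-- the rows of the chain table -/
def commPRow_G2 (r : ℕ) : ℕ :=
  bif Nat.blt r 6 then
    bif Nat.blt r 3 then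
      bif Nat.blt r 1 then
        0xc15000000c0d000001409000000000000001405000000000000000000000000000000000000000000000000000000
      else
        bif Nat.blt r 2 then
          0xc19000000000000000c11000000000000001409000000000000001401000000000000000000000000000000000000000000000
        else
          0x301608c23500a06c1f000000000000e0381200020080e000000000000000000000001c05000001c01000000000000000000000000000
    else
      bif Nat.blt r 4 then
        0x305a0f42700000000000020b81e000000000000000415500605413000000000000e0080a000000000000000401000000000000000000
      else
        bif Nat.blt r 5 then
          0x506611427000e0c822000000419000000000000000000301a0540f00000000000020380a000000405000000000000000000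
        else
          0x142900000000000000000000000141d000000000000000000000000000000000c0d000000000000000000000000c01000000000
  else
    bif Nat.blt r 9 then
      bif Nat.blt r 7 then
        0x142d000000000000000000000001421000000000000000000000000000000000c11000000000000000000000000c05
      else
        bif Nat.blt r 8 then
          0x1c2900021482600000000050aa12c23000000000000000000000001c15000e0b80e305606c0b000000000
        else
          0x1c2d000000000000e1782600000000030b612c1f000001c1900000000000020c812000000000506a08c0b
    else
      bif Nat.blt r 10 then
        0x42d000000429000000000000000000000217822000e1481e00000000030ba1141350a60f40f
      else
        bif Nat.blt r 11 then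
          0xc2d000000000000000c2500000000000000141d000000000000001415
        else
          0xc29000000000000000c25000001421000001419000000000

/-- the packed table of the fundamental reflections -/
def commW_G2 : ℕ := 0xa0b090708050603040200010b060809040a010702030500

/-- the packed table of the signs of the fundamental reflections -/
def commE_G2 : ℕ := 0x969696

set_option maxRecDepth 100000 in
theorem basesChk_G2 : basesChk chevG2 commBases_G2 = true := by decide +kernel

set_option maxRecDepth 100000 in
theorem litChkC_G2 : litChkC chevG2 commPRow_G2 = true := by decide +kernel

end Cfsg.Agent.Helper6
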