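import Cfsg.Agent.Helper6.Chev.TablesFast

set_option autoImplicit false

namespace Cfsg.Agent.Helper6

open Cfsg.Lie

set_option maxRecDepth 100000 in
theorem simpleChk_G2 : (allLt chevG2.rank fun i => simpleChk chevG2 i) = true := by decide +kernel
set_option maxRecDepth 100000 in
theorem simpleChk_B2 : (allLt chevB2.rank fun i => simpleChk chevB2 i) = true := by decide +kernel
set_option maxRecDepth 100000 in
theorem simpleChk_D4 : (allLt chevD4.rank fun i => simpleChk chevD4 i) = true := by decide +kernel
set_option maxRecDepth 100000 in
theorem simpleChk_F4 : (allLt chevF4.rank fun i => simpleChk chevF4 i) = true := by decide +kernel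
set_option maxRecDepth 100000 in
theorem simpleChk_E6 : (allLt chevE6.rank fun i => simpleChk chevE6 i) = true := by decide +kernel

end Cfsg.Agent.Helper6
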