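import Mathlib
import Cfsg.Agent.Helper6.Chev.ParabGen
import Cfsg.Agent.Helper6.Chev.TablesBN

set_option autoImplicit false

namespace Cfsg.Agent.Helper6

open Cfsg.Lie

set_option maxRecDepth 100000 in
theorem parChk_of_tabulated {D : ChevalleyDatum} (hD : IsTabulated D) :
    parChk D (D.nroots / 2) = true := by
  simp only [IsTabulated, List.mem_cons, List.not_mem_nil, or_false] at hD
  rcases hD with rfl | rfl | rfl | rfl | rfl | rfl | rfl <;> decide +kernel

/-- `P_J = ⟨H, X_r : r ∈ Φ⁺ ∪ Φ_J⟩` for the tabulated data -/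
theorem parabolic_eq_of_tabulated {D : ChevalleyDatum} (F : Type*) [Field F] (hD : IsTabulated D)
    (J : Set ℕ) : D.parabolicSubgroup F J = BNData.leviGen D F J :=
  (bnData_of_tabulated F hD).parabolic_eq_leviGen (parChk_of_tabulated hD) J

end Cfsg.Agent.Helper6
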